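import Groth.Agent.Lib.Helper23.ClosedOrbit
import Mathlib.RingTheory.KrullDimension.NonZeroDivisors
import Mathlib.RingTheory.KrullDimension.Polynomial
import Mathlib.RingTheory.KrullDimension.Field
import Mathlib.RingTheory.Spectrum.Prime.Jacobson
import Mathlib.RingTheory.Ideal.GoingUp

/-!
# Dimension of orbit closures, coaction form (helper23)

* `ringKrullDim_quotient_succ_le_of_forall_exists_lt`: chain-extension criterion for
  `dim R/J + 1 ≤ dim R/I`.
* `ringKrullDim_lt_top_of_finiteType`: finitely generated algebras over a field have finite dimension.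
* `ringKrullDim_eq_of_isIntegral_of_injective`.
* `ker_orbitHom_actPt`: the orbit closure ideal is invariant under translation.
* `ringKrullDim_succ_le_of_not_mem_orbit`: **the boundary of an orbit has smaller dimension**.
* `isClosedOrbit_of_forall_point`: the orbit (image of `Spec A → Spec R`) is closed as soon as every
  rational point of its closure lies in the orbit.
-/

set_option autoImplicit false
universe u v w w'

open TensorProduct Groth.Agent.Lib.Helper75 Groth.Agent.Lib.Helper23.Reynolds
open Groth.Agent.Lib.Helper23.GITAffine Groth.Agent.Lib.Helper23.ClosedOrbit Topology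

namespace Groth.Agent.Lib.Helper23.OrbitDim

section Dim

/-- chain-extension criterion: if every prime over `J` strictly contains a prime over `I` then
`dim R/J + 1 ≤ dim R/I`. -/
theorem ringKrullDim_quotient_succ_le_of_forall_exists_lt {R : Type*} [CommRing R] (I J : Ideal R)
    (h : ∀ q : Ideal R, q.IsPrime → J ≤ q → ∃ η : Ideal R, η.IsPrime ∧ I ≤ η ∧ η < q) :
    ringKrullDim (R ⧸ J) + 1 ≤ ringKrullDim (R ⧸ I) := by
  by_cases hJ : J = ⊤
  · have : Subsingleton (R ⧸ J) := Ideal.Quotient.subsingleton_iff.mpr hJ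
    rw [ringKrullDim_eq_bot_of_subsingleton]
    simp
  have hneJ : Nonempty (PrimeSpectrum.zeroLocus (R := R) J) := by
    rwa [Set.nonempty_coe_sort, Set.nonempty_iff_ne_empty, ne_eq,
      PrimeSpectrum.zeroLocus_empty_iff_eq_top]
  have hIle : ∀ q : PrimeSpectrum R, q ∈ PrimeSpectrum.zeroLocus (R := R) J →
      q ∈ PrimeSpectrum.zeroLocus (R := R) I := by
    intro q hq
    obtain ⟨η, -, hIη, hlt⟩ := h q.asIdeal q.isPrime hq
    exact fun a ha => hlt.le (hIη ha)
  have hneI : Nonempty (PrimeSpectrum.zeroLocus (R := R) I) := by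
    obtain ⟨q, hq⟩ := hneJ
    exact ⟨q, hIle q hq⟩
  rw [ringKrullDim_quotient, ringKrullDim_quotient, Order.krullDim_eq_iSup_length,
    Order.krullDim_eq_iSup_length, ← WithBot.coe_one, ← WithBot.coe_add,
    ENat.iSup_add, WithBot.coe_le_coe, iSup_le_iff]
  intro l
  obtain ⟨η, hη, hIη, hlt⟩ := h l.head.1.asIdeal l.head.1.isPrime l.head.2
  let p' : PrimeSpectrum.zeroLocus (R := R) I := ⟨⟨η, hη⟩, hIη⟩
  let ι : PrimeSpectrum.zeroLocus (R := R) J → PrimeSpectrum.zeroLocus (R := R) I :=
    fun q => ⟨q.1, hIle q.1 q.2⟩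
  have hι : StrictMono ι := fun a b hab => hab
  have hp' : p' < (l.map ι hι).head := hlt
  refine le_trans ?_ (le_iSup _ ((l.map ι hι).cons p' hp'))
  simp

theorem ringKrullDim_lt_top_of_finiteType (K : Type*) [Field K] (R : Type*) [CommRing R]
    [Algebra K R] [Algebra.FiniteType K R] : ringKrullDim R < ⊤ := by
  obtain ⟨n, f, hf⟩ := Algebra.FiniteType.iff_quotient_mvPolynomial''.mp
    (inferInstance : Algebra.FiniteType K R)
  refine lt_of_le_of_lt (ringKrullDim_le_of_surjective (f : MvPolynomial (Fin n) K →+* R) hf) ?_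
  rw [MvPolynomial.ringKrullDim_of_isNoetherianRing, ringKrullDim_eq_zero_of_field]
  simp only [zero_add, Nat.card_eq_fintype_card, Fintype.card_fin]
  have h : ((n : ℕ∞) : WithBot ℕ∞) < ((⊤ : ℕ∞) : WithBot ℕ∞) :=
    WithBot.coe_lt_coe.mpr (ENat.natCast_lt_top n)
  exact h

/-- An injective integral ring homomorphism preserves Krull dimension. -/
theorem ringKrullDim_eq_of_isIntegral_of_injective {R S : Type*} [CommRing R] [CommRing S]
    (f : R →+* S) (hf : f.IsIntegral) (hinj : Function.Injective f) :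
    ringKrullDim R = ringKrullDim S := by
  algebraize [f]
  apply le_antisymm
  · unfold ringKrullDim
    refine iSup_le fun l => ?_
    have hker : (⊥ : Ideal S).comap (algebraMap R S) ≤ l.head.asIdeal := by
      have hinj' : Function.Injective (algebraMap R S) := hinj
      rw [← RingHom.ker_eq_comap_bot, (RingHom.injective_iff_ker_eq_bot _).mp hinj']
      exact bot_le
    obtain ⟨P, -, hP, hPl⟩ := Ideal.exists_ideal_over_prime_of_isIntegral l.head.asIdeal ⊥ hker
    have : P.LiesOver l.head.asIdeal := ⟨hPl.symm⟩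
    obtain ⟨L, hL, -, -⟩ := Ideal.exists_ltSeries_of_hasGoingUp l P
    rw [← hL]
    exact Order.LTSeries.length_le_krullDim L
  · unfold ringKrullDim
    refine Order.krullDim_le_of_strictMono (PrimeSpectrum.comap (algebraMap R S)) ?_
    intro P Q hPQ
    have := Ideal.IsIntegral.comap_lt_comap (R := R) (I := P.asIdeal) (J := Q.asIdeal) hPQ
    exact this

end Dim

section Orbit

variable {K : Type u} [Field K] [IsAlgClosed K] {A : Type v} [CommRing A] [HopfAlgebra K A]
  [Algebra.FiniteType K A]
variable {R : Type w} [CommRing R] [Algebra K R] [Algebra.FiniteType K R] [HopfRep.Comod K A R]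
  [GLin.IsCoactAlg K A R]

omit [IsAlgClosed K] [Algebra.FiniteType K A] [Algebra.FiniteType K R] in
/-- the ideal of the orbit closure is invariant under translation of the point -/
theorem ker_orbitHom_actPt (g : A →ₐ[K] K) (x : R →ₐ[K] K) :
    RingHom.ker (GLin.orbitHom K A (GLin.actPt K g x) : R →+* A) =
      RingHom.ker (GLin.orbitHom K A x : R →+* A) := by
  have key : ∀ (g : A →ₐ[K] K) (x : R →ₐ[K] K),
      RingHom.ker (GLin.orbitHom K A x : R →+* A) ≤
        RingHom.ker (GLin.orbitHom K A (GLin.actPt K g x) : R →+* A) := by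
    intro g x
    apply le_ker_orbitHom_of_le_ker _ _ (isSubcomod_ker_orbitHom x)
    exact le_ker_actPt_of_le_ker x _ (isSubcomod_ker_orbitHom x) (ker_orbitHom_le_ker x) g
  apply le_antisymm
  · have := key ((WithConv.toConv g)⁻¹).ofConv (GLin.actPt K g x)
    rwa [actPt_inv_actPt] at this
  · exact key g x

omit [Algebra.FiniteType K R] in
/-- a rational point of `R` lying in the image of `Spec A → Spec R` is in the orbit -/
theorem exists_actPt_of_comap_eq (x w : R →ₐ[K] K) (p : Ideal A) (hp : p.IsPrime)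
    (h : p.comap (GLin.orbitHom K A x : R →+* A) = RingHom.ker (w : R →+* K)) :
    ∃ g : A →ₐ[K] K, w = GLin.actPt K g x := by
  obtain ⟨g, hg⟩ := exists_point_of_ne_top (K := K) p hp.ne_top
  refine ⟨g, (algHom_eq_of_ker_le ?_).symm⟩
  intro r hr
  rw [← h, Ideal.mem_comap] at hr
  exact hg hr

/-- **The boundary of an orbit has smaller dimension**: if `z` is a rational point of the closure of
the orbit of `x` which is not in the orbit, then `dim cl(G z) + 1 ≤ dim cl(G x)`. -/
theorem ringKrullDim_succ_le_of_not_mem_orbit (x z : R →ₐ[K] K)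
    (hz : RingHom.ker (GLin.orbitHom K A x : R →+* A) ≤ RingHom.ker (z : R →+* K))
    (hnot : ∀ g : A →ₐ[K] K, z ≠ GLin.actPt K g x) :
    ringKrullDim (R ⧸ RingHom.ker (GLin.orbitHom K A z : R →+* A)) + 1 ≤
      ringKrullDim (R ⧸ RingHom.ker (GLin.orbitHom K A x : R →+* A)) := by
  have hxz : RingHom.ker (GLin.orbitHom K A x : R →+* A) ≤
      RingHom.ker (GLin.orbitHom K A z : R →+* A) :=
    le_ker_orbitHom_of_le_ker z _ (isSubcomod_ker_orbitHom x) hz
  have hJ : IsJacobsonRing R := isJacobsonRing_of_finiteType (A := K) (B := R)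
  apply ringKrullDim_quotient_succ_le_of_forall_exists_lt
  intro q hq hzq
  obtain ⟨η, hη, hηq⟩ := Ideal.exists_minimalPrimes_le (hxz.trans hzq)
  have hηprime : η.IsPrime := hη.1.1
  obtain ⟨f, hfη, Hf⟩ := exists_notMem_forall_mem_range _
    (finitePresentation_orbitHom (A := A) x) η hη
  refine ⟨η, hηprime, hη.1.2, lt_of_le_of_ne hηq ?_⟩
  rintro rfl
  -- `f ∉ q = η`: find a maximal ideal over `q` avoiding `f`
  have hjac := hJ.out hηprime.isRadical
  rw [← hjac, Ideal.jacobson, Ideal.mem_sInf] at hfη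
  push Not at hfη
  obtain ⟨m, ⟨hηm, hm⟩, hfm⟩ := hfη
  obtain ⟨p, hp, hpm⟩ := Hf m hm.isPrime hηm hfm
  obtain ⟨w, hw0⟩ := exists_point_of_isMaximal (K := K) m
  have hw : RingHom.ker (w : R →+* K) = m := hw0
  obtain ⟨g, hg⟩ := exists_actPt_of_comap_eq x w p hp (hpm.trans hw.symm)
  -- `w = g x` lies in the closure of the orbit of `z`
  have hzw : RingHom.ker (GLin.orbitHom K A z : R →+* A) ≤ RingHom.ker (w : R →+* K) := by
    rw [hw]
    exact hzq.trans hηm
  have h1 : RingHom.ker (GLin.orbitHom K A z : R →+* A) ≤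
      RingHom.ker (GLin.orbitHom K A w : R →+* A) :=
    le_ker_orbitHom_of_le_ker w _ (isSubcomod_ker_orbitHom z) hzw
  rw [hg, ker_orbitHom_actPt] at h1
  obtain ⟨a, ha⟩ := exists_actPt_of_ker_orbitHom_eq x z (le_antisymm hxz h1)
  exact hnot a ha

/-- the orbit of `x` is closed as soon as every rational point of its closure lies in the orbit -/
theorem isClosedOrbit_of_forall_point (x : R →ₐ[K] K)
    (h : ∀ z : R →ₐ[K] K, RingHom.ker (GLin.orbitHom K A x : R →+* A) ≤ RingHom.ker (z : R →+* K) →
      ∃ g : A →ₐ[K] K, z = GLin.actPt K g x) :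
    GLin.IsClosedOrbit K A x := by
  have hN : IsNoetherianRing R := Algebra.FiniteType.isNoetherianRing K R
  have hJ : IsJacobsonRing R := isJacobsonRing_of_finiteType (A := K) (B := R)
  unfold GLin.IsClosedOrbit
  set T := Set.range (PrimeSpectrum.comap (GLin.orbitHom K A x).toRingHom) with hT
  have hTc : IsConstructible T :=
    PrimeSpectrum.isConstructible_range_comap (finitePresentation_orbitHom (A := A) x)
  set I := RingHom.ker (GLin.orbitHom K A x : R →+* A) with hI
  have hVc : IsConstructible (PrimeSpectrum.zeroLocus (I : Set R)) :=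
    ((PrimeSpectrum.isRetrocompact_zeroLocus_compl_of_fg (IsNoetherian.noetherian I)).isConstructible
      (PrimeSpectrum.isClosed_zeroLocus _).isOpen_compl).of_compl
  have hcl : closure T = PrimeSpectrum.zeroLocus (I : Set R) := PrimeSpectrum.closure_range_comap _
  suffices hsub : PrimeSpectrum.zeroLocus (I : Set R) ⊆ T by
    have : T = PrimeSpectrum.zeroLocus (I : Set R) :=
      le_antisymm (hcl ▸ subset_closure) hsub
    rw [this]
    exact PrimeSpectrum.isClosed_zeroLocus _
  by_contra hns
  have hne : (PrimeSpectrum.zeroLocus (I : Set R) \ T).Nonempty := by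
    rw [Set.not_subset] at hns
    obtain ⟨q, hq, hqT⟩ := hns
    exact ⟨q, hq, hqT⟩
  obtain ⟨S, hS⟩ := PrimeSpectrum.exists_constructibleSetData_iff.mpr (hVc.sdiff hTc)
  rw [← hS] at hne
  obtain ⟨q, hq⟩ := hne
  simp only [PrimeSpectrum.ConstructibleSetData.toSet, Set.mem_iUnion] at hq
  obtain ⟨C, hC, hqC⟩ := hq
  have hlc : IsLocallyClosed C.toSet :=
    (PrimeSpectrum.isClosed_zeroLocus _).isLocallyClosed.inter
      (PrimeSpectrum.isClosed_zeroLocus _).isOpen_compl.isLocallyClosed
  obtain ⟨m, hmC, hmcl⟩ := nonempty_inter_closedPoints ⟨q, hqC⟩ hlc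
  have hmS : m ∈ S.toSet := by
    simp only [PrimeSpectrum.ConstructibleSetData.toSet, Set.mem_iUnion]
    exact ⟨C, hC, hmC⟩
  rw [hS] at hmS
  have hmmax : m.asIdeal.IsMaximal := (PrimeSpectrum.isClosed_singleton_iff_isMaximal m).mp hmcl
  obtain ⟨z, hz0⟩ := exists_point_of_isMaximal (K := K) m.asIdeal
  have hz : RingHom.ker (z : R →+* K) = m.asIdeal := hz0
  obtain ⟨g, hg⟩ := h z (by rw [hz]; exact hmS.1)
  apply hmS.2
  refine ⟨⟨RingHom.ker (g : A →+* K), RingHom.ker_isPrime _⟩, ?_⟩
  apply PrimeSpectrum.ext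
  rw [← hz, hg]
  rfl

end Orbit

section Equivariant

variable {K : Type u} [Field K] {A : Type v} [CommRing A] [Bialgebra K A]
variable {S : Type w} [CommRing S] [Algebra K S] [HopfRep.Comod K A S] [GLin.IsCoactAlg K A S]
variable {R : Type w'} [CommRing R] [Algebra K R] [HopfRep.Comod K A R] [GLin.IsCoactAlg K A R]

/-- the orbit map of the image of a point under an equivariant map -/
theorem orbitHom_comp (ι : S →ₐ[K] R)
    (hequiv : ∀ s : S, HopfRep.Comod.coact (k := K) (A := A) (ι s) =
      Algebra.TensorProduct.map ι (AlgHom.id K A) (HopfRep.Comod.coact (k := K) (A := A) s))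
    (x : R →ₐ[K] K) : GLin.orbitHom K A (x.comp ι) = (GLin.orbitHom K A x).comp ι := by
  apply AlgHom.ext
  intro s
  simp only [GLin.orbitHom, AlgHom.coe_comp, Function.comp_apply, GLin.coactAlgHom_apply]
  rw [hequiv]
  generalize HopfRep.Comod.coact (k := K) (A := A) s = t
  induction t using TensorProduct.induction_on with
  | zero => simp
  | tmul r a => simp
  | add t₁ t₂ h₁ h₂ => simp only [map_add, h₁, h₂]

theorem actPt_comp (ι : S →ₐ[K] R)
    (hequiv : ∀ s : S, HopfRep.Comod.coact (k := K) (A := A) (ι s) =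
      Algebra.TensorProduct.map ι (AlgHom.id K A) (HopfRep.Comod.coact (k := K) (A := A) s))
    (g : A →ₐ[K] K) (x : R →ₐ[K] K) :
    GLin.actPt K g (x.comp ι) = (GLin.actPt K g x).comp ι := by
  unfold GLin.actPt
  rw [orbitHom_comp ι hequiv]
  rfl

theorem ker_orbitHom_comp (ι : S →ₐ[K] R)
    (hequiv : ∀ s : S, HopfRep.Comod.coact (k := K) (A := A) (ι s) =
      Algebra.TensorProduct.map ι (AlgHom.id K A) (HopfRep.Comod.coact (k := K) (A := A) s))
    (x : R →ₐ[K] K) :
    RingHom.ker (GLin.orbitHom K A (x.comp ι) : S →+* A) =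
      (RingHom.ker (GLin.orbitHom K A x : R →+* A)).comap (ι : S →+* R) := by
  rw [orbitHom_comp ι hequiv]
  ext s
  simp only [RingHom.mem_ker, Ideal.mem_comap]
  rfl

end Equivariant

section FiniteMap

theorem ringKrullDim_quotient_comap_eq {S R : Type*} [CommRing S] [CommRing R] (f : S →+* R)
    (hf : f.IsIntegral) (I : Ideal R) :
    ringKrullDim (S ⧸ I.comap f) = ringKrullDim (R ⧸ I) :=
  ringKrullDim_eq_of_isIntegral_of_injective (Ideal.quotientMap I f le_rfl) hf.quotient
    Ideal.quotientMap_injective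

theorem not_add_one_le_self {d : WithBot ℕ∞} (h0 : d ≠ ⊥) (ht : d < ⊤) : ¬ d + 1 ≤ d := by
  induction d with
  | bot => exact absurd rfl h0
  | coe d =>
    induction d with
    | top => exact absurd ht (lt_irrefl _)
    | coe n =>
      intro h
      have h' : ((n + 1 : ℕ) : WithBot ℕ∞) ≤ ((n : ℕ) : WithBot ℕ∞) := by
        push_cast
        exact h
      have : n + 1 ≤ n := by exact_mod_cast h'
      omega

variable {K : Type u} [Field K] [IsAlgClosed K] {A : Type v} [CommRing A] [HopfAlgebra K A]
  [Algebra.FiniteType K A]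
variable {S : Type w} [CommRing S] [Algebra K S] [Algebra.FiniteType K S] [HopfRep.Comod K A S]
  [GLin.IsCoactAlg K A S]
variable {R : Type w'} [CommRing R] [Algebra K R] [Algebra.FiniteType K R] [HopfRep.Comod K A R]
  [GLin.IsCoactAlg K A R]

omit [Algebra.FiniteType K S] in
/-- for a finite (integral) equivariant map `X → Y`, the orbit of `x` is closed iff the orbit of its
image is closed -/
theorem isClosedOrbit_comp_iff (ι : S →ₐ[K] R) (hint : (ι : S →+* R).IsIntegral)
    (hequiv : ∀ s : S, HopfRep.Comod.coact (k := K) (A := A) (ι s) =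
      Algebra.TensorProduct.map ι (AlgHom.id K A) (HopfRep.Comod.coact (k := K) (A := A) s))
    (x : R →ₐ[K] K) :
    GLin.IsClosedOrbit K A x ↔ GLin.IsClosedOrbit K A (x.comp ι) := by
  constructor
  · intro h
    unfold GLin.IsClosedOrbit at h ⊢
    have hcl := PrimeSpectrum.isClosedMap_comap_of_isIntegral (ι : S →+* R) hint _ h
    convert hcl using 1
    rw [orbitHom_comp ι hequiv, ← Set.range_comp]
    rfl
  · intro h
    apply isClosedOrbit_of_forall_point
    intro z hz
    by_contra hnot
    push Not at hnot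
    have hBL := ringKrullDim_succ_le_of_not_mem_orbit x z hz hnot
    -- the image of `z` lies in the closure of the orbit of the image of `x`, hence in the orbit
    have hz' : RingHom.ker (GLin.orbitHom K A (x.comp ι) : S →+* A) ≤
        RingHom.ker ((z.comp ι : S →ₐ[K] K) : S →+* K) := by
      rw [ker_orbitHom_comp ι hequiv]
      intro s hs
      exact hz hs
    obtain ⟨g, hg⟩ := exists_actPt_eq_of_isClosedOrbit h hz'
    have h1 : ringKrullDim (R ⧸ RingHom.ker (GLin.orbitHom K A x : R →+* A)) =
        ringKrullDim (S ⧸ RingHom.ker (GLin.orbitHom K A (x.comp ι) : S →+* A)) := by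
      rw [ker_orbitHom_comp ι hequiv]
      exact (ringKrullDim_quotient_comap_eq _ hint _).symm
    have h2 : ringKrullDim (R ⧸ RingHom.ker (GLin.orbitHom K A z : R →+* A)) =
        ringKrullDim (S ⧸ RingHom.ker (GLin.orbitHom K A (x.comp ι) : S →+* A)) := by
      rw [← ker_orbitHom_actPt g (x.comp ι), ← hg, ker_orbitHom_comp ι hequiv]
      exact (ringKrullDim_quotient_comap_eq _ hint _).symm
    rw [h1, ← h2] at hBL
    refine not_add_one_le_self ?_ ?_ hBL
    · have hnt : Nontrivial (R ⧸ RingHom.ker (GLin.orbitHom K A z : R →+* A)) :=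
        Ideal.Quotient.nontrivial_iff.mpr (ker_orbitHom_ne_top (A := A) z)
      exact (ringKrullDim_nonneg_of_nontrivial.trans_lt' (WithBot.bot_lt_coe 0)).ne'
    · have : Algebra.FiniteType K (R ⧸ RingHom.ker (GLin.orbitHom K A z : R →+* A)) :=
        Algebra.FiniteType.of_surjective (Ideal.Quotient.mkₐ K _)
          (Ideal.Quotient.mkₐ_surjective K _)
      exact ringKrullDim_lt_top_of_finiteType K _

end FiniteMap

end Groth.Agent.Lib.Helper23.OrbitDim
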