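import Mathlib
import Groth.Agent.S5342

/-!
# Geometric connectedness from a rational point; connectedness of extensions (helper23)
-/

set_option autoImplicit false

namespace Groth.Agent.Lib.Helper23.GeomConnGroup

universe u
open CategoryTheory AlgebraicGeometry Limits

/-- A connected scheme over a field with a rational point is geometrically connected
(via S5342, helper's landed statement). -/
theorem geometricallyConnected_of_section {k : Type u} [Field k] {X : Scheme.{u}}
    (f : X ⟶ Spec (CommRingCat.of k)) [ConnectedSpace X] (x : Spec (CommRingCat.of k) ⟶ X)
    (hx : x ≫ f = 𝟙 _) : GeometricallyConnected f := by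
  rw [geometricallyConnected_iff, geometrically_iff_of_isClosedUnderIsomorphisms]
  intro K _ y
  exact Groth.Agent.S5342.result k X (Spec (CommRingCat.of K)) f y x hx

/-- If `q : G ⟶ Q` is open and surjective, `Q` is connected, and the first projection of
`G ×_Q G` (presented as `GN` with projections `p`, `m`) is geometrically connected, then `G` is
connected. -/
theorem connectedSpace_of_isPullback {G Q GN : Scheme.{u}} (q : G ⟶ Q) (p m : GN ⟶ G)
    (sq : IsPullback p m q q) [GeometricallyConnected p] [Surjective q]
    (hopen : IsOpenMap q.base) [ConnectedSpace Q] : ConnectedSpace G := by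
  have hfib : ∀ y : Q, _root_.IsConnected (q.base ⁻¹' {y}) := by
    intro y
    obtain ⟨g, hg⟩ := q.surjective y
    have himg : q.base ⁻¹' {y} = m.base '' (p.base ⁻¹' {g}) := by
      ext g'
      constructor
      · intro hg'
        have hgg' : q.base g = q.base g' := hg.trans (Set.mem_singleton_iff.1 hg').symm
        obtain ⟨z, hz1, hz2⟩ := Scheme.Pullback.exists_preimage_pullback (f := q) (g := q) g g' hgg'
        refine ⟨sq.isoPullback.inv.base z, ?_, ?_⟩
        · show p.base (sq.isoPullback.inv.base z) = g
          have : sq.isoPullback.inv ≫ p = pullback.fst q q := sq.isoPullback_inv_fst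
          rw [← hz1, ← this]
          rfl
        · have : sq.isoPullback.inv ≫ m = pullback.snd q q := sq.isoPullback_inv_snd
          rw [← hz2, ← this]
          rfl
      · rintro ⟨z, hz, rfl⟩
        have hz' : p.base z = g := hz
        show q.base (m.base z) = y
        have h1 : (m ≫ q).base z = (p ≫ q).base z := by rw [sq.w]
        have h2 : q.base (m.base z) = q.base (p.base z) := h1
        rw [h2, hz', hg]
    rw [himg]
    exact (p.isConnected_preimage_singleton g).image _ m.continuous.continuousOn
  have hco : Topology.IsCoinducing q.base :=
    (hopen.isQuotientMap q.continuous q.surjective).isCoinducing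
  have := hco.isConnected_preimage_of_isClosed hfib isClosed_univ isConnected_univ
  rw [Set.preimage_univ] at this
  exact connectedSpace_iff_univ.2 this

end Groth.Agent.Lib.Helper23.GeomConnGroup
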