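import Mathlib

/-!
# Affine group schemes and Hopf algebras: a bridge (helper23)

Unbundled access to Mathlib's `hopfSpec` equivalence:
* `exists_hopfModel` : an affine group scheme over `Spec R` is isomorphic (as a group object) to
  `hopfSpec` of a Hopf algebra;
* `exists_hopfModel_hom` : homomorphisms of affine group schemes come from bialgebra maps;
* `pointAlgHom`, `pointOfAlgHom` : `R`-points of `Spec A` over `Spec R` versus algebra maps `A → R`.
-/

set_option autoImplicit false

namespace Groth.Agent.Lib.Helper23.AffGrpHopf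

universe u
open CategoryTheory MonoidalCategory CartesianMonoidalCategory MonObj GrpObj AlgebraicGeometry Opposite

variable {R : CommRingCat.{u}}

theorem exists_hopfModel (G : Over (Spec R)) [GrpObj G] [IsAffine G.left] :
    ∃ (H : (CommHopfAlgCat R)ᵒᵖ), Nonempty ((hopfSpec R).obj H ≅ Grp.mk G) := by
  have : (hopfSpec R).essImage (Grp.mk G) := essImage_hopfSpec.mpr ‹_›
  exact ⟨this.witness, ⟨this.getIso⟩⟩

/-- A model of a homomorphism. -/
theorem exists_hopfModel_hom {G G' : Over (Spec R)} [GrpObj G] [GrpObj G'] (h : G ⟶ G') [IsMonHom h]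
    {H H' : (CommHopfAlgCat R)ᵒᵖ} (e : (hopfSpec R).obj H ≅ Grp.mk G)
    (e' : (hopfSpec R).obj H' ≅ Grp.mk G') :
    ∃ f : H ⟶ H', ((hopfSpec R).map f).hom.hom ≫ e'.hom.hom.hom = e.hom.hom.hom ≫ h := by
  refine ⟨(hopfSpec R).preimage (e.hom ≫ Grp.ofHom h ≫ e'.inv), ?_⟩
  rw [Functor.map_preimage]
  have h1 : (e.hom ≫ Grp.ofHom h ≫ e'.inv) ≫ e'.hom = e.hom ≫ Grp.ofHom h := by
    simp
  have := congrArg (fun t => t.hom.hom) h1
  exact this

/-- The algebra map attached to a section of `Spec A → Spec R`. -/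
noncomputable def algHomOfSection {A : Type u} [CommRing A] [Algebra R A]
    (s : Spec R ⟶ Spec (CommRingCat.of A))
    (hs : s ≫ Spec.map (CommRingCat.ofHom (algebraMap R A)) = 𝟙 _) : A →ₐ[R] R :=
  ⟨(Spec.preimage s).hom, by
    have h2 : Spec.map (Spec.preimage s) ≫ Spec.map (CommRingCat.ofHom (algebraMap R A)) =
        Spec.map (𝟙 R) := by
      rw [Spec.map_preimage, Spec.map_id]
      exact hs
    rw [← Spec.map_comp] at h2
    have h3 := Spec.map_injective h2
    intro r
    exact congr($h3 r)⟩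

theorem spec_map_algHomOfSection {A : Type u} [CommRing A] [Algebra R A]
    (s : Spec R ⟶ Spec (CommRingCat.of A))
    (hs : s ≫ Spec.map (CommRingCat.ofHom (algebraMap R A)) = 𝟙 _) :
    Spec.map (CommRingCat.ofHom (algHomOfSection s hs).toRingHom) = s := by
  have : CommRingCat.ofHom (algHomOfSection s hs).toRingHom = Spec.preimage s := rfl
  rw [this, Spec.map_preimage]

/-- The algebra map attached to a point. -/
noncomputable def pointAlgHom {A : Type u} [CommRing A] [Algebra R A]
    (x : 𝟙_ (Over (Spec R)) ⟶ (algSpec R).obj (op (CommAlgCat.of R A))) : A →ₐ[R] R :=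
  algHomOfSection x.left (Over.w x)

theorem spec_map_pointAlgHom {A : Type u} [CommRing A] [Algebra R A]
    (x : 𝟙_ (Over (Spec R)) ⟶ (algSpec R).obj (op (CommAlgCat.of R A))) :
    Spec.map (CommRingCat.ofHom (pointAlgHom x).toRingHom) = x.left :=
  spec_map_algHomOfSection _ _

/-- The point attached to an algebra map. -/
noncomputable def pointOfAlgHom {A : Type u} [CommRing A] [Algebra R A] (g : A →ₐ[R] R) :
    𝟙_ (Over (Spec R)) ⟶ (algSpec R).obj (op (CommAlgCat.of R A)) :=
  Over.homMk (Spec.map (CommRingCat.ofHom g.toRingHom)) (by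
    show Spec.map (CommRingCat.ofHom g.toRingHom) ≫ Spec.map (CommRingCat.ofHom (algebraMap R A))
      = 𝟙 _
    rw [← Spec.map_comp, ← Spec.map_id]
    congr 1
    ext r
    exact g.commutes r)

@[simp] theorem pointOfAlgHom_left {A : Type u} [CommRing A] [Algebra R A] (g : A →ₐ[R] R) :
    (pointOfAlgHom g).left = Spec.map (CommRingCat.ofHom g.toRingHom) := rfl

end Groth.Agent.Lib.Helper23.AffGrpHopf

namespace Groth.Agent.Lib.Helper23.AffGrpHopf

universe u
open CategoryTheory MonoidalCategory CartesianMonoidalCategory MonObj GrpObj AlgebraicGeometry Opposite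

variable {R : CommRingCat.{u}}

/-- Unbundled Hopf model of an affine group scheme (only the underlying scheme isomorphism is
recorded). -/
theorem exists_model (G : Over (Spec R)) [GrpObj G] [IsAffine G.left] :
    ∃ (A : Type u) (_ : CommRing A) (_ : HopfAlgebra R A) (a : Spec (CommRingCat.of A) ≅ G.left),
      a.hom ≫ G.hom = Spec.map (CommRingCat.ofHom (algebraMap R A)) := by
  obtain ⟨H, ⟨e⟩⟩ := exists_hopfModel G
  exact ⟨H.unop, inferInstance, inferInstance,
    (Over.forget _).mapIso ((Grp.forget _).mapIso e), Over.w ((Grp.forget _).mapIso e).hom⟩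

/-- Unbundled Hopf model of a homomorphism of affine group schemes. -/
theorem exists_model_hom {G G' : Over (Spec R)} [GrpObj G] [GrpObj G'] [IsAffine G.left]
    [IsAffine G'.left] (h : G ⟶ G') [IsMonHom h] :
    ∃ (A A' : Type u) (_ : CommRing A) (_ : CommRing A') (_ : HopfAlgebra R A)
      (_ : HopfAlgebra R A') (φ : A' →ₐc[R] A)
      (a : Spec (CommRingCat.of A) ≅ G.left) (a' : Spec (CommRingCat.of A') ≅ G'.left),
      a.hom ≫ G.hom = Spec.map (CommRingCat.ofHom (algebraMap R A)) ∧
      a'.hom ≫ G'.hom = Spec.map (CommRingCat.ofHom (algebraMap R A')) ∧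
      a.hom ≫ h.left = Spec.map (CommRingCat.ofHom (φ : A' →+* A)) ≫ a'.hom := by
  obtain ⟨H, ⟨e⟩⟩ := exists_hopfModel G
  obtain ⟨H', ⟨e'⟩⟩ := exists_hopfModel G'
  obtain ⟨f, hf⟩ := exists_hopfModel_hom h e e'
  refine ⟨H.unop, H'.unop, inferInstance, inferInstance, inferInstance, inferInstance,
    f.unop.hom, (Over.forget _).mapIso ((Grp.forget _).mapIso e),
    (Over.forget _).mapIso ((Grp.forget _).mapIso e'),
    Over.w ((Grp.forget _).mapIso e).hom, Over.w ((Grp.forget _).mapIso e').hom, ?_⟩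
  exact (congrArg (fun t => t.left) hf).symm

/-- A `R`-point of `G` from an algebra map on a model. -/
noncomputable def pointOfModel (G : Over (Spec R)) {A : Type u} [CommRing A] [Algebra R A]
    (a : Spec (CommRingCat.of A) ≅ G.left)
    (ha : a.hom ≫ G.hom = Spec.map (CommRingCat.ofHom (algebraMap R A))) (g : A →ₐ[R] R) :
    𝟙_ (Over (Spec R)) ⟶ G :=
  Over.homMk (Spec.map (CommRingCat.ofHom g.toRingHom) ≫ a.hom) (by
    show (Spec.map (CommRingCat.ofHom g.toRingHom) ≫ a.hom) ≫ G.hom = 𝟙 _
    rw [Category.assoc, ha, ← Spec.map_comp, ← Spec.map_id]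
    congr 1
    ext r
    exact g.commutes r)

theorem pointOfModel_left (G : Over (Spec R)) {A : Type u} [CommRing A] [Algebra R A]
    (a : Spec (CommRingCat.of A) ≅ G.left)
    (ha : a.hom ≫ G.hom = Spec.map (CommRingCat.ofHom (algebraMap R A))) (g : A →ₐ[R] R) :
    (pointOfModel G a ha g).left = Spec.map (CommRingCat.ofHom g.toRingHom) ≫ a.hom := rfl

/-- The algebra map on a model attached to a point of `G`. -/
noncomputable def algHomOfPoint (G : Over (Spec R)) {A : Type u} [CommRing A] [Algebra R A]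
    (a : Spec (CommRingCat.of A) ≅ G.left)
    (ha : a.hom ≫ G.hom = Spec.map (CommRingCat.ofHom (algebraMap R A)))
    (x : 𝟙_ (Over (Spec R)) ⟶ G) : A →ₐ[R] R :=
  algHomOfSection (R := R) (A := A) (x.left ≫ a.inv) (by
    have hw : x.left ≫ G.hom = 𝟙 _ := Over.w x
    rw [Category.assoc, ← ha, Iso.inv_hom_id_assoc]
    exact hw)

theorem spec_map_algHomOfPoint (G : Over (Spec R)) {A : Type u} [CommRing A] [Algebra R A]
    (a : Spec (CommRingCat.of A) ≅ G.left)
    (ha : a.hom ≫ G.hom = Spec.map (CommRingCat.ofHom (algebraMap R A)))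
    (x : 𝟙_ (Over (Spec R)) ⟶ G) :
    Spec.map (CommRingCat.ofHom (algHomOfPoint G a ha x).toRingHom) ≫ a.hom = x.left := by
  have h1 : Spec.map (CommRingCat.ofHom (algHomOfPoint G a ha x).toRingHom) = x.left ≫ a.inv :=
    spec_map_algHomOfSection _ _
  rw [h1, Category.assoc, a.inv_hom_id]
  exact Category.comp_id _

end Groth.Agent.Lib.Helper23.AffGrpHopf
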