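import Mathlib
import Groth.Agent.Lib.Helper43.GaGm

/-!
# The additive group over an affine base is the spectrum of a polynomial ring (helper23)

`gaPolyIso R : (algSpec R).obj (op R[X]) ≅ Red.Ga (Spec R)` in `Over (Spec R)`, characterised by
`Red.gaFn (gaPolyIso R).hom = X`.
-/

set_option autoImplicit false

namespace Groth.Agent.Lib.Helper23.GaPoly

universe u
open CategoryTheory MonoidalCategory CartesianMonoidalCategory MonObj GrpObj AlgebraicGeometry
  Opposite Polynomial Groth.Agent.Lib.Helper43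

variable (R : Type u) [CommRing R]

/-- The affine line over `Spec R` as an object of `Over (Spec R)`. -/
noncomputable abbrev A1 : Over (Spec (CommRingCat.of R)) :=
  (algSpec (CommRingCat.of R)).obj (op (CommAlgCat.of (CommRingCat.of R) R[X]))

/-- The coordinate function on the affine line. -/
noncomputable def coord : Γ((A1 R).left, ⊤) :=
  (Scheme.ΓSpecIso (CommRingCat.of R[X])).inv (X : R[X])

/-- The morphism `𝔸¹ ⟶ 𝔾_a` with coordinate `X`. -/
noncomputable def toGa : A1 R ⟶ Red.Ga (Spec (CommRingCat.of R)) :=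
  (gaFn_surjective (X := A1 R) (coord R)).choose

theorem gaFn_toGa : Red.gaFn (toGa R) = coord R :=
  (gaFn_surjective (X := A1 R) (coord R)).choose_spec

/-- The structure ring map of `𝔾_a`. -/
noncomputable def strGa : R →+* Γ((Red.Ga (Spec (CommRingCat.of R))).left, ⊤) :=
  ptHom (A := R) (Red.Ga (Spec (CommRingCat.of R))).hom

/-- The ring map `R[X] → Γ(𝔾_a)`, `X ↦ gaFn 𝟙`. -/
noncomputable def rho : R[X] →+* Γ((Red.Ga (Spec (CommRingCat.of R))).left, ⊤) :=
  Polynomial.eval₂RingHom (strGa R) (Red.gaFn (𝟙 (Red.Ga (Spec (CommRingCat.of R)))))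

/-- The morphism `𝔾_a ⟶ 𝔸¹`. -/
noncomputable def ofGa : Red.Ga (Spec (CommRingCat.of R)) ⟶ A1 R :=
  Over.homMk ((Red.Ga (Spec (CommRingCat.of R))).left.toSpecΓ ≫
      Spec.map (CommRingCat.ofHom (rho R))) (by
    apply ptHom_injective (A := R)
    show ptHom (A := R) ((_ ≫ Spec.map (CommRingCat.ofHom (rho R))) ≫
      Spec.map (CommRingCat.ofHom (algebraMap R R[X]))) = strGa R
    rw [Category.assoc, ← Spec.map_comp, ← CommRingCat.ofHom_comp, ptHom_toSpecΓ_SpecMap]
    ext r
    show rho R (algebraMap R R[X] r) = strGa R r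
    unfold rho
    rw [Polynomial.algebraMap_apply, Algebra.algebraMap_self, RingHom.id_apply,
      Polynomial.coe_eval₂RingHom, Polynomial.eval₂_C])

/-- the underlying scheme morphisms with explicit types -/
noncomputable def ofGaL : (Red.Ga (Spec (CommRingCat.of R))).left ⟶ Spec (CommRingCat.of R[X]) :=
  (Red.Ga (Spec (CommRingCat.of R))).left.toSpecΓ ≫ Spec.map (CommRingCat.ofHom (rho R))

noncomputable def toGaL : Spec (CommRingCat.of R[X]) ⟶ (Red.Ga (Spec (CommRingCat.of R))).left :=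
  (toGa R).left

theorem ptHom_ofGaL : ptHom (A := R[X]) (ofGaL R) = rho R := ptHom_toSpecΓ_SpecMap _

theorem rho_X : rho R X = Red.gaFn (𝟙 (Red.Ga (Spec (CommRingCat.of R)))) := by
  unfold rho
  rw [Polynomial.coe_eval₂RingHom, Polynomial.eval₂_X]

theorem rho_C (r : R) : rho R (C r) = strGa R r := by
  unfold rho
  rw [Polynomial.coe_eval₂RingHom, Polynomial.eval₂_C]

theorem ofGa_toGa : ofGa R ≫ toGa R = 𝟙 _ := by
  apply gaFn_injective
  rw [gaFn_comp, gaFn_toGa]
  have h1 : (ofGa R).left.appTop (coord R) = ptHom (A := R[X]) (ofGaL R) X := rfl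
  rw [h1, ptHom_ofGaL, rho_X]

theorem toGaL_appTop_gaFn :
    (toGaL R).appTop (Red.gaFn (𝟙 (Red.Ga (Spec (CommRingCat.of R))))) =
      (Scheme.ΓSpecIso (CommRingCat.of R[X])).inv (X : R[X]) := by
  have := gaFn_comp (toGa R) (𝟙 (Red.Ga (Spec (CommRingCat.of R))))
  rw [Category.comp_id, gaFn_toGa] at this
  exact this.symm

theorem toGaL_hom : toGaL R ≫ (Red.Ga (Spec (CommRingCat.of R))).hom =
    Spec.map (CommRingCat.ofHom (algebraMap R R[X])) := Over.w (toGa R)

theorem toGaL_ofGaL : toGaL R ≫ ofGaL R = 𝟙 _ := by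
  apply ptHom_injective (A := R[X])
  rw [ptHom_comp, ptHom_ofGaL]
  apply Polynomial.ringHom_ext
  · intro r
    show (toGaL R).appTop (rho R (C r)) = _
    rw [rho_C]
    show (toGaL R).appTop (ptHom (A := R) (Red.Ga (Spec (CommRingCat.of R))).hom r) = _
    have h1 := RingHom.congr_fun (ptHom_comp (A := R) (toGaL R)
      (Red.Ga (Spec (CommRingCat.of R))).hom) r
    rw [toGaL_hom, RingHom.comp_apply] at h1
    rw [← h1]
    have h3 : Spec.map (CommRingCat.ofHom (algebraMap R R[X])) =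
        𝟙 _ ≫ Spec.map (CommRingCat.ofHom (algebraMap R R[X])) := by
      rw [Category.id_comp]
    rw [h3, ptHom_comp_SpecMap]
    rfl
  · show (toGaL R).appTop (rho R X) = _
    rw [rho_X, toGaL_appTop_gaFn]
    rfl

theorem toGa_ofGa : toGa R ≫ ofGa R = 𝟙 _ := by
  apply Over.OverMorphism.ext
  exact toGaL_ofGaL R

/-- The isomorphism `𝔸¹ ≅ 𝔾_a` of schemes over `Spec R`. -/
noncomputable def gaPolyIso : A1 R ≅ Red.Ga (Spec (CommRingCat.of R)) where
  hom := toGa R
  inv := ofGa R
  hom_inv_id := toGa_ofGa R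
  inv_hom_id := ofGa_toGa R

end Groth.Agent.Lib.Helper23.GaPoly
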