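import Mathlib

/-!
# Bialgebra structures on a Laurent polynomial algebra (helper23)

* `isUnit_laurent` : units of `B[T;T⁻¹]` over a domain are `C u * T n`.
* `laurent_ringHom_ext` : ring maps out of `R[T;T⁻¹]` are determined on `C` and `T 1`.
* `comul_eq_of_laurent` : if a commutative bialgebra `A` over a field is a Laurent polynomial algebra
  on `t`, then `Δ t = ε(t)⁻¹ • t ⊗ t`.
-/

set_option autoImplicit false

namespace Groth.Agent.Lib.Helper23.LaurentHopf

open TensorProduct LaurentPolynomial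

universe u v

section Units

variable {B : Type u} [CommRing B] [IsDomain B]

theorem isUnit_laurent (f : B[T;T⁻¹]) (hf : IsUnit f) :
    ∃ (u : B) (n : ℤ), IsUnit u ∧ f = C u * T n := by
  obtain ⟨g, hfg⟩ := hf.exists_right_inv
  obtain ⟨a, p, hp⟩ := exists_T_pow f
  obtain ⟨b, q, hq⟩ := exists_T_pow g
  have hpq : p * q = Polynomial.X ^ (a + b) := by
    apply Polynomial.toLaurent_injective
    rw [map_mul, hp, hq, Polynomial.toLaurent_X_pow]
    calc f * T a * (g * T b) = (f * g) * (T a * T b) := by ring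
      _ = T (a + b) := by rw [hfg, one_mul, ← T_add]
      _ = T ((a + b : ℕ) : ℤ) := by push_cast; rfl
  have hdvd : p ∣ Polynomial.X ^ (a + b) := ⟨q, hpq.symm⟩
  obtain ⟨i, -, hi⟩ := (dvd_prime_pow Polynomial.prime_X _).1 hdvd
  obtain ⟨w, hw⟩ := hi.symm
  -- p = X ^ i * w
  obtain ⟨u, hu, huw⟩ := Polynomial.isUnit_iff.1 w.isUnit
  refine ⟨u, (i : ℤ) - a, hu, ?_⟩
  have h1 : f = Polynomial.toLaurent p * T (-a) := by
    rw [hp, mul_T_assoc, add_neg_cancel, T_zero, mul_one]
  rw [h1, ← hw, ← huw, map_mul, Polynomial.toLaurent_X_pow, Polynomial.toLaurent_C, sub_eq_add_neg,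
    T_add]
  ring

end Units

section Ext

variable {R : Type u} [CommRing R] {S : Type v} [CommRing S]

theorem laurent_ringHom_ext (f g : R[T;T⁻¹] →+* S) (hC : ∀ r, f (C r) = g (C r))
    (hT : f (T 1) = g (T 1)) : f = g := by
  apply IsLocalization.ringHom_ext (Submonoid.powers (Polynomial.X : Polynomial R))
  apply Polynomial.ringHom_ext
  · intro r
    show f (Polynomial.toLaurent (Polynomial.C r)) = g (Polynomial.toLaurent (Polynomial.C r))
    rw [Polynomial.toLaurent_C]
    exact hC r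
  · show f (Polynomial.toLaurent Polynomial.X) = g (Polynomial.toLaurent Polynomial.X)
    rw [Polynomial.toLaurent_X]
    exact hT

end Ext

section Main

variable {k : Type u} [Field k] {A : Type v} [CommRing A] [Bialgebra k A]

/-- `A[T;T⁻¹] ≃ A ⊗ A` over the left factor. -/
noncomputable def laurentTensor (φ : k[T;T⁻¹] ≃ₐ[k] A) : A[T;T⁻¹] ≃ₐ[A] A ⊗[k] A :=
  (AddMonoidAlgebra.scalarTensorEquiv (M := ℤ) k A).symm.trans
    (Algebra.TensorProduct.congr (AlgEquiv.refl : A ≃ₐ[A] A) φ)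

theorem laurentTensor_C_mul_T (φ : k[T;T⁻¹] ≃ₐ[k] A) (a : A) (n : ℤ) :
    laurentTensor φ (C a * T n) = a ⊗ₜ[k] φ (T n) := by
  rw [← single_eq_C_mul_T]
  unfold laurentTensor
  rw [AlgEquiv.trans_apply]
  erw [AddMonoidAlgebra.scalarTensorEquiv_symm_single]
  simp

theorem T_eq_smul_T {c : k} {n m : ℤ} (h : c • (T n : k[T;T⁻¹]) = T m) : n = m ∧ c = 1 := by
  have h1 : c • (T n : k[T;T⁻¹]).coeff m = (T m : k[T;T⁻¹]).coeff m :=
    congrArg (fun f : k[T;T⁻¹] => f.coeff m) h
  rw [T_apply, T_apply, if_pos rfl] at h1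
  by_cases hnm : n = m
  · subst hnm
    refine ⟨rfl, ?_⟩
    rw [if_pos rfl, smul_eq_mul, mul_one] at h1
    exact h1
  · exfalso
    rw [if_neg hnm, smul_zero] at h1
    exact zero_ne_one h1

theorem comul_eq_of_laurent (φ : k[T;T⁻¹] ≃ₐ[k] A) :
    Coalgebra.comul (R := k) (φ (T 1)) =
      (Coalgebra.counit (R := k) (φ (T 1)))⁻¹ • (φ (T 1) ⊗ₜ[k] φ (T 1)) := by
  have _ : IsDomain A := (MulEquiv.isDomain_iff φ.toMulEquiv).1 inferInstance
  set t := φ (T 1) with ht
  have htu : IsUnit t := (isUnit_T (R := k) 1).map φ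
  have hΔt : IsUnit (Coalgebra.comul (R := k) t) := htu.map (Bialgebra.comulAlgHom k A)
  have h1 : IsUnit ((laurentTensor φ).symm (Coalgebra.comul (R := k) t)) := hΔt.map _
  obtain ⟨u, n, hu, hun⟩ := isUnit_laurent _ h1
  have hΔ : Coalgebra.comul (R := k) t = u ⊗ₜ[k] φ (T n) := by
    rw [← laurentTensor_C_mul_T, ← hun, AlgEquiv.apply_symm_apply]
  have h2 : IsUnit (φ.symm u) := hu.map φ.symm
  obtain ⟨c, m, hc, hcm⟩ := isUnit_laurent _ h2
  have hu' : u = c • φ (T m) := by
    have : u = φ (C c * T m) := by rw [← hcm, AlgEquiv.apply_symm_apply]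
    rw [this, ← smul_eq_C_mul, map_smul]
  -- counit axioms
  have hr := Coalgebra.rTensor_counit_comul (R := k) t
  have hl := Coalgebra.lTensor_counit_comul (R := k) t
  rw [hΔ, LinearMap.rTensor_tmul] at hr
  rw [hΔ, LinearMap.lTensor_tmul] at hl
  have hr' := congrArg (TensorProduct.lid k A) hr
  have hl' := congrArg (TensorProduct.rid k A) hl
  simp only [TensorProduct.lid_tmul, TensorProduct.rid_tmul, one_smul] at hr' hl'
  -- hr' : ε u • φ (T n) = t ; hl' : ε (φ (T n)) • u = t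
  have hn : n = 1 ∧ Coalgebra.counit (R := k) u = 1 := by
    apply T_eq_smul_T
    apply φ.injective
    rw [map_smul, hr']
  obtain ⟨rfl, hεu⟩ := hn
  have hm : m = 1 ∧ Coalgebra.counit (R := k) t * c = 1 := by
    have : (Coalgebra.counit (R := k) t * c) • (T m : k[T;T⁻¹]) = T 1 := by
      apply φ.injective
      rw [map_smul, mul_smul, ← hu', hl']
    exact T_eq_smul_T this
  obtain ⟨rfl, hεc⟩ := hm
  have hc' : c = (Coalgebra.counit (R := k) t)⁻¹ := by
    have hne : Coalgebra.counit (R := k) t ≠ 0 := left_ne_zero_of_mul_eq_one hεc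
    field_simp
    rw [mul_comm]; exact hεc
  rw [hΔ, hu', ← hc', smul_tmul']

end Main

end Groth.Agent.Lib.Helper23.LaurentHopf
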