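import Mathlib
import Groth.Agent.Lib.Helper43.GaGm
import Groth.Agent.Lib.Helper23.LaurentHopf

/-!
# The multiplicative group over an affine base is the spectrum of a Laurent polynomial ring (helper23)

`gmPolyIso R : (algSpec R).obj (op R[T;T⁻¹]) ≅ Red.Gm (Spec R)` in `Over (Spec R)`.
-/

set_option autoImplicit false

namespace Groth.Agent.Lib.Helper23.GmPoly

universe u
open CategoryTheory MonoidalCategory CartesianMonoidalCategory MonObj GrpObj AlgebraicGeometry
  Opposite LaurentPolynomial Groth.Agent.Lib.Helper43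

variable (R : Type u) [CommRing R]

/-- The punctured affine line over `Spec R` as an object of `Over (Spec R)`. -/
noncomputable abbrev L1 : Over (Spec (CommRingCat.of R)) :=
  (algSpec (CommRingCat.of R)).obj (op (CommAlgCat.of (CommRingCat.of R) R[T;T⁻¹]))

/-- The coordinate function on the punctured affine line. -/
noncomputable def coord : Γ((L1 R).left, ⊤) :=
  (Scheme.ΓSpecIso (CommRingCat.of R[T;T⁻¹])).inv (T 1 : R[T;T⁻¹])

theorem isUnit_coord : IsUnit (coord R) :=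
  (isUnit_T (R := R) 1).map (Scheme.ΓSpecIso (CommRingCat.of R[T;T⁻¹])).inv.hom

/-- The morphism to `𝔾_m` with coordinate `T`. -/
noncomputable def toGm : L1 R ⟶ Red.Gm (Spec (CommRingCat.of R)) :=
  (gmFn_surjective (X := L1 R) (coord R) (isUnit_coord R)).choose

theorem gmFn_toGm : Red.gmFn (toGm R) = coord R :=
  (gmFn_surjective (X := L1 R) (coord R) (isUnit_coord R)).choose_spec

/-- The structure ring map of `𝔾_m`. -/
noncomputable def strGm : R →+* Γ((Red.Gm (Spec (CommRingCat.of R))).left, ⊤) :=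
  ptHom (A := R) (Red.Gm (Spec (CommRingCat.of R))).hom

/-- The ring map `R[T;T⁻¹] → Γ(𝔾_m)`, `T ↦ gmFn 𝟙`. -/
noncomputable def rho : R[T;T⁻¹] →+* Γ((Red.Gm (Spec (CommRingCat.of R))).left, ⊤) :=
  LaurentPolynomial.eval₂ (strGm R)
    (gmFn_isUnit (𝟙 (Red.Gm (Spec (CommRingCat.of R))))).unit

theorem rho_T : rho R (T 1) = Red.gmFn (𝟙 (Red.Gm (Spec (CommRingCat.of R)))) := by
  unfold rho
  rw [LaurentPolynomial.eval₂_T, zpow_one]
  rfl

theorem rho_C (r : R) : rho R (C r) = strGm R r := by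
  unfold rho
  rw [LaurentPolynomial.eval₂_C]

/-- the underlying scheme morphisms with explicit types -/
noncomputable def ofGmL :
    (Red.Gm (Spec (CommRingCat.of R))).left ⟶ Spec (CommRingCat.of R[T;T⁻¹]) :=
  (Red.Gm (Spec (CommRingCat.of R))).left.toSpecΓ ≫ Spec.map (CommRingCat.ofHom (rho R))

theorem ptHom_ofGmL : ptHom (A := R[T;T⁻¹]) (ofGmL R) = rho R := ptHom_toSpecΓ_SpecMap _

/-- The morphism `𝔾_m ⟶ 𝔸¹ ∖ 0`. -/
noncomputable def ofGm : Red.Gm (Spec (CommRingCat.of R)) ⟶ L1 R :=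
  Over.homMk (ofGmL R) (by
    apply ptHom_injective (A := R)
    show ptHom (A := R) ((_ ≫ Spec.map (CommRingCat.ofHom (rho R))) ≫
      Spec.map (CommRingCat.ofHom (algebraMap R R[T;T⁻¹]))) = strGm R
    rw [Category.assoc, ← Spec.map_comp, ← CommRingCat.ofHom_comp, ptHom_toSpecΓ_SpecMap]
    ext r
    show rho R (algebraMap R R[T;T⁻¹] r) = strGm R r
    rw [← LaurentPolynomial.C_eq_algebraMap, rho_C])

noncomputable def toGmL :
    Spec (CommRingCat.of R[T;T⁻¹]) ⟶ (Red.Gm (Spec (CommRingCat.of R))).left :=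
  (toGm R).left

theorem ofGm_toGm : ofGm R ≫ toGm R = 𝟙 _ := by
  apply gmFn_injective
  rw [gmFn_comp, gmFn_toGm]
  have h1 : (ofGm R).left.appTop (coord R) = ptHom (A := R[T;T⁻¹]) (ofGmL R) (T 1) := rfl
  rw [h1, ptHom_ofGmL, rho_T]

theorem toGmL_appTop_gmFn :
    (toGmL R).appTop (Red.gmFn (𝟙 (Red.Gm (Spec (CommRingCat.of R))))) =
      (Scheme.ΓSpecIso (CommRingCat.of R[T;T⁻¹])).inv (T 1 : R[T;T⁻¹]) := by
  have := gmFn_comp (toGm R) (𝟙 (Red.Gm (Spec (CommRingCat.of R))))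
  rw [Category.comp_id, gmFn_toGm] at this
  exact this.symm

theorem toGmL_hom : toGmL R ≫ (Red.Gm (Spec (CommRingCat.of R))).hom =
    Spec.map (CommRingCat.ofHom (algebraMap R R[T;T⁻¹])) := Over.w (toGm R)

theorem toGmL_ofGmL : toGmL R ≫ ofGmL R = 𝟙 _ := by
  apply ptHom_injective (A := R[T;T⁻¹])
  rw [ptHom_comp, ptHom_ofGmL]
  apply Groth.Agent.Lib.Helper23.LaurentHopf.laurent_ringHom_ext
  · intro r
    show (toGmL R).appTop (rho R (C r)) = _
    rw [rho_C]
    show (toGmL R).appTop (ptHom (A := R) (Red.Gm (Spec (CommRingCat.of R))).hom r) = _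
    have h1 := RingHom.congr_fun (ptHom_comp (A := R) (toGmL R)
      (Red.Gm (Spec (CommRingCat.of R))).hom) r
    rw [toGmL_hom, RingHom.comp_apply] at h1
    rw [← h1]
    have h3 : Spec.map (CommRingCat.ofHom (algebraMap R R[T;T⁻¹])) =
        𝟙 _ ≫ Spec.map (CommRingCat.ofHom (algebraMap R R[T;T⁻¹])) := by
      rw [Category.id_comp]
    rw [h3, ptHom_comp_SpecMap, LaurentPolynomial.C_eq_algebraMap]
    rfl
  · show (toGmL R).appTop (rho R (T 1)) = _
    rw [rho_T, toGmL_appTop_gmFn]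
    rfl

theorem toGm_ofGm : toGm R ≫ ofGm R = 𝟙 _ := by
  apply Over.OverMorphism.ext
  exact toGmL_ofGmL R

/-- The isomorphism of schemes over `Spec R`. -/
noncomputable def gmPolyIso : L1 R ≅ Red.Gm (Spec (CommRingCat.of R)) where
  hom := toGm R
  inv := ofGm R
  hom_inv_id := toGm_ofGm R
  inv_hom_id := ofGm_toGm R

end Groth.Agent.Lib.Helper23.GmPoly
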