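import Mathlib
import Groth.Agent.Lib.Helper16.FinHopfSub

/-!
# Hopf algebra structure on a Hopf subalgebra (helper23)

For a subalgebra `B` of a commutative Hopf algebra `A` over a field with `Δ(B) ⊆ B ⊗ B`
(`IsSubBialg B`, helper16) and `S(B) ⊆ B`: the Hopf algebra structure on `B` and the inclusion as a
bialgebra map.
-/

set_option autoImplicit false

namespace Groth.Agent.Lib.Helper23.HopfFlat

open TensorProduct Groth.Agent.Lib.Helper16.FinHopf

universe u v

section

variable {k : Type u} [Field k] {A : Type v} [CommRing A] [HopfAlgebra k A] {B : Subalgebra k A}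
  (hB : IsSubBialg B) (hS : ∀ b ∈ B, HopfAlgebraStruct.antipode (R := k) b ∈ B)

/-- The restricted antipode. -/
noncomputable def antipodeSub : B →ₗ[k] B :=
  (HopfAlgebraStruct.antipode (R := k) (A := A)).restrict (p := Subalgebra.toSubmodule B)
    (q := Subalgebra.toSubmodule B) hS

theorem val_mul'_incl (t : B ⊗[k] B) :
    (B.val (LinearMap.mul' k B t) : A) = LinearMap.mul' k A (incl₂ B t) := by
  induction t using TensorProduct.induction_on with
  | zero => simp
  | add x y hx hy => rw [map_add, map_add, map_add, map_add, hx, hy]
  | tmul x y => simp

theorem incl₂_rTensor (t : B ⊗[k] B) :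
    incl₂ B ((antipodeSub hS).rTensor B t) =
      (HopfAlgebraStruct.antipode (R := k) (A := A)).rTensor A (incl₂ B t) := by
  induction t using TensorProduct.induction_on with
  | zero => simp
  | add x y hx hy => rw [map_add, map_add, map_add, map_add, hx, hy]
  | tmul x y => rfl

theorem incl₂_lTensor (t : B ⊗[k] B) :
    incl₂ B ((antipodeSub hS).lTensor B t) =
      (HopfAlgebraStruct.antipode (R := k) (A := A)).lTensor A (incl₂ B t) := by
  induction t using TensorProduct.induction_on with
  | zero => simp
  | add x y hx hy => rw [map_add, map_add, map_add, map_add, hx, hy]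
  | tmul x y => rfl

/-- The Hopf algebra structure on a Hopf subalgebra. -/
@[reducible]
noncomputable def subHopfAlgebra : HopfAlgebra k B :=
  letI := subBialgebra hB
  { antipode := antipodeSub hS
    mul_antipode_rTensor_comul := by
      apply LinearMap.ext
      intro b
      apply Subtype.val_injective
      show (B.val (LinearMap.mul' k B ((antipodeSub hS).rTensor B (comulSub hB b))) : A) = _
      rw [val_mul'_incl, incl₂_rTensor, incl₂_comulSub]
      have := congrArg (fun f => f (b : A)) (HopfAlgebra.mul_antipode_rTensor_comul (R := k) (A := A))
      simp only [LinearMap.comp_apply] at this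
      rw [this]
      rfl
    mul_antipode_lTensor_comul := by
      apply LinearMap.ext
      intro b
      apply Subtype.val_injective
      show (B.val (LinearMap.mul' k B ((antipodeSub hS).lTensor B (comulSub hB b))) : A) = _
      rw [val_mul'_incl, incl₂_lTensor, incl₂_comulSub]
      have := congrArg (fun f => f (b : A)) (HopfAlgebra.mul_antipode_lTensor_comul (R := k) (A := A))
      simp only [LinearMap.comp_apply] at this
      rw [this]
      rfl }

/-- The inclusion of a Hopf subalgebra as a bialgebra map. -/
noncomputable def subBialgHom :
    letI := subHopfAlgebra hB hS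
    B →ₐc[k] A :=
  letI := subHopfAlgebra hB hS
  BialgHom.ofAlgHom B.val (by rfl) (by
    apply AlgHom.ext
    intro b
    exact incl₂_comulSub hB b)

theorem subBialgHom_apply (b : B) :
    letI := subHopfAlgebra hB hS
    subBialgHom hB hS b = (b : A) := rfl

theorem subBialgHom_injective :
    letI := subHopfAlgebra hB hS
    Function.Injective (subBialgHom hB hS) := Subtype.val_injective

end

end Groth.Agent.Lib.Helper23.HopfFlat
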