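import Mathlib
import Groth.Agent.Lib.Helper75.ComodSimple
import Groth.Agent.Lib.Helper75.HopfShear
import Groth.Agent.Lib.Helper23.HopfFlatSub

/-!
# Local finiteness of commutative Hopf algebras over a field (helper23)

Every finite subset of a commutative Hopf algebra `A` over a field lies in a finitely generated Hopf
subalgebra `hopfGen F`, which is contained in any Hopf subalgebra containing `F`.
-/

set_option autoImplicit false
set_option linter.unusedSectionVars false

namespace Groth.Agent.Lib.Helper23.HopfFlat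

open TensorProduct Groth.Agent.Lib.Helper16.FinHopf Groth.Agent.Lib.Helper75

universe u v

section Coalg

variable {k : Type u} [Field k] {A : Type v} [AddCommGroup A] [Module k A] [Coalgebra k A]

/-- the finite-dimensional subcoalgebra generated by an element -/
noncomputable def coalgSpan (a : A) : Submodule k A := coeffSpace A (orbit k A a)

theorem mem_coalgSpan (a : A) : a ∈ coalgSpan (k := k) a :=
  le_coeffSpace_regular _ (self_mem_orbit a)

theorem isSubcoalg_coalgSpan (a : A) : IsSubcoalg (coalgSpan (k := k) a) :=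
  isSubcoalg_coeffSpace _ (isSubcomod_orbit a)

instance finite_coalgSpan (a : A) : Module.Finite k (coalgSpan (k := k) a) := finite_coeffSpace _

theorem coalgSpan_le {D : Submodule k A} (hD : IsSubcoalg D) {a : A} (ha : a ∈ D) :
    coalgSpan (k := k) a ≤ D :=
  (coeffSpace_mono (orbit_le hD.isSubcomod ha)).trans hD.coeffSpace_le

theorem isSubcoalg_bot : IsSubcoalg (⊥ : Submodule k A) := by
  intro b hb
  rw [Submodule.mem_bot] at hb
  rw [hb, map_zero]
  exact Submodule.zero_mem _

theorem isSubcoalg_sup {C D : Submodule k A} (hC : IsSubcoalg C) (hD : IsSubcoalg D) :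
    IsSubcoalg (C ⊔ D) := by
  rw [isSubcoalg_iff] at *
  refine ⟨fun f b hb => ?_, fun f b hb => ?_⟩
  · obtain ⟨c, hc, d, hd, rfl⟩ := Submodule.mem_sup.1 hb
    rw [map_add]
    exact Submodule.add_mem_sup (hC.1 f c hc) (hD.1 f d hd)
  · obtain ⟨c, hc, d, hd, rfl⟩ := Submodule.mem_sup.1 hb
    rw [map_add]
    exact Submodule.add_mem_sup (hC.2 f c hc) (hD.2 f d hd)

theorem isSubcoalg_finsetSup {ι : Type*} (s : Finset ι) (C : ι → Submodule k A)
    (hC : ∀ i ∈ s, IsSubcoalg (C i)) : IsSubcoalg (s.sup C) := by
  classical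
  induction s using Finset.induction_on with
  | empty => simpa using isSubcoalg_bot
  | insert i s hi ih =>
    rw [Finset.sup_insert]
    exact isSubcoalg_sup (hC i (Finset.mem_insert_self i s))
      (ih fun j hj => hC j (Finset.mem_insert_of_mem hj))

end Coalg

section Hopf

variable {k : Type u} [Field k] {A : Type v} [CommRing A] [HopfAlgebra k A]

open Algebra.TensorProduct WithConv

local notation "S" => HopfAlgebra.antipodeAlgHom k A

theorem antipode_comp_antipode : (S).comp (S) = AlgHom.id k A := by
  have h : ((toConv (AlgHom.id k A))⁻¹)⁻¹ = toConv (AlgHom.id k A) := inv_inv _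
  have h2 : ((toConv (AlgHom.id k A))⁻¹)⁻¹ = toConv (((AlgHom.id k A).comp (S)).comp (S)) := rfl
  rw [h2] at h
  have h3 := congrArg WithConv.ofConv h
  simpa using h3

theorem antipode_antipode (a : A) :
    HopfAlgebraStruct.antipode (R := k) (HopfAlgebraStruct.antipode (R := k) a) = a :=
  congrArg (fun f => f a) (antipode_comp_antipode (k := k) (A := A))

/-- The antipode is an anti-coalgebra map. -/
theorem comul_antipode_eq (a : A) :
    Coalgebra.comul (R := k) (HopfAlgebraStruct.antipode (R := k) a) =
      Algebra.TensorProduct.lift ((includeRight : A →ₐ[k] A ⊗[k] A).comp (S))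
        ((includeLeft : A →ₐ[k] A ⊗[k] A).comp (S)) (fun _ _ => Commute.all _ _)
        (Coalgebra.comul (R := k) a) := by
  have h : (cD k A)⁻¹ = (iR k A)⁻¹ * (iL k A)⁻¹ := by
    rw [cD_eq]
    exact mul_inv_rev (G := WithConv (A →ₐ[k] A ⊗[k] A)) _ _
  have h1 : ((cD k A)⁻¹) a = Coalgebra.comul (R := k) (HopfAlgebraStruct.antipode (R := k) a) := rfl
  rw [← h1, h, AlgHom.convMul_apply]
  rfl

theorem isSubcoalg_map_antipode {C : Submodule k A} (hC : IsSubcoalg C) :
    IsSubcoalg (C.map (HopfAlgebraStruct.antipode (R := k) (A := A))) := by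
  rintro _ ⟨c, hc, rfl⟩
  obtain ⟨t, ht⟩ := hC c hc
  rw [comul_antipode_eq, ← ht]
  clear ht
  induction t using TensorProduct.induction_on with
  | zero => simp
  | add x y hx hy =>
    rw [map_add, map_add]
    exact Submodule.add_mem _ hx hy
  | tmul x y =>
    refine ⟨(⟨HopfAlgebraStruct.antipode (R := k) (y : A), Submodule.mem_map_of_mem y.2⟩ :
        C.map (HopfAlgebraStruct.antipode (R := k) (A := A))) ⊗ₜ[k]
      (⟨HopfAlgebraStruct.antipode (R := k) (x : A), Submodule.mem_map_of_mem x.2⟩ :
        C.map (HopfAlgebraStruct.antipode (R := k) (A := A))), ?_⟩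
    simp [Algebra.TensorProduct.tmul_mul_tmul]

/-- A Hopf subalgebra (as a submodule) is a subcoalgebra. -/
theorem isSubcoalg_of_isSubBialg {B : Subalgebra k A} (hB : IsSubBialg B) :
    IsSubcoalg (Subalgebra.toSubmodule B) := by
  intro b hb
  obtain ⟨t, ht⟩ := hB ⟨b, hb⟩
  exact ⟨t, ht⟩

/-- The subalgebra generated by a subcoalgebra is a sub-bialgebra. -/
theorem isSubBialg_adjoin {D : Submodule k A} (hD : IsSubcoalg D) :
    IsSubBialg (Algebra.adjoin k (D : Set A)) := by
  set H := Algebra.adjoin k (D : Set A) with hH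
  have hle : H ≤ ((incl₂ H).range).comap (Bialgebra.comulAlgHom k A) := by
    refine Algebra.adjoin_le ?_
    intro d hd
    obtain ⟨t, ht⟩ := hD d hd
    show Coalgebra.comul (R := k) d ∈ (incl₂ H).range
    rw [← ht]
    clear ht
    induction t using TensorProduct.induction_on with
    | zero => simp
    | add x y hx hy =>
      rw [map_add]
      exact add_mem hx hy
    | tmul x y =>
      exact ⟨(⟨x, Algebra.subset_adjoin x.2⟩ : H) ⊗ₜ[k] (⟨y, Algebra.subset_adjoin y.2⟩ : H), rfl⟩
  intro b
  exact hle b.2

theorem antipode_mem_adjoin {D : Submodule k A}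
    (hD : ∀ d ∈ D, HopfAlgebraStruct.antipode (R := k) d ∈ D) :
    ∀ b ∈ Algebra.adjoin k (D : Set A),
      HopfAlgebraStruct.antipode (R := k) b ∈ Algebra.adjoin k (D : Set A) := by
  have hle : Algebra.adjoin k (D : Set A) ≤ (Algebra.adjoin k (D : Set A)).comap (S) := by
    refine Algebra.adjoin_le ?_
    intro d hd
    exact Algebra.subset_adjoin (hD d hd)
  intro b hb
  exact hle hb

/-- The generating subspace of `hopfGen`. -/
noncomputable def hopfGenSpace (F : Finset A) : Submodule k A :=
  F.sup fun a => coalgSpan (k := k) a ⊔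
    (coalgSpan (k := k) a).map (HopfAlgebraStruct.antipode (R := k) (A := A))

theorem isSubcoalg_hopfGenSpace (F : Finset A) : IsSubcoalg (hopfGenSpace (k := k) F) :=
  isSubcoalg_finsetSup _ _ fun a _ =>
    isSubcoalg_sup (isSubcoalg_coalgSpan a) (isSubcoalg_map_antipode (isSubcoalg_coalgSpan a))

theorem subset_hopfGenSpace (F : Finset A) {a : A} (ha : a ∈ F) : a ∈ hopfGenSpace (k := k) F := by
  have h1 : coalgSpan (k := k) a ⊔
      (coalgSpan (k := k) a).map (HopfAlgebraStruct.antipode (R := k) (A := A)) ≤
        hopfGenSpace (k := k) F :=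
    Finset.le_sup (f := fun a => coalgSpan (k := k) a ⊔
      (coalgSpan (k := k) a).map (HopfAlgebraStruct.antipode (R := k) (A := A))) ha
  exact h1 (Submodule.mem_sup_left (mem_coalgSpan a))

theorem antipode_mem_hopfGenSpace (F : Finset A) :
    ∀ d ∈ hopfGenSpace (k := k) F, HopfAlgebraStruct.antipode (R := k) d ∈ hopfGenSpace (k := k) F := by
  have hle : hopfGenSpace (k := k) F ≤
      (hopfGenSpace (k := k) F).comap (HopfAlgebraStruct.antipode (R := k) (A := A)) := by
    refine Finset.sup_le fun a ha => ?_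
    have h1 : coalgSpan (k := k) a ⊔
        (coalgSpan (k := k) a).map (HopfAlgebraStruct.antipode (R := k) (A := A)) ≤
          hopfGenSpace (k := k) F :=
      Finset.le_sup (f := fun a => coalgSpan (k := k) a ⊔
        (coalgSpan (k := k) a).map (HopfAlgebraStruct.antipode (R := k) (A := A))) ha
    refine sup_le ?_ ?_
    · intro c hc
      show HopfAlgebraStruct.antipode (R := k) c ∈ hopfGenSpace (k := k) F
      exact h1 (Submodule.mem_sup_right (Submodule.mem_map_of_mem hc))
    · rintro _ ⟨c, hc, rfl⟩
      show HopfAlgebraStruct.antipode (R := k) (HopfAlgebraStruct.antipode (R := k) c) ∈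
        hopfGenSpace (k := k) F
      rw [antipode_antipode]
      exact h1 (Submodule.mem_sup_left hc)
  intro d hd
  exact hle hd

instance finite_hopfGenSpace (F : Finset A) : Module.Finite k (hopfGenSpace (k := k) F) := by
  classical
  unfold hopfGenSpace
  induction F using Finset.induction_on with
  | empty =>
    rw [Finset.sup_empty]
    infer_instance
  | insert a s ha ih =>
    rw [Finset.sup_insert]
    have : Module.Finite k ((coalgSpan (k := k) a).map (HopfAlgebraStruct.antipode (R := k) (A := A))) :=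
      Module.Finite.map _ _
    infer_instance

/-- The Hopf subalgebra generated by the subcoalgebras spanned by a finite set. -/
noncomputable def hopfGen (F : Finset A) : Subalgebra k A :=
  Algebra.adjoin k (hopfGenSpace (k := k) F : Set A)

theorem subset_hopfGen (F : Finset A) {a : A} (ha : a ∈ F) : a ∈ hopfGen (k := k) F :=
  Algebra.subset_adjoin (subset_hopfGenSpace F ha)

theorem isSubBialg_hopfGen (F : Finset A) : IsSubBialg (hopfGen (k := k) F) :=
  isSubBialg_adjoin (isSubcoalg_hopfGenSpace F)

theorem antipode_mem_hopfGen (F : Finset A) :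
    ∀ b ∈ hopfGen (k := k) F, HopfAlgebraStruct.antipode (R := k) b ∈ hopfGen (k := k) F :=
  antipode_mem_adjoin (antipode_mem_hopfGenSpace F)

theorem fg_hopfGen (F : Finset A) : (hopfGen (k := k) F).FG := by
  obtain ⟨s, hs⟩ : (hopfGenSpace (k := k) F).FG := Module.Finite.iff_fg.1 inferInstance
  refine ⟨s, ?_⟩
  unfold hopfGen
  rw [← hs, Algebra.adjoin_span]

theorem hopfGen_mono {F F' : Finset A} (h : F ⊆ F') : hopfGen (k := k) F ≤ hopfGen (k := k) F' := by
  apply Algebra.adjoin_mono
  have : hopfGenSpace (k := k) F ≤ hopfGenSpace (k := k) F' := Finset.sup_mono h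
  exact this

theorem hopfGen_le {B : Subalgebra k A} (hB : IsSubBialg B)
    (hS : ∀ b ∈ B, HopfAlgebraStruct.antipode (R := k) b ∈ B) {F : Finset A}
    (hF : ∀ a ∈ F, a ∈ B) : hopfGen (k := k) F ≤ B := by
  refine Algebra.adjoin_le ?_
  have hle : hopfGenSpace (k := k) F ≤ Subalgebra.toSubmodule B := by
    refine Finset.sup_le fun a ha => ?_
    have h1 : coalgSpan (k := k) a ≤ Subalgebra.toSubmodule B :=
      coalgSpan_le (isSubcoalg_of_isSubBialg hB) (hF a ha)
    refine sup_le h1 ?_
    rintro _ ⟨c, hc, rfl⟩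
    exact hS c (h1 hc)
  exact hle

end Hopf

end Groth.Agent.Lib.Helper23.HopfFlat
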