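import Mathlib

/-!
# Global sections and field extensions (helper23)

For a qcqs scheme `X` over a field `k` and a field extension `K/k`, `k → Γ(X)` is bijective iff
`K → Γ(X_K)` is (flat base change for global sections + faithfully flat descent).
-/

set_option autoImplicit false
set_option linter.style.haveILetI false

namespace Groth.Agent.Lib.Helper23.AntiAffineBC

universe u
open CategoryTheory AlgebraicGeometry Limits TensorProduct

theorem bijective_iff_of_isPushout (k K A B : Type*) [Field k] [Field K] [CommRing A] [CommRing B]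
    [Algebra k K] [Algebra k A] [Algebra K B] [Algebra A B] [Algebra k B] [IsScalarTower k K B]
    [IsScalarTower k A B] [Algebra.IsPushout k K A B] :
    Function.Bijective (algebraMap k A) ↔ Function.Bijective (algebraMap K B) := by
  let e := Algebra.IsPushout.equiv k K A B
  have h1 : (algebraMap K B : K → B) =
      e ∘ ((Algebra.linearMap k A).lTensor K) ∘ (TensorProduct.rid k K).symm := by
    funext x
    simp only [Function.comp_apply]
    have : (TensorProduct.rid k K).symm x = x ⊗ₜ[k] (1 : k) := rfl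
    rw [this, LinearMap.lTensor_tmul]
    simp [e, Algebra.IsPushout.equiv_tmul]
  have h0 : Function.Bijective (algebraMap k A) ↔ Function.Bijective (Algebra.linearMap k A) :=
    Iff.rfl
  rw [h1, h0, ← Module.FaithfullyFlat.lTensor_bijective_iff_bijective k K (Algebra.linearMap k A)]
  constructor
  · intro h
    exact e.bijective.comp (h.comp (TensorProduct.rid k K).symm.bijective)
  · intro h
    have h2 := (e.symm.bijective.comp h)
    have h3 : (⇑e.symm ∘ ⇑e ∘ ⇑(LinearMap.lTensor K (Algebra.linearMap k A)) ∘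
        ⇑(TensorProduct.rid k K).symm) =
        ⇑(LinearMap.lTensor K (Algebra.linearMap k A)) ∘ ⇑(TensorProduct.rid k K).symm := by
      funext x; simp
    rw [h3] at h2
    have h4 := h2.comp (TensorProduct.rid k K).bijective
    convert h4 using 1
    funext x; simp

theorem bijective_appTop_iff (k K : Type u) [Field k] [Field K] [Algebra k K] (X : Scheme.{u})
    (iX : X ⟶ Spec (CommRingCat.of k)) [QuasiCompact iX] [QuasiSeparated iX] :
    Function.Bijective ((Scheme.ΓSpecIso (CommRingCat.of k)).inv ≫ iX.appTop).hom ↔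
      Function.Bijective ((Scheme.ΓSpecIso (CommRingCat.of K)).inv ≫
        (pullback.snd iX (Spec.map (CommRingCat.ofHom (algebraMap k K)))).appTop).hom := by
  let φ : CommRingCat.of k ⟶ CommRingCat.of K := CommRingCat.ofHom (algebraMap k K)
  let f := Spec.map φ
  have H : IsPullback (pullback.fst iX f) (pullback.snd iX f) iX f := IsPullback.of_hasPullback _ _
  have hcX : CompactSpace X := QuasiCompact.compactSpace_of_compactSpace iX
  have hqX : QuasiSeparatedSpace X := quasiSeparatedSpace_of_quasiSeparated iX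
  have iso := isIso_pushoutSection_of_isQuasiSeparated_of_flat_right H
    (US := ⊤) (UT := ⊤) (UX := ⊤) (UY := ⊤) le_top le_top (by simp)
    (isAffineOpen_top _) (isAffineOpen_top _) isCompact_univ
    (isQuasiSeparated_univ_iff.2 hqX)
  have P := (isIso_pushoutSection_iff H (US := ⊤) (UT := ⊤) (UX := ⊤) (UY := ⊤)
    le_top le_top (by simp)).mp iso
  have e1 : iX.appLE ⊤ ⊤ le_top = iX.appTop := by
    simp [Scheme.Hom.appLE, Scheme.Hom.appTop] <;> exact Category.comp_id _
  have e2 : f.appLE ⊤ ⊤ le_top = f.appTop := by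
    simp [Scheme.Hom.appLE, Scheme.Hom.appTop] <;> exact Category.comp_id _
  have e3 : (pullback.fst iX f).appLE ⊤ ⊤ (by simp) = (pullback.fst iX f).appTop := by
    simp [Scheme.Hom.appLE, Scheme.Hom.appTop] <;> exact Category.comp_id _
  have e4 : (pullback.snd iX f).appLE ⊤ ⊤ (by simp) = (pullback.snd iX f).appTop := by
    simp [Scheme.Hom.appLE, Scheme.Hom.appTop] <;> exact Category.comp_id _
  rw [e1, e2, e3, e4] at P
  let a : CommRingCat.of k ⟶ Γ(X, ⊤) := (Scheme.ΓSpecIso (CommRingCat.of k)).inv ≫ iX.appTop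
  let b : CommRingCat.of K ⟶ Γ(pullback iX f, ⊤) :=
    (Scheme.ΓSpecIso (CommRingCat.of K)).inv ≫ (pullback.snd iX f).appTop
  let c : Γ(X, ⊤) ⟶ Γ(pullback iX f, ⊤) := (pullback.fst iX f).appTop
  have P2 : IsPushout φ a b c := by
    refine (P.of_iso (Scheme.ΓSpecIso (CommRingCat.of k)) (Iso.refl _)
      (Scheme.ΓSpecIso (CommRingCat.of K)) (Iso.refl _) ?_ ?_ ?_ ?_).flip
    · simp [a]
    · exact Scheme.ΓSpecIso_naturality φ
    · simp [c]
    · simp [b]
  letI : Algebra k Γ(X, ⊤) := a.hom.toAlgebra
  letI : Algebra K Γ(pullback iX f, ⊤) := b.hom.toAlgebra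
  letI : Algebra Γ(X, ⊤) Γ(pullback iX f, ⊤) := c.hom.toAlgebra
  letI : Algebra k Γ(pullback iX f, ⊤) := (a ≫ c).hom.toAlgebra
  haveI : IsScalarTower k Γ(X, ⊤) Γ(pullback iX f, ⊤) :=
    IsScalarTower.of_algebraMap_eq (fun _ => rfl)
  haveI : IsScalarTower k K Γ(pullback iX f, ⊤) :=
    IsScalarTower.of_algebraMap_eq (fun x => by
      have := congrArg (fun t => t.hom x) P2.w
      exact this.symm)
  haveI : Algebra.IsPushout k K Γ(X, ⊤) Γ(pullback iX f, ⊤) :=
    CommRingCat.isPushout_iff_isPushout.mp P2
  exact bijective_iff_of_isPushout k K Γ(X, ⊤) Γ(pullback iX f, ⊤)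

end Groth.Agent.Lib.Helper23.AntiAffineBC
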