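import Mathlib

/-!
# The algebraic core of Cartier's theorem (helper23)

Let `C` be an algebra over a field `K` of characteristic zero and `ε : C → K` a `K`-point with kernel
`𝔫`.  Suppose that for every `N` there is an "infinitesimal comultiplication"
`Δ' : C → C/𝔫^N ⊗ C/𝔫^2` which is counital on both sides.  Then the nilradical of `C` lies in `𝔫^2`.
-/

set_option autoImplicit false

namespace Groth.Agent.Lib.Helper23.CartierLocal

open TensorProduct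

universe u

theorem add_pow_of_mul_self_eq_zero {R : Type*} [CommRing R] (x y : R) (hy : y * y = 0) (r : ℕ) :
    (x + y) ^ r = x ^ r + r • (x ^ (r - 1) * y) := by
  induction r with
  | zero => simp
  | succ r ih =>
    rw [pow_succ, ih]
    rcases Nat.eq_zero_or_pos r with h | h
    · subst h; simp
    · have h1 : x ^ (r - 1) * x = x ^ r := by
        rw [← pow_succ, Nat.sub_add_cancel h]
      have h2 : r + 1 - 1 = r := rfl
      rw [h2]
      calc (x ^ r + r • (x ^ (r - 1) * y)) * (x + y)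
          = x ^ (r + 1) + x ^ r * y + r • (x ^ (r - 1) * x * y) + r • (x ^ (r - 1) * (y * y)) := by
            rw [pow_succ]; simp only [nsmul_eq_mul]; ring
        _ = x ^ (r + 1) + (r + 1) • (x ^ r * y) := by
            rw [h1, hy, mul_zero, smul_zero, add_zero, add_smul, one_smul]; abel

variable {K : Type u} [Field K] {C : Type u} [CommRing C] [Algebra K C] (ε : C →ₐ[K] K)

/-- The induced point of the infinitesimal neighbourhood. -/
noncomputable def epsQ (N : ℕ) (hN : N ≠ 0) : (C ⧸ (RingHom.ker ε) ^ N) →ₐ[K] K :=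
  Ideal.Quotient.liftₐ _ ε (fun _ hc => Ideal.pow_le_self hN hc)

@[simp] theorem epsQ_mk (N : ℕ) (hN : N ≠ 0) (c : C) :
    epsQ ε N hN (Ideal.Quotient.mk _ c) = ε c := rfl

theorem epsQ_surjective (N : ℕ) (hN : N ≠ 0) : Function.Surjective (epsQ ε N hN) := by
  intro k
  refine ⟨Ideal.Quotient.mk _ (algebraMap K C k), ?_⟩
  rw [epsQ_mk, AlgHom.commutes]
  rfl

theorem ker_epsQ (N : ℕ) (hN : N ≠ 0) :
    RingHom.ker (epsQ ε N hN) = (RingHom.ker ε).map (Ideal.Quotient.mk ((RingHom.ker ε) ^ N)) := by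
  apply le_antisymm
  · intro x hx
    obtain ⟨c, rfl⟩ := Ideal.Quotient.mk_surjective x
    rw [RingHom.mem_ker, epsQ_mk] at hx
    exact Ideal.mem_map_of_mem _ hx
  · rw [Ideal.map_le_iff_le_comap]
    intro c hc
    rw [Ideal.mem_comap, RingHom.mem_ker, epsQ_mk]
    exact hc

theorem ker_epsQ_pow (N : ℕ) (hN : N ≠ 0) : RingHom.ker (epsQ ε N hN) ^ N = ⊥ := by
  rw [ker_epsQ, ← Ideal.map_pow, Ideal.map_quotient_self]

/-- The retraction onto the first factor. -/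
noncomputable def rho₁ (N : ℕ) (_hN : N ≠ 0) :
    (C ⧸ (RingHom.ker ε) ^ N) ⊗[K] (C ⧸ (RingHom.ker ε) ^ 2) →ₐ[K] (C ⧸ (RingHom.ker ε) ^ N) :=
  Algebra.TensorProduct.lift (AlgHom.id K _)
    ((Algebra.ofId K (C ⧸ (RingHom.ker ε) ^ N)).comp (epsQ ε 2 two_ne_zero)) (fun _ _ => Commute.all _ _)

/-- The retraction onto the second factor. -/
noncomputable def rho₂ (N : ℕ) (hN : N ≠ 0) :
    (C ⧸ (RingHom.ker ε) ^ N) ⊗[K] (C ⧸ (RingHom.ker ε) ^ 2) →ₐ[K] (C ⧸ (RingHom.ker ε) ^ 2) :=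
  Algebra.TensorProduct.lift ((Algebra.ofId K (C ⧸ (RingHom.ker ε) ^ 2)).comp (epsQ ε N hN))
    (AlgHom.id K _) (fun _ _ => Commute.all _ _)

theorem rho₁_tmul (N : ℕ) (hN : N ≠ 0) (d : C ⧸ (RingHom.ker ε) ^ N) (d' : C ⧸ (RingHom.ker ε) ^ 2) :
    rho₁ ε N hN (d ⊗ₜ[K] d') = epsQ ε 2 two_ne_zero d' • d := by
  rw [rho₁, Algebra.TensorProduct.lift_tmul, AlgHom.id_apply, AlgHom.comp_apply, Algebra.ofId_apply,
    Algebra.smul_def, mul_comm]

theorem rho₂_tmul (N : ℕ) (hN : N ≠ 0) (d : C ⧸ (RingHom.ker ε) ^ N) (d' : C ⧸ (RingHom.ker ε) ^ 2) :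
    rho₂ ε N hN (d ⊗ₜ[K] d') = epsQ ε N hN d • d' := by
  rw [rho₂, Algebra.TensorProduct.lift_tmul, AlgHom.id_apply, AlgHom.comp_apply, Algebra.ofId_apply,
    Algebra.smul_def]

theorem ker_rho₁ (N : ℕ) (hN : N ≠ 0) :
    RingHom.ker (rho₁ ε N hN) = (RingHom.ker (epsQ ε 2 two_ne_zero)).map
      (Algebra.TensorProduct.includeRight :
        (C ⧸ (RingHom.ker ε) ^ 2) →ₐ[K] (C ⧸ (RingHom.ker ε) ^ N) ⊗[K] (C ⧸ (RingHom.ker ε) ^ 2)) := by
  rw [← Algebra.TensorProduct.lTensor_ker (A := C ⧸ (RingHom.ker ε) ^ N) (epsQ ε 2 two_ne_zero)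
    (epsQ_surjective ε 2 two_ne_zero)]
  have h : ∀ x, rho₁ ε N hN x = Algebra.TensorProduct.rid K K (C ⧸ (RingHom.ker ε) ^ N)
      (Algebra.TensorProduct.map (AlgHom.id K _) (epsQ ε 2 two_ne_zero) x) := by
    intro x
    induction x using TensorProduct.induction_on with
    | zero => simp
    | tmul d d' =>
      rw [rho₁_tmul, Algebra.TensorProduct.map_tmul, AlgHom.id_apply, Algebra.TensorProduct.rid_tmul]
    | add x y hx hy => simp only [map_add, hx, hy]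
  ext x
  rw [RingHom.mem_ker, RingHom.mem_ker, h]
  exact (Algebra.TensorProduct.rid K K (C ⧸ (RingHom.ker ε) ^ N)).map_eq_zero_iff

theorem mul_eq_zero_of_mem_ker_rho₁ (N : ℕ) (hN : N ≠ 0)
    (x y : (C ⧸ (RingHom.ker ε) ^ N) ⊗[K] (C ⧸ (RingHom.ker ε) ^ 2))
    (hx : x ∈ RingHom.ker (rho₁ ε N hN)) (hy : y ∈ RingHom.ker (rho₁ ε N hN)) : x * y = 0 := by
  have h1 : x * y ∈ RingHom.ker (rho₁ ε N hN) ^ 2 := by
    rw [show RingHom.ker (rho₁ ε N hN) ^ 2 =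
      RingHom.ker (rho₁ ε N hN) * RingHom.ker (rho₁ ε N hN) from pow_two _]
    exact Ideal.mul_mem_mul hx hy
  rw [ker_rho₁, ← Ideal.map_pow, ker_epsQ_pow, Ideal.map_bot] at h1
  exact h1

section Key

variable [CharZero K]

theorem pow_pred_mem (N : ℕ) (hN : N ≠ 0)
    (Δ' : C →ₐ[K] (C ⧸ (RingHom.ker ε) ^ N) ⊗[K] (C ⧸ (RingHom.ker ε) ^ 2))
    (h1 : ∀ c, rho₁ ε N hN (Δ' c) = Ideal.Quotient.mk _ c)
    (h2 : ∀ c, rho₂ ε N hN (Δ' c) = Ideal.Quotient.mk _ c)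
    (a : C) (ha : a ∈ RingHom.ker ε) (hnot : a ∉ (RingHom.ker ε) ^ 2) (r : ℕ)
    (har : a ^ r ∈ (RingHom.ker ε) ^ (N + 2)) : a ^ (r - 1) ∈ (RingHom.ker ε) ^ N := by
  rcases Nat.eq_zero_or_pos r with hr0 | hrpos
  · subst hr0
    exact Ideal.pow_le_pow_right (by omega) har
  let incL : (C ⧸ (RingHom.ker ε) ^ N) →ₐ[K]
      (C ⧸ (RingHom.ker ε) ^ N) ⊗[K] (C ⧸ (RingHom.ker ε) ^ 2) :=
    Algebra.TensorProduct.includeLeft
  have hincL : ∀ d, incL d = d ⊗ₜ[K] (1 : C ⧸ (RingHom.ker ε) ^ 2) := fun d => rfl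
  set a1 : C ⧸ (RingHom.ker ε) ^ N := Ideal.Quotient.mk _ a with ha1
  set a2 : C ⧸ (RingHom.ker ε) ^ 2 := Ideal.Quotient.mk _ a with ha2
  set θ := Δ' a with hθ
  set θ₀ := θ - incL a1 with hθ₀
  have hρincL : ∀ d, rho₁ ε N hN (incL d) = d := by
    intro d
    rw [hincL, rho₁_tmul, map_one, one_smul]
  have hθ₀ker : θ₀ ∈ RingHom.ker (rho₁ ε N hN) := by
    rw [RingHom.mem_ker, hθ₀, map_sub, h1, hρincL, sub_self]
  have hsq : θ₀ * θ₀ = 0 := mul_eq_zero_of_mem_ker_rho₁ ε N hN _ _ hθ₀ker hθ₀ker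
  -- `Δ'` kills `𝔫^(N+2)`
  have hΔ0 : Δ' (a ^ r) = 0 := by
    set J₁ : Ideal ((C ⧸ (RingHom.ker ε) ^ N) ⊗[K] (C ⧸ (RingHom.ker ε) ^ 2)) :=
      (RingHom.ker (epsQ ε N hN)).map incL with hJ₁def
    set J₂ : Ideal ((C ⧸ (RingHom.ker ε) ^ N) ⊗[K] (C ⧸ (RingHom.ker ε) ^ 2)) :=
      RingHom.ker (rho₁ ε N hN) with hJ₂def
    have hmap : (RingHom.ker ε).map Δ' ≤ J₁ ⊔ J₂ := by
      rw [Ideal.map_le_iff_le_comap]
      intro c hc
      rw [Ideal.mem_comap]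
      have : Δ' c = incL (Ideal.Quotient.mk _ c) + (Δ' c - incL (Ideal.Quotient.mk _ c)) := by ring
      rw [this]
      apply Ideal.add_mem
      · apply Ideal.mem_sup_left
        apply Ideal.mem_map_of_mem
        rw [RingHom.mem_ker, epsQ_mk]; exact hc
      · apply Ideal.mem_sup_right
        rw [hJ₂def, RingHom.mem_ker, map_sub, h1, hρincL, sub_self]
    have hJ₁ : J₁ ^ N = ⊥ := by rw [hJ₁def, ← Ideal.map_pow, ker_epsQ_pow, Ideal.map_bot]
    have hJ₂ : J₂ ^ 2 = ⊥ := by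
      rw [hJ₂def, ker_rho₁, ← Ideal.map_pow, ker_epsQ_pow, Ideal.map_bot]
    have h3 : Δ' (a ^ r) ∈ (J₁ ⊔ J₂) ^ (N + 2) := by
      have h30 : Δ' (a ^ r) ∈ ((RingHom.ker ε) ^ (N + 2)).map Δ' := Ideal.mem_map_of_mem _ har
      rw [Ideal.map_pow] at h30
      exact Ideal.pow_right_mono hmap _ h30
    have h4 := Ideal.sup_pow_add_le_pow_sup_pow (I := J₁) (J := J₂) (n := N) (m := 2) h3
    rw [hJ₁, hJ₂, bot_sup_eq] at h4
    exact h4
  have hθr : θ ^ r = 0 := by rw [hθ, ← map_pow]; exact hΔ0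
  have hexp : θ ^ r = incL a1 ^ r + r • (incL a1 ^ (r - 1) * θ₀) := by
    have : θ = incL a1 + θ₀ := by rw [hθ₀]; ring
    rw [this]; exact add_pow_of_mul_self_eq_zero _ _ hsq r
  have ha1r : a1 ^ r = 0 := by
    rw [ha1, ← map_pow, Ideal.Quotient.eq_zero_iff_mem]
    exact Ideal.pow_le_pow_right (by omega) har
  -- a functional with `λ(a2) = 1`
  have ha20 : a2 ≠ 0 := by
    rw [ha2, Ne, Ideal.Quotient.eq_zero_iff_mem]; exact hnot
  obtain ⟨lam, hlam⟩ := Module.Projective.exists_dual_eq_one K ha20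
  let Λ : (C ⧸ (RingHom.ker ε) ^ N) ⊗[K] (C ⧸ (RingHom.ker ε) ^ 2) →ₗ[C ⧸ (RingHom.ker ε) ^ N]
      (C ⧸ (RingHom.ker ε) ^ N) :=
    (TensorProduct.AlgebraTensorModule.rid K (C ⧸ (RingHom.ker ε) ^ N)
      (C ⧸ (RingHom.ker ε) ^ N)).toLinearMap ∘ₗ
      (LinearMap.baseChange (C ⧸ (RingHom.ker ε) ^ N) (lam : (C ⧸ (RingHom.ker ε) ^ 2) →ₗ[K] K))
  have hΛ : ∀ d d', Λ (d ⊗ₜ[K] d') = lam d' • d := by
    intro d d'
    simp [Λ]
  have hΛincL : ∀ (d : C ⧸ (RingHom.ker ε) ^ N) w, Λ (incL d * w) = d * Λ w := by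
    intro d w
    have : incL d * w = d • w := by
      induction w using TensorProduct.induction_on with
      | zero => simp
      | tmul d₁ d₂ =>
        rw [hincL, Algebra.TensorProduct.tmul_mul_tmul, one_mul, TensorProduct.smul_tmul', smul_eq_mul]
      | add x y hx hy => rw [mul_add, smul_add, hx, hy]
    rw [this, map_smul, smul_eq_mul]
  have hεΛ : ∀ w, epsQ ε N hN (Λ w) = lam (rho₂ ε N hN w) := by
    intro w
    induction w using TensorProduct.induction_on with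
    | zero => simp
    | tmul d d' =>
      rw [hΛ, rho₂_tmul, map_smul, map_smul, smul_eq_mul, smul_eq_mul, mul_comm]
    | add x y hx hy => simp only [map_add, hx, hy]
  have hu : IsUnit (Λ θ₀) := by
    have h5 : epsQ ε N hN (Λ θ₀) = 1 := by
      rw [hεΛ, hθ₀, map_sub, h2, hincL, rho₂_tmul, ha1, epsQ_mk, (RingHom.mem_ker).1 ha, zero_smul,
        sub_zero, hlam]
    have h6 : Λ θ₀ - 1 ∈ RingHom.ker (epsQ ε N hN) := by
      rw [RingHom.mem_ker, map_sub, h5, map_one, sub_self]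
    have h7 : IsNilpotent (Λ θ₀ - 1) := ⟨N, by
      have := Ideal.pow_mem_pow h6 N
      rwa [ker_epsQ_pow] at this⟩
    have : Λ θ₀ = 1 + (Λ θ₀ - 1) := by ring
    rw [this]; exact h7.isUnit_one_add
  have h8 : r • (a1 ^ (r - 1) * Λ θ₀) = 0 := by
    have e1 : incL a1 ^ r = 0 := by rw [← map_pow, ha1r, map_zero]
    have e2 : incL a1 ^ (r - 1) = incL (a1 ^ (r - 1)) := (map_pow incL a1 (r - 1)).symm
    have h80 := congrArg Λ hexp
    rw [hθr, e1, zero_add, e2, map_zero, map_nsmul, hΛincL] at h80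
    exact h80.symm
  have h9 : a1 ^ (r - 1) * Λ θ₀ = 0 := by
    rw [← Nat.cast_smul_eq_nsmul K] at h8
    exact (smul_eq_zero_iff_right (Nat.cast_ne_zero.2 hrpos.ne')).1 h8
  have h10 : a1 ^ (r - 1) = 0 := (hu.mul_left_eq_zero).1 h9
  rw [ha1, ← map_pow, Ideal.Quotient.eq_zero_iff_mem] at h10
  exact h10

/-- **Algebraic core of Cartier's theorem.** -/
theorem nilradical_le_sq
    (H : ∀ (N : ℕ) (hN : N ≠ 0), ∃ Δ' : C →ₐ[K] (C ⧸ (RingHom.ker ε) ^ N) ⊗[K] (C ⧸ (RingHom.ker ε) ^ 2),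
      (∀ c, rho₁ ε N hN (Δ' c) = Ideal.Quotient.mk _ c) ∧
      (∀ c, rho₂ ε N hN (Δ' c) = Ideal.Quotient.mk _ c)) :
    nilradical C ≤ (RingHom.ker ε) ^ 2 := by
  classical
  intro a ha
  by_contra ha2
  have hnil : IsNilpotent a := ha
  have haker : a ∈ RingHom.ker ε := by
    rw [RingHom.mem_ker]
    exact (hnil.map ε).eq_zero
  have hex : ∃ r : ℕ, ∀ M : ℕ, a ^ r ∈ (RingHom.ker ε) ^ M := by
    obtain ⟨r, hr⟩ := hnil
    exact ⟨r, fun M => by rw [hr]; exact Ideal.zero_mem _⟩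
  have hr := Nat.find_spec hex
  have hmin := fun m => Nat.find_min hex (m := m)
  set r := Nat.find hex with hrdef
  have hr0 : r ≠ 0 := by
    intro h0
    have h1 := hr 1
    rw [h0, pow_zero, pow_one] at h1
    have : ε 1 = 0 := (RingHom.mem_ker).1 h1
    rw [map_one] at this
    exact one_ne_zero this
  apply hmin (r - 1) (by omega)
  intro M
  rcases Nat.eq_zero_or_pos M with hM | hM
  · subst hM; rw [pow_zero, Ideal.one_eq_top]; trivial
  obtain ⟨Δ', h1, h2⟩ := H M hM.ne'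
  exact pow_pred_mem ε M hM.ne' Δ' h1 h2 a haker ha2 r (hr (M + 2))

end Key

end Groth.Agent.Lib.Helper23.CartierLocal
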