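import Mathlib
import Groth.Prelude.Def_VecGrp
import Groth.Agent.Lib.Helper23.CartierLocal

/-!
# Infinitesimal comultiplication on an affine chart of a group scheme (helper23)

Let `G` be a group scheme over a field `K` and `j : Spec C ⟶ G` an open immersion of `K`-schemes
whose image contains the unit point.  Points of `G` with values in a `K`-algebra `D` landing in the
chart correspond to algebra maps `C → D`.  Multiplying the two canonical points of
`Spec (C/𝔫^N ⊗ C/𝔫^2)` gives an infinitesimal comultiplication, to which the algebraic core of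
Cartier's theorem applies: in characteristic zero `nil C ≤ 𝔫²`.
-/

set_option autoImplicit false
set_option linter.unusedSectionVars false

namespace Groth.Agent.Lib.Helper23.CartierChart

universe u
open CategoryTheory MonoidalCategory CartesianMonoidalCategory MonObj GrpObj AlgebraicGeometry
  TensorProduct Groth.Agent.Lib.Helper23.CartierLocal

variable {K : Type u} [Field K] (G : Over (Spec (CommRingCat.of K))) [GrpObj G]
  {C : Type u} [CommRing C] [Algebra K C]
  (j : Spec (CommRingCat.of C) ⟶ G.left) [IsOpenImmersion j]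
  (hj : j ≫ G.hom = Spec.map (CommRingCat.ofHom (algebraMap K C)))

section Points

variable {D : Type u} [CommRing D] [Algebra K D] {D' : Type u} [CommRing D'] [Algebra K D']

/-- The point of `G` attached to an algebra map out of the chart. -/
noncomputable def tpt (ψ : C →ₐ[K] D) : VecGrp.pt K D ⟶ G :=
  Over.homMk (Spec.map (CommRingCat.ofHom ψ.toRingHom) ≫ j) (by
    show (Spec.map (CommRingCat.ofHom ψ.toRingHom) ≫ j) ≫ G.hom =
      Spec.map (CommRingCat.ofHom (algebraMap K D))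
    rw [Category.assoc, hj, ← Spec.map_comp]
    congr 1
    exact CommRingCat.hom_ext (RingHom.ext fun r => ψ.commutes r))

theorem tpt_left (ψ : C →ₐ[K] D) :
    (tpt G j hj ψ).left = Spec.map (CommRingCat.ofHom ψ.toRingHom) ≫ j := rfl

theorem ptMap_comp_tpt (φ : D →ₐ[K] D') (ψ : C →ₐ[K] D) :
    VecGrp.ptMap φ ≫ tpt G j hj ψ = tpt G j hj (φ.comp ψ) := by
  apply Over.OverMorphism.ext
  show Spec.map (CommRingCat.ofHom φ.toRingHom) ≫ (Spec.map (CommRingCat.ofHom ψ.toRingHom) ≫ j) =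
    Spec.map (CommRingCat.ofHom (φ.comp ψ).toRingHom) ≫ j
  rw [← Category.assoc, ← Spec.map_comp]
  rfl

theorem tpt_injective {ψ ψ' : C →ₐ[K] D} (h : tpt G j hj ψ = tpt G j hj ψ') : ψ = ψ' := by
  have h1 := congrArg (fun t => t.left) h
  simp only [tpt_left] at h1
  have h2 := (cancel_mono j).1 h1
  have h3 := Spec.map_injective h2
  ext c
  exact congr($h3 c)

include hj in
theorem exists_tpt_eq (g : VecGrp.pt K D ⟶ G) (hg : Set.range g.left.base ⊆ Set.range j.base) :
    ∃ ψ : C →ₐ[K] D, tpt G j hj ψ = g := by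
  let l : Spec (CommRingCat.of D) ⟶ Spec (CommRingCat.of C) := IsOpenImmersion.lift j g.left hg
  have hl : l ≫ j = g.left := IsOpenImmersion.lift_fac j g.left hg
  let ψ₀ : CommRingCat.of C ⟶ CommRingCat.of D := Spec.preimage l
  have hψ₀ : Spec.map ψ₀ = l := Spec.map_preimage l
  have hcomm : CommRingCat.ofHom (algebraMap K C) ≫ ψ₀ = CommRingCat.ofHom (algebraMap K D) := by
    apply Spec.map_injective
    rw [Spec.map_comp, hψ₀, ← hj, ← Category.assoc, hl]
    exact Over.w g
  refine ⟨⟨ψ₀.hom, fun r => congr($hcomm r)⟩, ?_⟩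
  apply Over.OverMorphism.ext
  show Spec.map ψ₀ ≫ j = g.left
  rw [hψ₀, hl]

end Points

section Unit

/-- The unit point, as a point with values in `K`, lands in a chart containing the unit. -/
theorem range_one_subset
    (he : η[G].left.base (IsLocalRing.closedPoint K) ∈ Set.range j.base) :
    Set.range (1 : VecGrp.pt K K ⟶ G).left.base ⊆ Set.range j.base := by
  rintro _ ⟨p, rfl⟩
  have h1 : (1 : VecGrp.pt K K ⟶ G) = toUnit _ ≫ η[G] := rfl
  have h2 : (1 : VecGrp.pt K K ⟶ G).left.base p =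
      η[G].left.base ((toUnit (VecGrp.pt K K)).left.base p) := by
    rw [h1]; rfl
  rw [h2]
  have h3 : (toUnit (VecGrp.pt K K)).left.base p = IsLocalRing.closedPoint K :=
    Subsingleton.elim (α := PrimeSpectrum K) _ _
  rw [h3]
  exact he

variable (ε : C →ₐ[K] K) (hε : tpt G j hj ε = 1)

include hε in
theorem tpt_ofId_comp (D : Type u) [CommRing D] [Algebra K D] :
    tpt G j hj ((Algebra.ofId K D).comp ε) = 1 := by
  rw [← ptMap_comp_tpt, hε, MonObj.comp_one]

include hε in
theorem exists_infinitesimal_comul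
    (he : η[G].left.base (IsLocalRing.closedPoint K) ∈ Set.range j.base) (N : ℕ) (hN : N ≠ 0) :
    ∃ Δ' : C →ₐ[K] (C ⧸ (RingHom.ker ε) ^ N) ⊗[K] (C ⧸ (RingHom.ker ε) ^ 2),
      (∀ c, rho₁ ε N hN (Δ' c) = Ideal.Quotient.mk _ c) ∧
      (∀ c, rho₂ ε N hN (Δ' c) = Ideal.Quotient.mk _ c) := by
  let π : C →ₐ[K] (C ⧸ (RingHom.ker ε) ^ N) := Ideal.Quotient.mkₐ K _
  let π₂ : C →ₐ[K] (C ⧸ (RingHom.ker ε) ^ 2) := Ideal.Quotient.mkₐ K _
  let incL : (C ⧸ (RingHom.ker ε) ^ N) →ₐ[K]
      (C ⧸ (RingHom.ker ε) ^ N) ⊗[K] (C ⧸ (RingHom.ker ε) ^ 2) :=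
    Algebra.TensorProduct.includeLeft
  let incR : (C ⧸ (RingHom.ker ε) ^ 2) →ₐ[K]
      (C ⧸ (RingHom.ker ε) ^ N) ⊗[K] (C ⧸ (RingHom.ker ε) ^ 2) :=
    Algebra.TensorProduct.includeRight
  set g₁ := tpt G j hj (incL.comp π) with hg₁
  set g₂ := tpt G j hj (incR.comp π₂) with hg₂
  set ν := g₁ * g₂ with hν
  have hcomp : ∀ {D' : Type u} [CommRing D'] [Algebra K D']
      (φ : (C ⧸ (RingHom.ker ε) ^ N) ⊗[K] (C ⧸ (RingHom.ker ε) ^ 2) →ₐ[K] D'),
      VecGrp.ptMap φ ≫ ν = tpt G j hj (φ.comp (incL.comp π)) * tpt G j hj (φ.comp (incR.comp π₂)) := by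
    intro D' _ _ φ
    rw [hν, MonObj.comp_mul, hg₁, hg₂, ptMap_comp_tpt, ptMap_comp_tpt]
  -- the closed point
  let εR : (C ⧸ (RingHom.ker ε) ^ N) ⊗[K] (C ⧸ (RingHom.ker ε) ^ 2) →ₐ[K] K :=
    (epsQ ε N hN).comp (rho₁ ε N hN)
  have hεR1 : εR.comp (incL.comp π) = ε := by
    ext c
    show epsQ ε N hN (rho₁ ε N hN (Ideal.Quotient.mk _ c ⊗ₜ[K] 1)) = ε c
    rw [rho₁_tmul, map_one, one_smul, epsQ_mk]
  have hεR2 : εR.comp (incR.comp π₂) = ε := by
    ext c
    show epsQ ε N hN (rho₁ ε N hN (1 ⊗ₜ[K] Ideal.Quotient.mk _ c)) = ε c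
    rw [rho₁_tmul, epsQ_mk, map_smul, map_one, smul_eq_mul, _root_.mul_one]
  have hpt : VecGrp.ptMap εR ≫ ν = 1 := by
    rw [hcomp, hεR1, hε, _root_.one_mul, hεR2, hε]
  -- every prime of the tensor product is the kernel of `εR`
  have hker_nil : ∀ x ∈ RingHom.ker εR, IsNilpotent x := by
    intro x hx
    have h1 : rho₁ ε N hN x ∈ RingHom.ker (epsQ ε N hN) := hx
    have h2 : (rho₁ ε N hN x) ^ N ∈ RingHom.ker (epsQ ε N hN) ^ N := Ideal.pow_mem_pow h1 N
    rw [ker_epsQ_pow, Ideal.mem_bot, ← map_pow] at h2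
    refine ⟨N + N, ?_⟩
    rw [pow_add]
    exact mul_eq_zero_of_mem_ker_rho₁ ε N hN _ _ h2 h2
  have hεRsurj : Function.Surjective εR := by
    intro k
    exact ⟨algebraMap K _ k, by rw [AlgHom.commutes]; rfl⟩
  have hmax : (RingHom.ker εR).IsMaximal := RingHom.ker_isMaximal_of_surjective _ hεRsurj
  have hrange : Set.range ν.left.base ⊆ Set.range j.base := by
    rintro _ ⟨p, rfl⟩
    have hp : (p : PrimeSpectrum ((C ⧸ (RingHom.ker ε) ^ N) ⊗[K] (C ⧸ (RingHom.ker ε) ^ 2))) =
        (Spec.map (CommRingCat.ofHom εR.toRingHom)).base (IsLocalRing.closedPoint K) := by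
      apply PrimeSpectrum.ext
      have hle : RingHom.ker εR ≤
          (p : PrimeSpectrum ((C ⧸ (RingHom.ker ε) ^ N) ⊗[K] (C ⧸ (RingHom.ker ε) ^ 2))).asIdeal := by
        intro x hx
        obtain ⟨m, hm⟩ := hker_nil x hx
        exact Ideal.IsPrime.mem_of_pow_mem (PrimeSpectrum.isPrime _) m (hm ▸ Ideal.zero_mem _)
      have h1 := hmax.eq_of_le (PrimeSpectrum.isPrime _).ne_top hle
      rw [← h1]
      ext x
      show x ∈ RingHom.ker εR ↔ εR x ∈ IsLocalRing.maximalIdeal K
      rw [IsLocalRing.maximalIdeal_eq_bot, Ideal.mem_bot, RingHom.mem_ker]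
    rw [hp]
    have h2 : ν.left.base ((Spec.map (CommRingCat.ofHom εR.toRingHom)).base
        (IsLocalRing.closedPoint K)) =
        (VecGrp.ptMap εR ≫ ν).left.base (IsLocalRing.closedPoint K) := rfl
    rw [h2, hpt]
    exact range_one_subset G j he ⟨_, rfl⟩
  obtain ⟨Δ', hΔ'⟩ := exists_tpt_eq G j hj ν hrange
  have hone := tpt_ofId_comp G j hj ε hε
  refine ⟨Δ', ?_, ?_⟩
  · have h1 : (rho₁ ε N hN).comp Δ' = π := by
      apply tpt_injective G j hj
      rw [← ptMap_comp_tpt, hΔ', hcomp]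
      have e1 : (rho₁ ε N hN).comp (incL.comp π) = π := by
        ext c
        show rho₁ ε N hN (Ideal.Quotient.mk _ c ⊗ₜ[K] 1) = _
        rw [rho₁_tmul, map_one, one_smul]
        rfl
      have e2 : (rho₁ ε N hN).comp (incR.comp π₂) = (Algebra.ofId K _).comp ε := by
        ext c
        show rho₁ ε N hN (1 ⊗ₜ[K] Ideal.Quotient.mk _ c) = _
        rw [rho₁_tmul, epsQ_mk, Algebra.smul_def, _root_.mul_one]
        rfl
      rw [e1, e2, hone, _root_.mul_one]
    exact fun c => AlgHom.congr_fun h1 c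
  · have h2 : (rho₂ ε N hN).comp Δ' = π₂ := by
      apply tpt_injective G j hj
      rw [← ptMap_comp_tpt, hΔ', hcomp]
      have e1 : (rho₂ ε N hN).comp (incL.comp π) = (Algebra.ofId K _).comp ε := by
        ext c
        show rho₂ ε N hN (Ideal.Quotient.mk _ c ⊗ₜ[K] 1) = _
        rw [rho₂_tmul, epsQ_mk, Algebra.smul_def, _root_.mul_one]
        rfl
      have e2 : (rho₂ ε N hN).comp (incR.comp π₂) = π₂ := by
        ext c
        show rho₂ ε N hN (1 ⊗ₜ[K] Ideal.Quotient.mk _ c) = _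
        rw [rho₂_tmul, map_one, one_smul]
        rfl
      rw [e1, e2, hone, _root_.one_mul]
    exact fun c => AlgHom.congr_fun h2 c

include hε in
/-- **Cartier's computation on a chart**: in characteristic zero the nilradical of a chart around the
unit lies in the square of the maximal ideal of the unit. -/
theorem nilradical_le_ker_sq [CharZero K]
    (he : η[G].left.base (IsLocalRing.closedPoint K) ∈ Set.range j.base) :
    nilradical C ≤ (RingHom.ker ε) ^ 2 :=
  nilradical_le_sq ε (fun N hN => exists_infinitesimal_comul G j hj ε hε he N hN)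

end Unit

end Groth.Agent.Lib.Helper23.CartierChart
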