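import Groth.Agent.Lib.Helper23.HopfReduced

/-!
# From `nil ≤ m²` to a reduced point (helper23)

* `nilradical_localization_le_sq` : `nil C ≤ 𝔫²` passes to the localisation at the maximal ideal `𝔫`;
* `exists_isMaximal_isDomain_localization` : a nontrivial finitely generated algebra over a perfect
  field all of whose local rings at maximal ideals satisfy `nil ≤ m²` has a maximal ideal at which
  the local ring is a domain.
-/

set_option autoImplicit false
universe u v

namespace Groth.Agent.Lib.Helper23.CartierRegular

open Groth.Agent.Lib.Helper23.HopfReduced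

theorem nilradical_localization_le_sq {C : Type*} [CommRing C] (n : Ideal C) [n.IsMaximal]
    (S : Type*) [CommRing S] [Algebra C S] [IsLocalization.AtPrime S n] [IsLocalRing S]
    (h : nilradical C ≤ n ^ 2) : nilradical S ≤ IsLocalRing.maximalIdeal S ^ 2 := by
  intro x hx
  obtain ⟨c, s, rfl⟩ := IsLocalization.exists_mk'_eq n.primeCompl x
  have hxn : IsNilpotent (IsLocalization.mk' S c s) := hx
  have hcn : IsNilpotent (algebraMap C S c) := by
    have : algebraMap C S c = IsLocalization.mk' S c s * algebraMap C S s := by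
      rw [IsLocalization.mk'_spec]
    rw [this]
    exact (Commute.all _ _).isNilpotent_mul_right hxn
  obtain ⟨r, hr⟩ := hcn
  rw [← map_pow, IsLocalization.map_eq_zero_iff n.primeCompl] at hr
  obtain ⟨t, ht⟩ := hr
  have htc : IsNilpotent ((t : C) * c) := by
    refine ⟨r + 1, ?_⟩
    have : ((t : C) * c) ^ (r + 1) = ((t : C) * c ^ r) * ((t : C) ^ r * c) := by ring
    rw [this, ht, zero_mul]
  have h1 : (t : C) * c ∈ n ^ 2 := h htc
  have h2 : algebraMap C S ((t : C) * c) ∈ IsLocalRing.maximalIdeal S ^ 2 := by
    rw [← IsLocalization.AtPrime.map_eq_maximalIdeal n S, ← Ideal.map_pow]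
    exact Ideal.mem_map_of_mem _ h1
  have h3 : IsLocalization.mk' S c s =
      algebraMap C S ((t : C) * c) * IsLocalization.mk' S 1 (t * s) := by
    rw [← IsLocalization.mk'_eq_mul_mk'_one, IsLocalization.mk'_eq_iff_eq]
    simp only [Submonoid.coe_mul]
    ring_nf
  rw [h3]
  exact Ideal.mul_mem_right _ _ h2

theorem exists_isMaximal_isDomain_localization (k : Type u) [Field k] [PerfectField k]
    (A : Type v) [CommRing A] [Algebra k A] [Algebra.FiniteType k A] [Nontrivial A]
    (h : ∀ (n : Ideal A) [n.IsMaximal],
      nilradical (Localization.AtPrime n) ≤ IsLocalRing.maximalIdeal (Localization.AtPrime n) ^ 2) :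
    ∃ (n : Ideal A) (_ : n.IsMaximal), IsDomain (Localization.AtPrime n) := by
  have hN : IsNoetherianRing A := Algebra.FiniteType.isNoetherianRing k A
  have hred' : IsReduced (A ⧸ nilradical A) :=
    (Ideal.isRadical_iff_quotient_reduced _).1 (Ideal.radical_isRadical ⊥)
  have hft' : Algebra.FiniteType k (A ⧸ nilradical A) :=
    Algebra.FiniteType.of_surjective (Ideal.Quotient.mkₐ k _) (Ideal.Quotient.mkₐ_surjective k _)
  have hnil_ne : nilradical A ≠ ⊤ := by
    intro htop
    have h1 : (1 : A) ∈ nilradical A := htop ▸ Submodule.mem_top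
    obtain ⟨m, hm⟩ := (show IsNilpotent (1 : A) from h1)
    rw [one_pow] at hm
    exact one_ne_zero hm
  have hnt' : Nontrivial (A ⧸ nilradical A) := Ideal.Quotient.nontrivial_iff.2 hnil_ne
  obtain ⟨n', hn', hreg'⟩ := exists_isMaximal_isRegularLocalRing_of_isReduced k (A ⧸ nilradical A)
  let n : Ideal A := n'.comap (Ideal.Quotient.mk (nilradical A))
  have hn : n.IsMaximal := Ideal.comap_isMaximal_of_surjective _ Ideal.Quotient.mk_surjective
  let J : Ideal (Localization.AtPrime n) := (nilradical A).map (algebraMap A (Localization.AtPrime n))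
  have hloc : IsLocalization (Algebra.algebraMapSubmonoid (A ⧸ nilradical A) n.primeCompl)
      (Localization.AtPrime n ⧸ J) := inferInstance
  have hsub : Algebra.algebraMapSubmonoid (A ⧸ nilradical A) n.primeCompl = n'.primeCompl := by
    ext y
    simp only [Algebra.algebraMapSubmonoid, Submonoid.mem_map, Ideal.mem_primeCompl_iff]
    constructor
    · rintro ⟨x, hx, rfl⟩
      exact hx
    · intro hy
      obtain ⟨x, rfl⟩ := Ideal.Quotient.mk_surjective y
      exact ⟨x, hy, rfl⟩
  rw [hsub] at hloc
  have hloc' : IsLocalization.AtPrime (Localization.AtPrime n ⧸ J) n' := hloc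
  let E : Localization.AtPrime n' ≃+* (Localization.AtPrime n ⧸ J) :=
    (IsLocalization.algEquiv n'.primeCompl (Localization.AtPrime n')
      (Localization.AtPrime n ⧸ J)).toRingEquiv
  have hregQ : IsRegularLocalRing (Localization.AtPrime n ⧸ J) := IsRegularLocalRing.of_ringEquiv E
  have hJ : J ≤ IsLocalRing.maximalIdeal (Localization.AtPrime n) ^ 2 := by
    refine le_trans ?_ (h n)
    rw [Ideal.map_le_iff_le_comap]
    intro x hx
    exact (show IsNilpotent x from hx).map _
  have hregB : IsRegularLocalRing (Localization.AtPrime n) :=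
    isRegularLocalRing_of_quotient _ J hJ
  exact ⟨n, hn, Groth.Agent.S0558.result _⟩

end Groth.Agent.Lib.Helper23.CartierRegular
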