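import Mathlib
import Groth.Agent.Lib.Helper23.CartierChart
import Groth.Agent.Lib.Helper23.CartierRegular

/-!
# Cartier's theorem: group schemes locally of finite type over a field of characteristic zero are
smooth (helper23)
-/

set_option autoImplicit false
set_option linter.unusedSectionVars false

namespace Groth.Agent.Lib.Helper23.CartierSmooth

universe u
open CategoryTheory MonoidalCategory CartesianMonoidalCategory MonObj GrpObj AlgebraicGeometry
  Groth.Agent.Lib.Helper23.CartierChart Groth.Agent.Lib.Helper23.CartierRegular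

/-- The property `nil ≤ m²` of a local ring. -/
def NilLeSq (A : Type*) [CommRing A] [IsLocalRing A] : Prop :=
  nilradical A ≤ IsLocalRing.maximalIdeal A ^ 2

theorem NilLeSq.of_ringEquiv {A B : Type*} [CommRing A] [IsLocalRing A] [CommRing B] [IsLocalRing B]
    (e : A ≃+* B) (h : NilLeSq A) : NilLeSq B := by
  intro x hx
  have h1 : e.symm x ∈ nilradical A := (show IsNilpotent x from hx).map e.symm
  have h2 := h h1
  have h3 : (IsLocalRing.maximalIdeal A).map (e : A →+* B) ≤ IsLocalRing.maximalIdeal B := by
    rw [Ideal.map_le_iff_le_comap]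
    intro a ha
    rw [Ideal.mem_comap, IsLocalRing.mem_maximalIdeal, mem_nonunits_iff] at *
    intro hu
    apply ha
    have := hu.map e.symm
    simpa using this
  have h4 : e (e.symm x) ∈ (IsLocalRing.maximalIdeal A ^ 2).map (e : A →+* B) :=
    Ideal.mem_map_of_mem _ h2
  rw [Ideal.map_pow, e.apply_symm_apply] at h4
  exact Ideal.pow_right_mono h3 2 h4

section Stalk

variable {X : Scheme.{u}}

/-- The closed point of a Jacobson scheme attached to a maximal ideal of an affine open. -/
theorem exists_closedPoint_stalk_equiv [JacobsonSpace X] {V : X.Opens} (hV : IsAffineOpen V)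
    (P : Ideal Γ(X, V)) [hP : P.IsMaximal] :
    ∃ z : X, IsClosed ({z} : Set X) ∧ z ∈ V ∧
      Nonempty (X.presheaf.stalk z ≃+* Localization.AtPrime P) := by
  let y : ↥(Spec Γ(X, V)) := (⟨P, hP.isPrime⟩ : PrimeSpectrum Γ(X, V))
  have hy : hV.fromSpec.base y ∈ V := by
    have : hV.fromSpec.base y ∈ Set.range hV.fromSpec.base := Set.mem_range_self y
    rw [hV.range_fromSpec] at this
    exact this
  refine ⟨hV.fromSpec.base y, ?_, hy, ?_⟩
  · apply isClosed_singleton_of_isLocallyClosed_singleton
    have hyc : IsClosed ({y} : Set ↥(Spec Γ(X, V))) :=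
      (PrimeSpectrum.isClosed_singleton_iff_isMaximal
        (⟨P, hP.isPrime⟩ : PrimeSpectrum Γ(X, V))).2 hP
    have hemb := hV.fromSpec.isOpenEmbedding
    have himg : ({hV.fromSpec.base y} : Set X) = hV.fromSpec.base '' {y} :=
      (Set.image_singleton).symm
    rw [himg]
    exact hyc.isLocallyClosed.image hemb.isInducing hemb.isOpen_range.isLocallyClosed
  · have hloc := hV.isLocalization_stalk' y hy
    let _ := TopCat.Presheaf.algebra_section_stalk X.presheaf ⟨hV.fromSpec.base y, hy⟩
    have : IsLocalization P.primeCompl (X.presheaf.stalk (hV.fromSpec.base y)) := hloc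
    exact ⟨(IsLocalization.algEquiv P.primeCompl (X.presheaf.stalk (hV.fromSpec.base y))
      (Localization.AtPrime P)).toRingEquiv⟩

end Stalk

section Transl

theorem exists_transl {C : Type*} [Category C] [CartesianMonoidalCategory C] (G : C) [GrpObj G]
    (g : 𝟙_ C ⟶ G) : ∃ τ : G ≅ G, g ≫ τ.hom = η[G] := by
  have h1 : ∀ t : G ⟶ G, t ≫ toUnit G = toUnit G := fun t => toUnit_unique _ _
  refine ⟨⟨𝟙 G * (toUnit G ≫ g⁻¹), 𝟙 G * (toUnit G ≫ g), ?_, ?_⟩, ?_⟩
  · rw [MonObj.comp_mul, Category.comp_id, ← Category.assoc, h1, _root_.mul_assoc,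
      ← MonObj.comp_mul, inv_mul_cancel, MonObj.comp_one, _root_.mul_one]
  · rw [MonObj.comp_mul, Category.comp_id, ← Category.assoc, h1, _root_.mul_assoc,
      ← MonObj.comp_mul, mul_inv_cancel, MonObj.comp_one, _root_.mul_one]
  · show g ≫ (𝟙 G * (toUnit G ≫ g⁻¹)) = η[G]
    rw [MonObj.comp_mul, Category.comp_id, ← Category.assoc]
    have : g ≫ toUnit G = 𝟙 _ := toUnit_unique _ _
    rw [this, Category.id_comp, mul_inv_cancel, MonObj.one_eq_one]

variable {K : Type u} [Field K] [IsAlgClosed K] (G : Over (Spec (CommRingCat.of K))) [GrpObj G]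
  [LocallyOfFiniteType G.hom]

/-- Homogeneity: closed points of a group scheme locally of finite type over an algebraically closed
field are conjugate under automorphisms of the scheme over the field. -/
theorem exists_iso_apply_eq (x y : G.left) (hx : IsClosed ({x} : Set G.left))
    (hy : IsClosed ({y} : Set G.left)) : ∃ α : G ≅ G, α.hom.left.base x = y := by
  let px := (pointEquivClosedPoint G.hom).symm ⟨x, hx⟩
  let py := (pointEquivClosedPoint G.hom).symm ⟨y, hy⟩
  let x' : 𝟙_ (Over (Spec (CommRingCat.of K))) ⟶ G := Over.homMk px.1 px.2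
  let y' : 𝟙_ (Over (Spec (CommRingCat.of K))) ⟶ G := Over.homMk py.1 py.2
  obtain ⟨τx, hτx⟩ := exists_transl G x'
  obtain ⟨τy, hτy⟩ := exists_transl G y'
  let α : G ≅ G := τx ≪≫ τy.symm
  have hα : x' ≫ α.hom = y' := by
    show x' ≫ τx.hom ≫ τy.inv = y'
    rw [← Category.assoc, hτx, ← hτy, Category.assoc, Iso.hom_inv_id, Category.comp_id]
  have hxp : px.1.base (IsLocalRing.closedPoint K) = x :=
    congrArg Subtype.val ((pointEquivClosedPoint G.hom).apply_symm_apply ⟨x, hx⟩)
  have hyp : py.1.base (IsLocalRing.closedPoint K) = y :=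
    congrArg Subtype.val ((pointEquivClosedPoint G.hom).apply_symm_apply ⟨y, hy⟩)
  refine ⟨α, ?_⟩
  rw [← hxp, ← hyp]
  have := congrArg (fun t => t.left.base (IsLocalRing.closedPoint K)) hα
  exact this

/-- Homogeneity: the local rings at closed points of a group scheme locally of finite type over an
algebraically closed field are all isomorphic. -/
theorem nonempty_stalk_ringEquiv (x y : G.left) (hx : IsClosed ({x} : Set G.left))
    (hy : IsClosed ({y} : Set G.left)) :
    Nonempty (G.left.presheaf.stalk x ≃+* G.left.presheaf.stalk y) := by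
  obtain ⟨α, hα'⟩ := exists_iso_apply_eq G x y hx hy
  subst hα'
  have hiso : IsIso α.hom.left := (inferInstance : IsIso ((Over.forget _).map α.hom))
  exact ⟨(asIso (α.hom.left.stalkMap x)).commRingCatIsoToRingEquiv.symm⟩

/-- The structure map of an affine open, as an algebra structure. -/
@[reducible] noncomputable def chartAlgebra (U : G.left.Opens) : Algebra K Γ(G.left, U) :=
  ((Scheme.ΓSpecIso (CommRingCat.of K)).inv ≫ G.hom.appLE ⊤ U le_top).hom.toAlgebra

omit [IsAlgClosed K] [LocallyOfFiniteType G.hom] in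
theorem fromSpec_hom {U : G.left.Opens} (hU : IsAffineOpen U) :
    letI := chartAlgebra G U
    hU.fromSpec ≫ G.hom = Spec.map (CommRingCat.ofHom (algebraMap K Γ(G.left, U))) := by
  have h := IsAffineOpen.SpecMap_appLE_fromSpec G.hom (isAffineOpen_top _) hU
    (le_top : U ≤ G.hom ⁻¹ᵁ ⊤)
  rw [IsAffineOpen.fromSpec_top, Scheme.isoSpec_Spec_inv, ← Spec.map_comp] at h
  exact h.symm

omit [IsAlgClosed K] in
theorem finiteType_chart {U : G.left.Opens} (hU : IsAffineOpen U) :
    letI := chartAlgebra G U
    Algebra.FiniteType K Γ(G.left, U) := by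
  have h1 : RingHom.FiniteType (G.hom.appLE ⊤ U le_top).hom :=
    HasRingHomProperty.appLE (P := @LocallyOfFiniteType) G.hom inferInstance
      ⟨⊤, isAffineOpen_top _⟩ ⟨U, hU⟩ le_top
  have h2 : RingHom.FiniteType
      ((Scheme.ΓSpecIso (CommRingCat.of K)).inv ≫ G.hom.appLE ⊤ U le_top).hom := by
    rw [CommRingCat.hom_comp]
    exact h1.comp (RingHom.FiniteType.of_surjective _
      (ConcreteCategory.bijective_of_isIso (Scheme.ΓSpecIso (CommRingCat.of K)).inv).surjective)
  exact h2

/-- Cartier's computation: the local ring at some closed point satisfies `nil ≤ m²`. -/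
theorem exists_closedPoint_nilLeSq [CharZero K] :
    ∃ z : G.left, IsClosed ({z} : Set G.left) ∧ NilLeSq (G.left.presheaf.stalk z) := by
  have hJ : JacobsonSpace G.left := LocallyOfFiniteType.jacobsonSpace G.hom
  obtain ⟨U, hU, heU, -⟩ := exists_isAffineOpen_mem_and_subset
    (x := η[G].left.base (IsLocalRing.closedPoint K)) (U := ⊤) trivial
  let _ := chartAlgebra G U
  let j : Spec (CommRingCat.of Γ(G.left, U)) ⟶ G.left := hU.fromSpec
  have hjo : IsOpenImmersion j := inferInstanceAs (IsOpenImmersion hU.fromSpec)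
  have hj : j ≫ G.hom = Spec.map (CommRingCat.ofHom (algebraMap K Γ(G.left, U))) := fromSpec_hom G hU
  have he : η[G].left.base (IsLocalRing.closedPoint K) ∈ Set.range j.base := by
    have : Set.range j.base = U := hU.range_fromSpec
    rw [this]
    exact heU
  obtain ⟨ε, hε⟩ := exists_tpt_eq G j hj (1 : VecGrp.pt K K ⟶ G) (range_one_subset G j he)
  have hnil := nilradical_le_ker_sq G j hj ε hε he
  have hsurj : Function.Surjective ε := fun k => ⟨algebraMap K _ k, by rw [AlgHom.commutes]; rfl⟩
  have hmax : (RingHom.ker ε).IsMaximal := RingHom.ker_isMaximal_of_surjective _ hsurj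
  obtain ⟨z, hz, -, ⟨e⟩⟩ := exists_closedPoint_stalk_equiv hU (RingHom.ker ε)
  refine ⟨z, hz, ?_⟩
  have h1 : NilLeSq (Localization.AtPrime (RingHom.ker ε)) :=
    nilradical_localization_le_sq (RingHom.ker ε) _ hnil
  exact h1.of_ringEquiv e.symm

/-- **Cartier**: a group scheme locally of finite type over an algebraically closed field of
characteristic zero is reduced. -/
theorem isReduced_of_charZero [CharZero K] : IsReduced G.left := by
  have hJ : JacobsonSpace G.left := LocallyOfFiniteType.jacobsonSpace G.hom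
  obtain ⟨z₀, hz₀, hP₀⟩ := exists_closedPoint_nilLeSq G
  have hP : ∀ x : G.left, IsClosed ({x} : Set G.left) → NilLeSq (G.left.presheaf.stalk x) := by
    intro x hx
    obtain ⟨e⟩ := nonempty_stalk_ringEquiv G z₀ x hz₀ hx
    exact hP₀.of_ringEquiv e
  have hex : ∃ z₁ : G.left, IsClosed ({z₁} : Set G.left) ∧
      _root_.IsReduced (G.left.presheaf.stalk z₁) := by
    obtain ⟨U, hU, heU, -⟩ := exists_isAffineOpen_mem_and_subset (x := z₀) (U := ⊤) trivial
    let _ := chartAlgebra G U
    have hft : Algebra.FiniteType K Γ(G.left, U) := finiteType_chart G hU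
    have hne : Nonempty U := ⟨⟨z₀, heU⟩⟩
    have hnt : Nontrivial Γ(G.left, U) := inferInstance
    obtain ⟨n, hn, hdom⟩ := exists_isMaximal_isDomain_localization K Γ(G.left, U) (fun n _ => by
      obtain ⟨z, hz, -, ⟨e⟩⟩ := exists_closedPoint_stalk_equiv hU n
      exact (hP z hz).of_ringEquiv e)
    obtain ⟨z, hz, -, ⟨e⟩⟩ := exists_closedPoint_stalk_equiv hU n
    exact ⟨z, hz, isReduced_of_injective e.toRingHom e.injective⟩
  obtain ⟨z₁, hz₁, hred₁⟩ := hex
  have hR : ∀ x : G.left, IsClosed ({x} : Set G.left) →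
      _root_.IsReduced (G.left.presheaf.stalk x) := by
    intro x hx
    obtain ⟨e⟩ := nonempty_stalk_ringEquiv G x z₁ hx hz₁
    exact isReduced_of_injective e.toRingHom e.injective
  have hV : ∀ V : G.left.Opens, IsAffineOpen V → _root_.IsReduced Γ(G.left, V) := by
    intro V hV
    apply isReduced_ofLocalizationMaximal
    intro P hP'
    obtain ⟨z, hz, -, ⟨e⟩⟩ := exists_closedPoint_stalk_equiv hV P
    have := hR z hz
    exact isReduced_of_injective e.symm.toRingHom e.symm.injective
  have hS : ∀ x : G.left, _root_.IsReduced (G.left.presheaf.stalk x) := by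
    intro x
    obtain ⟨V, hV', hxV, -⟩ := exists_isAffineOpen_mem_and_subset (x := x) (U := ⊤) trivial
    have hredV := hV V hV'
    let _ := TopCat.Presheaf.algebra_section_stalk G.left.presheaf ⟨x, hxV⟩
    have hloc := hV'.isLocalization_stalk ⟨x, hxV⟩
    exact isReduced_localizationPreserves (hV'.primeIdealOf ⟨x, hxV⟩).asIdeal.primeCompl _ hredV
  exact isReduced_of_isReduced_stalk _

/-- A reduced group scheme locally of finite type over an algebraically closed field is smooth
(after Mathlib's `smooth_of_grpObj`). -/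
theorem smooth_of_isReduced [IsReduced G.left] : Smooth G.hom := by
  have hJ := LocallyOfFiniteType.jacobsonSpace G.hom
  have hne : Nonempty G.left := ⟨η[G].left.base (IsLocalRing.closedPoint K)⟩
  rw [← Scheme.Hom.smoothLocus_eq_top_iff, ← TopologicalSpace.Opens.coe_eq_univ,
    ← not_ne_iff, ← Set.nonempty_compl]
  intro H
  obtain ⟨x, hx, hxc⟩ :=
    nonempty_inter_closedPoints H G.hom.smoothLocus.2.isClosed_compl.isLocallyClosed
  obtain ⟨y, hy, hyc⟩ := nonempty_inter_closedPoints
    G.hom.dense_smoothLocus_of_perfectField.nonempty G.hom.smoothLocus.2.isLocallyClosed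
  obtain ⟨α, hα'⟩ := exists_iso_apply_eq G x y hxc hyc
  have hiso : IsIso α.hom.left := (inferInstance : IsIso ((Over.forget _).map α.hom))
  have hy' : y ∈ G.hom.smoothLocus := hy
  rw! [← hα', ← α.hom.left.mem_preimage, Scheme.Hom.preimage_smoothLocus_eq,
    show α.hom.left ≫ G.hom = G.hom from Over.w α.hom] at hy'
  exact hx hy'

/-- **Cartier's theorem** over an algebraically closed field. -/
theorem smooth_of_charZero_of_isAlgClosed [CharZero K] : Smooth G.hom := by
  have := isReduced_of_charZero G
  exact smooth_of_isReduced G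

end Transl

/-- **Cartier's theorem**: a group scheme locally of finite type over a field of characteristic
zero is smooth. -/
theorem smooth_of_charZero {K : Type u} [Field K] [CharZero K]
    (G : Over (Spec (CommRingCat.of K))) [GrpObj G] [LocallyOfFiniteType G.hom] : Smooth G.hom := by
  let Ω : Type u := AlgebraicClosure K
  let g : Spec (.of Ω) ⟶ Spec (.of K) := Spec.map (CommRingCat.ofHom <| algebraMap K Ω)
  have hchar : CharZero Ω := charZero_of_injective_algebraMap (algebraMap K Ω).injective
  apply MorphismProperty.of_pullback_snd_of_descendsAlong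
    (Q := @Surjective ⊓ @Flat ⊓ @QuasiCompact) (g := g)
  · exact ⟨⟨inferInstance, inferInstance⟩, inferInstance⟩
  · let i0 : GrpObj (Over.mk G.hom) := (inferInstance : GrpObj G)
    let i1 : GrpObj (Over.mk (Limits.pullback.snd G.hom g)) := Over.grpObjMkPullbackSnd
    have i2 : LocallyOfFiniteType (Over.mk (Limits.pullback.snd G.hom g)).hom :=
      (inferInstance : LocallyOfFiniteType (Limits.pullback.snd G.hom g))
    exact smooth_of_charZero_of_isAlgClosed (K := Ω) (Over.mk (Limits.pullback.snd G.hom g))

end Groth.Agent.Lib.Helper23.CartierSmooth
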