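import Groth.Agent.Lib.Helper23.GITAffine
import Mathlib.RingTheory.Spectrum.Prime.Chevalley
import Mathlib.RingTheory.FinitePresentation

/-!
# Closed orbits for affine group actions, coaction form (helper23)

* `exists_notMem_forall_mem_range`: a consequence of Chevalley's theorem: the image of `Spec φ`
  contains a nonempty open subset of every irreducible component of its closure.
* `exists_actPt_of_ker_orbitHom_eq`: two rational points with the same orbit closure lie in the same
  orbit (orbits are open in their closure).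
* `exists_closedOrbit_point`: every orbit closure contains a closed orbit.
-/

set_option autoImplicit false
universe u v w w'

open TensorProduct Groth.Agent.Lib.Helper75 Groth.Agent.Lib.Helper23.Reynolds
open Groth.Agent.Lib.Helper23.GITAffine

namespace Groth.Agent.Lib.Helper23.ClosedOrbit

attribute [local instance] comodModule

section Chevalley

/-- Consequence of Chevalley's theorem: if `φ : R → A` is of finite presentation and `η` is a
minimal prime over `ker φ`, then there is `f ∉ η` such that every prime `q ⊇ η` with `f ∉ q` is in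
the image of `Spec φ`. -/
theorem exists_notMem_forall_mem_range {R : Type v} {A : Type w} [CommRing R] [CommRing A]
    (φ : R →+* A) (hφ : φ.FinitePresentation) (η : Ideal R)
    (hη : η ∈ (RingHom.ker φ).minimalPrimes) :
    ∃ f : R, f ∉ η ∧ ∀ q : Ideal R, q.IsPrime → η ≤ q → f ∉ q →
      ∃ p : Ideal A, p.IsPrime ∧ p.comap φ = q := by
  obtain ⟨S, hS⟩ := PrimeSpectrum.exists_constructibleSetData_iff.mpr
    (PrimeSpectrum.isConstructible_range_comap hφ)
  have hηprime : η.IsPrime := hη.1.1
  obtain ⟨p', hp', -, hpη⟩ := Ideal.exists_comap_eq_of_mem_minimalPrimes (I := ⊥) φ η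
    (by rwa [← RingHom.ker_eq_comap_bot])
  have hmem : (⟨η, hηprime⟩ : PrimeSpectrum R) ∈ S.toSet := by
    rw [hS]
    exact ⟨⟨p', hp'⟩, PrimeSpectrum.ext hpη⟩
  simp only [PrimeSpectrum.ConstructibleSetData.toSet, Set.mem_iUnion] at hmem
  obtain ⟨C, hC, hmemC⟩ := hmem
  obtain ⟨hg, hf⟩ := hmemC
  refine ⟨C.f, ?_, ?_⟩
  · intro hmem
    apply hf
    rw [PrimeSpectrum.mem_zeroLocus]
    intro a ha
    rw [Set.mem_singleton_iff] at ha
    rw [ha]
    exact hmem
  · intro q hq hηq hfq
    have hqmem : (⟨q, hq⟩ : PrimeSpectrum R) ∈ S.toSet := by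
      simp only [PrimeSpectrum.ConstructibleSetData.toSet, Set.mem_iUnion]
      refine ⟨C, hC, ?_, ?_⟩
      · rw [PrimeSpectrum.mem_zeroLocus] at hg ⊢
        exact hg.trans hηq
      · intro h
        rw [PrimeSpectrum.mem_zeroLocus] at h
        exact hfq (h (Set.mem_singleton _))
    rw [hS] at hqmem
    obtain ⟨p, hp⟩ := hqmem
    exact ⟨p.asIdeal, p.isPrime, congrArg PrimeSpectrum.asIdeal hp⟩

end Chevalley

section SameClosure

variable {K : Type u} [Field K] [IsAlgClosed K] {A : Type v} [CommRing A] [HopfAlgebra K A]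
  [Algebra.FiniteType K A]
variable {R : Type w} [CommRing R] [Algebra K R] [Algebra.FiniteType K R] [HopfRep.Comod K A R]
  [GLin.IsCoactAlg K A R]

omit [IsAlgClosed K] in
theorem finitePresentation_orbitHom (x : R →ₐ[K] K) :
    (GLin.orbitHom K A x : R →+* A).FinitePresentation := by
  have hN : IsNoetherianRing R := Algebra.FiniteType.isNoetherianRing K R
  rw [← RingHom.FinitePresentation.of_finiteType]
  apply RingHom.FiniteType.of_comp_finiteType (f := algebraMap K R)
  have : ((GLin.orbitHom K A x : R →+* A).comp (algebraMap K R)) = algebraMap K A := by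
    ext c
    simp
  rw [this]
  exact RingHom.finiteType_algebraMap.mpr inferInstance

omit [IsAlgClosed K] [Algebra.FiniteType K A] [Algebra.FiniteType K R] in
theorem ker_orbitHom_ne_top (x : R →ₐ[K] K) :
    RingHom.ker (GLin.orbitHom K A x : R →+* A) ≠ ⊤ := by
  intro h
  have h1 : (1 : R) ∈ RingHom.ker (x : R →+* K) := ker_orbitHom_le_ker (A := A) x (by rw [h]; trivial)
  rw [RingHom.mem_ker, map_one] at h1
  exact one_ne_zero h1

omit [IsAlgClosed K] [Algebra.FiniteType K A] [Algebra.FiniteType K R] in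
theorem ker_algHom_ne_top (x : R →ₐ[K] K) : RingHom.ker (x : R →+* K) ≠ ⊤ := by
  intro h
  have h1 : (1 : R) ∈ RingHom.ker (x : R →+* K) := by rw [h]; trivial
  rw [RingHom.mem_ker, map_one] at h1
  exact one_ne_zero h1

/-- **Orbits are open in their closure**: two rational points with the same orbit closure lie in the
same orbit. -/
theorem exists_actPt_of_ker_orbitHom_eq (y z : R →ₐ[K] K)
    (h : RingHom.ker (GLin.orbitHom K A y : R →+* A) = RingHom.ker (GLin.orbitHom K A z : R →+* A)) :
    ∃ g : A →ₐ[K] K, z = GLin.actPt K g y := by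
  obtain ⟨⟨η, hη⟩⟩ := Ideal.nonempty_minimalPrimes (ker_orbitHom_ne_top (A := A) y)
  have hηprime : η.IsPrime := hη.1.1
  obtain ⟨fy, hfy, Hy⟩ := exists_notMem_forall_mem_range _ (finitePresentation_orbitHom (A := A) y)
    η hη
  obtain ⟨fz, hfz, Hz⟩ := exists_notMem_forall_mem_range _ (finitePresentation_orbitHom (A := A) z)
    η (h ▸ hη)
  have hprod : fy * fz ∉ η := fun hmem => (hηprime.mem_or_mem hmem).elim hfy hfz
  have hJ : IsJacobsonRing R := isJacobsonRing_of_finiteType (A := K) (B := R)
  have hjac := hJ.out hηprime.isRadical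
  rw [← hjac, Ideal.jacobson, Ideal.mem_sInf] at hprod
  push Not at hprod
  obtain ⟨m, ⟨hηm, hm⟩, hfm⟩ := hprod
  have hfym : fy ∉ m := fun hmem => hfm (m.mul_mem_right _ hmem)
  have hfzm : fz ∉ m := fun hmem => hfm (m.mul_mem_left _ hmem)
  obtain ⟨py, hpy, hpy'⟩ := Hy m hm.isPrime hηm hfym
  obtain ⟨pz, hpz, hpz'⟩ := Hz m hm.isPrime hηm hfzm
  obtain ⟨g, hg⟩ := exists_point_of_ne_top (K := K) py hpy.ne_top
  obtain ⟨g', hg'⟩ := exists_point_of_ne_top (K := K) pz hpz.ne_top
  have h1 : m ≤ RingHom.ker (GLin.actPt K g y : R →+* K) := by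
    intro r hr
    rw [← hpy', Ideal.mem_comap] at hr
    exact hg hr
  have h2 : m ≤ RingHom.ker (GLin.actPt K g' z : R →+* K) := by
    intro r hr
    rw [← hpz', Ideal.mem_comap] at hr
    exact hg' hr
  have h2' : m = RingHom.ker (GLin.actPt K g' z : R →+* K) :=
    hm.eq_of_le (ker_algHom_ne_top _) h2
  have heq : GLin.actPt K g y = GLin.actPt K g' z := algHom_eq_of_ker_le (h2' ▸ h1)
  exact exists_actPt_of_actPt_eq heq

end SameClosure

section Stable

variable {K : Type u} [Field K] {A : Type v} [CommRing A] [Bialgebra K A]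
variable {R : Type w} [CommRing R] [Algebra K R] [HopfRep.Comod K A R] [GLin.IsCoactAlg K A R]

/-- a stable ideal vanishing at `z` vanishes on the whole orbit of `z` -/
theorem le_ker_orbitHom_of_le_ker (z : R →ₐ[K] K) (J : Ideal R)
    (hJ : HopfRep.IsSubcomod (k := K) (A := A) (J.restrictScalars K))
    (h : J ≤ RingHom.ker (z : R →+* K)) : J ≤ RingHom.ker (GLin.orbitHom K A z : R →+* A) := by
  intro f hf
  rw [RingHom.mem_ker]
  change GLin.orbitHom K A z f = 0
  rw [orbitHom_eq_cf, cf_apply]
  obtain ⟨t, ht⟩ := hJ f hf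
  change _ = coactMap K A R f at ht
  rw [← ht, contractL_rTensor]
  have h0 : z.toLinearMap ∘ₗ (J.restrictScalars K).subtype = 0 := by
    apply LinearMap.ext
    intro j
    exact h j.2
  rw [h0]
  simp [contractL]

/-- a stable ideal vanishing at `z` vanishes at every translate of `z` -/
theorem le_ker_actPt_of_le_ker (z : R →ₐ[K] K) (J : Ideal R)
    (hJ : HopfRep.IsSubcomod (k := K) (A := A) (J.restrictScalars K))
    (h : J ≤ RingHom.ker (z : R →+* K)) (g : A →ₐ[K] K) :
    J ≤ RingHom.ker (GLin.actPt K g z : R →+* K) := by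
  intro f hf
  have := le_ker_orbitHom_of_le_ker z J hJ h hf
  rw [RingHom.mem_ker] at this ⊢
  change g (GLin.orbitHom K A z f) = 0
  change GLin.orbitHom K A z f = 0 at this
  rw [this, map_zero]

end Stable

section ClosedOrbit

variable {K : Type u} [Field K] [IsAlgClosed K] {A : Type v} [CommRing A] [HopfAlgebra K A]
  [Algebra.FiniteType K A]
variable {R : Type w} [CommRing R] [Algebra K R] [Algebra.FiniteType K R] [HopfRep.Comod K A R]
  [GLin.IsCoactAlg K A R]

omit [IsAlgClosed K] [Algebra.FiniteType K A] [Algebra.FiniteType K R] in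
theorem actPt_inv_actPt (g : A →ₐ[K] K) (y : R →ₐ[K] K) :
    GLin.actPt K ((WithConv.toConv g)⁻¹).ofConv (GLin.actPt K g y) = y := by
  rw [actPt_actPt, WithConv.toConv_ofConv, mul_inv_cancel, actPt_one]

/-- **Every orbit closure contains a closed orbit**: for every rational point `x` there is a
rational point `y` in the closure of the orbit of `x` such that every rational point of the closure
of the orbit of `y` is in the orbit of `y`. -/
theorem exists_closedOrbit_point (x : R →ₐ[K] K) :
    ∃ y : R →ₐ[K] K,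
      RingHom.ker (GLin.orbitHom K A x : R →+* A) ≤ RingHom.ker (y : R →+* K) ∧
      ∀ z : R →ₐ[K] K, RingHom.ker (GLin.orbitHom K A y : R →+* A) ≤ RingHom.ker (z : R →+* K) →
        ∃ g : A →ₐ[K] K, z = GLin.actPt K g y := by
  have hN : IsNoetherianRing R := Algebra.FiniteType.isNoetherianRing K R
  let 𝒮 : Set (Ideal R) := {I | I ≠ ⊤ ∧ HopfRep.IsSubcomod (k := K) (A := A) (I.restrictScalars K) ∧
    RingHom.ker (GLin.orbitHom K A x : R →+* A) ≤ I}
  have hne : 𝒮.Nonempty :=
    ⟨_, ker_orbitHom_ne_top (A := A) x, isSubcomod_ker_orbitHom x, le_rfl⟩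
  obtain ⟨M, hM, hmax⟩ := (set_has_maximal_iff_noetherian (R := R) (M := R)).mpr hN 𝒮 hne
  obtain ⟨hMtop, hMsub, hxM⟩ := hM
  obtain ⟨y, hy⟩ := exists_point_of_ne_top (K := K) M hMtop
  -- key: any point of `V(M)` has orbit closure exactly `V(M)`
  have key : ∀ z : R →ₐ[K] K, M ≤ RingHom.ker (z : R →+* K) →
      RingHom.ker (GLin.orbitHom K A z : R →+* A) = M := by
    intro z hz
    have h1 : M ≤ RingHom.ker (GLin.orbitHom K A z : R →+* A) :=
      le_ker_orbitHom_of_le_ker z M hMsub hz
    have h2 : RingHom.ker (GLin.orbitHom K A z : R →+* A) ∈ 𝒮 :=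
      ⟨ker_orbitHom_ne_top (A := A) z, isSubcomod_ker_orbitHom z, hxM.trans h1⟩
    by_contra hne
    exact hmax _ h2 (lt_of_le_of_ne h1 (Ne.symm hne))
  refine ⟨y, hxM.trans hy, fun z hz => ?_⟩
  have hyM := key y hy
  rw [hyM] at hz
  have hzM := key z hz
  exact exists_actPt_of_ker_orbitHom_eq y z (hyM.trans hzM.symm)

end ClosedOrbit

section Unique

variable {K : Type u} [Field K] [IsAlgClosed K] {A : Type v} [CommRing A] [HopfAlgebra K A]
  [Algebra.FiniteType K A]
variable {R : Type w} [CommRing R] [Algebra K R] [Algebra.FiniteType K R] [HopfRep.Comod K A R]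
  [GLin.IsCoactAlg K A R]

/-- **Closed orbits in the fibres of the affine quotient**: there is a rational point `y` with
closed orbit lying in the closure of the orbit of every rational point `x'` with the same invariants
as `x`; and every closed orbit with the same invariants as `x` is the orbit of `y`. -/
theorem exists_closed_orbit_in_fibre_unique [IsSemisimpleModule (DualAlg K A) R]
    (x : R →ₐ[K] K) :
    ∃ y : R →ₐ[K] K,
      (∀ z : R →ₐ[K] K, (∀ f : R, (∀ g : A →ₐ[K] K, y (HopfRep.Comod.act K A R g f) = 0) → z f = 0) →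
          ∃ g : A →ₐ[K] K, ∀ f : R, z f = y (HopfRep.Comod.act K A R g f)) ∧
      (∀ x' : R →ₐ[K] K, (∀ f ∈ HopfRep.fixedPts K A R, x' f = x f) →
          ∀ f : R, (∀ g : A →ₐ[K] K, x' (HopfRep.Comod.act K A R g f) = 0) → y f = 0) ∧
      (∀ y' : R →ₐ[K] K, (∀ f ∈ HopfRep.fixedPts K A R, y' f = x f) →
          (∀ z : R →ₐ[K] K,
            (∀ f : R, (∀ g : A →ₐ[K] K, y' (HopfRep.Comod.act K A R g f) = 0) → z f = 0) →
            ∃ g : A →ₐ[K] K, ∀ f : R, z f = y' (HopfRep.Comod.act K A R g f)) →
            ∃ g : A →ₐ[K] K, ∀ f : R, y' f = y (HopfRep.Comod.act K A R g f)) := by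
  obtain ⟨y, hxy, hcl⟩ := exists_closedOrbit_point (A := A) x
  -- the invariants agree at `x` and `y`
  have hinv : ∀ f ∈ HopfRep.fixedPts K A R, x f = y f := fun f hf =>
    apply_eq_of_common_point (A := A) x y y hxy (ker_orbitHom_le_ker y) hf
  refine ⟨y, ?_, ?_, ?_⟩
  · intro z hz
    have hle : RingHom.ker (GLin.orbitHom K A y : R →+* A) ≤ RingHom.ker (z : R →+* K) := by
      intro f hf
      rw [RingHom.mem_ker] at hf ⊢
      apply hz
      intro g
      rw [apply_act_eq]
      change g ((GLin.orbitHom K A y : R →+* A) f) = 0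
      rw [hf, map_zero]
    obtain ⟨g, hg⟩ := hcl z hle
    refine ⟨g, fun f => ?_⟩
    rw [hg, actPt_apply]
  · intro x' hx' f hf
    obtain ⟨z, hz1, hz2⟩ := exists_common_point (A := A) x' y
      (fun f hf => (hx' f hf).trans (hinv f hf))
    obtain ⟨g, hg⟩ := hcl z hz2
    have h1 : RingHom.ker (GLin.orbitHom K A x' : R →+* A) ≤
        RingHom.ker (GLin.actPt K ((WithConv.toConv g)⁻¹).ofConv z : R →+* K) :=
      le_ker_actPt_of_le_ker z _ (isSubcomod_ker_orbitHom x') hz1 _
    rw [hg, actPt_inv_actPt] at h1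
    exact apply_eq_zero_of_forall_act x' y h1 f hf
  · intro y' hy' hcl'
    obtain ⟨z, hz1, hz2⟩ := exists_common_point (A := A) y' y
      (fun f hf => (hy' f hf).trans (hinv f hf))
    obtain ⟨g, hg⟩ := hcl z hz2
    obtain ⟨g', hg'⟩ := hcl' z (fun f hf => apply_eq_zero_of_forall_act y' z hz1 f hf)
    have heq : GLin.actPt K g y = GLin.actPt K g' y' := by
      rw [← hg]
      apply AlgHom.ext
      intro f
      rw [hg' f, actPt_apply]
    obtain ⟨a, ha⟩ := exists_actPt_of_actPt_eq heq
    refine ⟨a, fun f => ?_⟩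
    rw [ha, actPt_apply]

end Unique

end Groth.Agent.Lib.Helper23.ClosedOrbit
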