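import Mathlib

/-!
# Surjectivity can be tested on closed points of a Jacobson scheme (helper23)

A nonempty constructible subset of a Jacobson space contains a closed point; hence by Chevalley's
theorem a quasi-compact morphism locally of finite type to a Noetherian Jacobson scheme is
surjective as soon as its range contains all closed points.
-/

set_option autoImplicit false

namespace Groth.Agent.Lib.Helper23.ClosedPtsSurj

universe u
open CategoryTheory AlgebraicGeometry Topology

section Top

variable {X : Type*} [TopologicalSpace X]

/-- Finite unions of locally closed sets. -/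
inductive FLC : Set X → Prop
  | lc (s : Set X) : IsLocallyClosed s → FLC s
  | union (s t : Set X) : FLC s → FLC t → FLC (s ∪ t)

theorem FLC.inter {s t : Set X} (hs : FLC s) (ht : FLC t) : FLC (s ∩ t) := by
  induction hs with
  | lc s hs =>
    induction ht with
    | lc t ht => exact .lc _ (hs.inter ht)
    | union a b _ _ iha ihb =>
      rw [Set.inter_union_distrib_left]
      exact .union _ _ iha ihb
  | union a b _ _ iha ihb =>
    rw [Set.union_inter_distrib_right]
    exact .union _ _ iha ihb

theorem flc_and_compl_of_isConstructible {s : Set X} (hs : IsConstructible s) :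
    FLC s ∧ FLC sᶜ := by
  induction hs using IsConstructible.empty_union_induction with
  | open_retrocompact U hU _ =>
    exact ⟨.lc _ hU.isLocallyClosed, .lc _ hU.isClosed_compl.isLocallyClosed⟩
  | union s _ t _ ihs iht =>
    refine ⟨.union _ _ ihs.1 iht.1, ?_⟩
    rw [Set.compl_union]
    exact ihs.2.inter iht.2
  | compl s _ ih =>
    refine ⟨ih.2, ?_⟩
    rw [compl_compl]
    exact ih.1

theorem FLC.nonempty_inter_closedPoints [JacobsonSpace X] {s : Set X} (hs : FLC s)
    (hne : s.Nonempty) : (s ∩ closedPoints X).Nonempty := by
  induction hs with
  | lc s hs => exact _root_.nonempty_inter_closedPoints hne hs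
  | union a b _ _ iha ihb =>
    rcases Set.union_nonempty.1 hne with h | h
    · obtain ⟨x, hx, hxc⟩ := iha h
      exact ⟨x, Or.inl hx, hxc⟩
    · obtain ⟨x, hx, hxc⟩ := ihb h
      exact ⟨x, Or.inr hx, hxc⟩

/-- A nonempty constructible subset of a Jacobson space contains a closed point. -/
theorem nonempty_inter_closedPoints_of_isConstructible [JacobsonSpace X] {s : Set X}
    (hs : IsConstructible s) (hne : s.Nonempty) : (s ∩ closedPoints X).Nonempty :=
  (flc_and_compl_of_isConstructible hs).1.nonempty_inter_closedPoints hne

end Top

/-- A quasi-compact morphism locally of finite type to a Noetherian Jacobson scheme is surjective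
as soon as its range contains all closed points. -/
theorem surjective_of_closedPoints_subset_range {X Y : Scheme.{u}} (f : X ⟶ Y)
    [LocallyOfFiniteType f] [QuasiCompact f] [IsLocallyNoetherian Y] [CompactSpace Y]
    [JacobsonSpace Y] (h : closedPoints Y ⊆ Set.range f.base) : Surjective f := by
  have hc : IsConstructible (Set.range f.base) := by
    rw [← Set.image_univ]
    exact f.isConstructible_image IsConstructible.univ
  rw [surjective_iff]
  by_contra hns
  have hne : (Set.range f.base)ᶜ.Nonempty := by
    rw [Set.nonempty_compl]
    intro hr
    exact hns (Set.range_eq_univ.1 hr)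
  obtain ⟨y, hy, hyc⟩ := nonempty_inter_closedPoints_of_isConstructible hc.compl hne
  exact hy (h hyc)

end Groth.Agent.Lib.Helper23.ClosedPtsSurj
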