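import Mathlib
import Groth.Agent.Lib.Helper23.CartierSmooth

/-!
# Morphisms out of a base change to an algebraically closed field are determined by rational points
(helper23)

Let `k ⊆ K` be fields with `K` algebraically closed, `H`, `G` schemes locally of finite type over `k`
with `G` separated, and `H_K` reduced.  Pairs `(x : X' ⟶ Spec K, h : X' ⟶ H)` of `k`-morphisms are the
points of the universal object `P = H_K`; two `k`-morphisms `P ⟶ G` agree as soon as they agree on
`K`-rational points of `H_K`.
-/

set_option autoImplicit false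
set_option linter.unusedSectionVars false

namespace Groth.Agent.Lib.Helper23.PointsDense

universe u
open CategoryTheory MonoidalCategory CartesianMonoidalCategory MonObj GrpObj AlgebraicGeometry Limits

variable (k K : Type u) [Field k] [Field K] [Algebra k K]

/-- `Spec K` as a `k`-scheme. -/
noncomputable abbrev XK : Over (Spec (CommRingCat.of k)) :=
  Over.mk (Spec.map (CommRingCat.ofHom (algebraMap k K)))

variable {k} (H G : Over (Spec (CommRingCat.of k)))

/-- The base change `H_K`, as a `k`-scheme. -/
noncomputable def P : Over (Spec (CommRingCat.of k)) :=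
  Over.mk (pullback.snd H.hom (Spec.map (CommRingCat.ofHom (algebraMap k K))) ≫
    Spec.map (CommRingCat.ofHom (algebraMap k K)))

/-- The universal `K`-structure. -/
noncomputable def x₀ : P K H ⟶ XK k K :=
  Over.homMk (pullback.snd H.hom (Spec.map (CommRingCat.ofHom (algebraMap k K)))) rfl

/-- The universal point of `H`. -/
noncomputable def h₀ : P K H ⟶ H :=
  Over.homMk (pullback.fst H.hom (Spec.map (CommRingCat.ofHom (algebraMap k K)))) pullback.condition

theorem exists_factor (X' : Over (Spec (CommRingCat.of k))) (x : X' ⟶ XK k K) (h : X' ⟶ H) :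
    ∃ φ : X' ⟶ P K H, φ ≫ x₀ K H = x ∧ φ ≫ h₀ K H = h := by
  have hc : h.left ≫ H.hom = x.left ≫ Spec.map (CommRingCat.ofHom (algebraMap k K)) := by
    rw [Over.w h]; exact (Over.w x).symm
  refine ⟨Over.homMk (pullback.lift h.left x.left hc) ?_, ?_, ?_⟩
  · show pullback.lift h.left x.left hc ≫ (pullback.snd H.hom _ ≫ _) = X'.hom
    rw [pullback.lift_snd_assoc]
    exact Over.w x
  · apply Over.OverMorphism.ext
    show pullback.lift h.left x.left hc ≫ pullback.snd _ _ = x.left
    exact pullback.lift_snd _ _ _
  · apply Over.OverMorphism.ext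
    show pullback.lift h.left x.left hc ≫ pullback.fst _ _ = h.left
    exact pullback.lift_fst _ _ _

variable [IsAlgClosed K] [LocallyOfFiniteType H.hom] [LocallyOfFiniteType G.hom] [IsSeparated G.hom]

theorem hom_ext_of_points
    [IsReduced (pullback H.hom (Spec.map (CommRingCat.ofHom (algebraMap k K))))]
    (u₁ u₂ : P K H ⟶ G)
    (hpt : ∀ p : XK k K ⟶ P K H, p ≫ x₀ K H = 𝟙 _ → p ≫ u₁ = p ≫ u₂) : u₁ = u₂ := by
  set gK := Spec.map (CommRingCat.ofHom (algebraMap k K)) with hgK
  have hw₁ : u₁.left ≫ G.hom = pullback.snd H.hom gK ≫ gK := Over.w u₁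
  have hw₂ : u₂.left ≫ G.hom = pullback.snd H.hom gK ≫ gK := Over.w u₂
  let v₁ : pullback H.hom gK ⟶ pullback G.hom gK := pullback.lift u₁.left (pullback.snd H.hom gK) hw₁
  let v₂ : pullback H.hom gK ⟶ pullback G.hom gK := pullback.lift u₂.left (pullback.snd H.hom gK) hw₂
  have hv₁ : v₁ ≫ pullback.snd G.hom gK = pullback.snd H.hom gK := pullback.lift_snd _ _ _
  have hv₂ : v₂ ≫ pullback.snd G.hom gK = pullback.snd H.hom gK := pullback.lift_snd _ _ _
  have hf₁ : v₁ ≫ pullback.fst G.hom gK = u₁.left := pullback.lift_fst _ _ _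
  have hf₂ : v₂ ≫ pullback.fst G.hom gK = u₂.left := pullback.lift_fst _ _ _
  have hlft : LocallyOfFiniteType (v₁ ≫ pullback.snd G.hom gK) := by
    rw [hv₁]; infer_instance
  have hv : v₁ = v₂ := by
    refine ext_of_apply_eq (pullback.snd G.hom gK) Set.univ isOpen_univ.isLocallyClosed dense_univ
      ?_ (hv₁.trans hv₂.symm)
    intro y _ hy
    let py : Spec (CommRingCat.of K) ⟶ pullback H.hom gK :=
      pointOfClosedPoint (pullback.snd H.hom gK) y hy
    have hpy : py ≫ pullback.snd H.hom gK = 𝟙 _ := pointOfClosedPoint_comp _ y hy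
    have hpyy : py.base (IsLocalRing.closedPoint K) = y := pointOfClosedPoint_apply _ y hy _
    let p : XK k K ⟶ P K H := Over.homMk py (by
      show py ≫ (pullback.snd H.hom gK ≫ gK) = gK
      rw [reassoc_of% hpy])
    have hp : p ≫ x₀ K H = 𝟙 _ := by
      apply Over.OverMorphism.ext
      exact hpy
    have h1 := congrArg (fun t => t.left) (hpt p hp)
    have h2 : py ≫ u₁.left = py ≫ u₂.left := h1
    have h3 : py ≫ v₁ = py ≫ v₂ := by
      apply pullback.hom_ext
      · rw [Category.assoc, Category.assoc, hf₁, hf₂]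
        exact h2
      · rw [Category.assoc, Category.assoc, hv₁, hv₂]
    rw [← hpyy]
    exact congrArg (fun t => t.base (IsLocalRing.closedPoint K)) h3
  apply Over.OverMorphism.ext
  have h4 := congrArg (fun t => t ≫ pullback.fst G.hom gK) hv
  exact hf₁.symm.trans (h4.trans hf₂)

omit [LocallyOfFiniteType G.hom] [IsSeparated G.hom] in
/-- A morphism out of the reduced `H_K` which sends rational points into a closed subscheme factors
through that closed subscheme. -/
theorem exists_lift_of_points
    [IsReduced (pullback H.hom (Spec.map (CommRingCat.ofHom (algebraMap k K))))]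
    (H' : Over (Spec (CommRingCat.of k))) (i : H' ⟶ G) [IsClosedImmersion i.left]
    (u : P K H ⟶ G)
    (hpt : ∀ p : XK k K ⟶ P K H, p ≫ x₀ K H = 𝟙 _ → ∃ h' : XK k K ⟶ H', p ≫ u = h' ≫ i) :
    ∃ w : P K H ⟶ H', w ≫ i = u := by
  set gK := Spec.map (CommRingCat.ofHom (algebraMap k K)) with hgK
  have hJ : JacobsonSpace ↥(pullback H.hom gK) :=
    LocallyOfFiniteType.jacobsonSpace (pullback.snd H.hom gK)
  let v : pullback H.hom gK ⟶ G.left := u.left
  have hv : v ≫ G.hom = pullback.snd H.hom gK ≫ gK := Over.w u
  let f : pullback v i.left ⟶ pullback H.hom gK := pullback.fst v i.left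
  have hcl : IsClosedImmersion f := inferInstanceAs (IsClosedImmersion (pullback.fst v i.left))
  have hsurj : Surjective f := by
    constructor
    rw [← Set.range_eq_univ, ← not_ne_iff, ← Set.nonempty_compl]
    intro hne
    obtain ⟨y, hy, hyc⟩ := nonempty_inter_closedPoints hne
      f.isClosedEmbedding.isClosed_range.isOpen_compl.isLocallyClosed
    apply hy
    have hyc' : IsClosed ({y} : Set ↥(pullback H.hom gK)) := hyc
    let py : Spec (CommRingCat.of K) ⟶ pullback H.hom gK :=
      pointOfClosedPoint (pullback.snd H.hom gK) y hyc'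
    have hpy : py ≫ pullback.snd H.hom gK = 𝟙 _ := pointOfClosedPoint_comp _ y hyc'
    have hpyy : py.base (IsLocalRing.closedPoint K) = y := pointOfClosedPoint_apply _ y hyc' _
    let p : XK k K ⟶ P K H := Over.homMk py (by
      show py ≫ (pullback.snd H.hom gK ≫ gK) = gK
      rw [reassoc_of% hpy])
    have hp : p ≫ x₀ K H = 𝟙 _ := by
      apply Over.OverMorphism.ext
      exact hpy
    obtain ⟨h', hh'⟩ := hpt p hp
    have h1 : py ≫ v = h'.left ≫ i.left := congrArg (fun t => t.left) hh'
    refine ⟨(pullback.lift py h'.left h1).base (IsLocalRing.closedPoint K), ?_⟩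
    rw [← hpyy]
    have h2 : pullback.lift py h'.left h1 ≫ f = py := pullback.lift_fst _ _ _
    exact congrArg (fun t => t.base (IsLocalRing.closedPoint K)) h2
  have hiso : IsIso f := isIso_of_isClosedImmersion_of_surjective f
  let e : pullback v i.left ≅ pullback H.hom gK := @asIso _ _ _ _ f hiso
  have hcond : pullback.snd v i.left ≫ i.left = e.hom ≫ v := pullback.condition.symm
  have hi : i.left ≫ G.hom = H'.hom := Over.w i
  have h3 : (e.inv ≫ pullback.snd v i.left) ≫ H'.hom = pullback.snd H.hom gK ≫ gK := by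
    rw [← hi, Category.assoc, reassoc_of% hcond, hv, Iso.inv_hom_id_assoc]
  have h4 : (e.inv ≫ pullback.snd v i.left) ≫ i.left = v := by
    rw [Category.assoc, hcond, Iso.inv_hom_id_assoc]
  refine ⟨Over.homMk (e.inv ≫ pullback.snd v i.left) h3, ?_⟩
  apply Over.OverMorphism.ext
  exact h4

end Groth.Agent.Lib.Helper23.PointsDense
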