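import Mathlib
import Groth.Agent.Lib.Helper23.PointsDense
import Groth.Agent.Lib.Helper23.ClosedPtsSurj

/-!
# Closed points of schemes locally of finite type over a field and points in an algebraically closed
extension (helper23)
-/

set_option autoImplicit false

namespace Groth.Agent.Lib.Helper23.ClosedPtsField

universe u
open CategoryTheory AlgebraicGeometry Groth.Agent.Lib.Helper23.PointsDense
  Groth.Agent.Lib.Helper23.ClosedPtsSurj

variable (k K : Type u) [Field k] [Field K] [Algebra k K] [IsAlgClosed K]

/-- Every closed point of a `k`-scheme locally of finite type is the image of a `K`-point, for every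
algebraically closed extension `K` of `k`. -/
theorem exists_point_of_closedPoint (Y : Over (Spec (CommRingCat.of k))) [LocallyOfFiniteType Y.hom]
    (y : Y.left) (hy : IsClosed ({y} : Set Y.left)) :
    ∃ p : XK k K ⟶ Y, ∀ a, p.left.base a = y := by
  have hfin : IsFinite (Y.left.fromSpecResidueField y ≫ Y.hom) := by
    rw [isClosed_singleton_iff_isClosedImmersion] at hy
    rw [isFinite_iff_locallyOfFiniteType_of_jacobsonSpace]
    infer_instance
  let φ : CommRingCat.of k ⟶ Y.left.residueField y :=
    Spec.preimage (Y.left.fromSpecResidueField y ≫ Y.hom)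
  have hφ : Spec.map φ = Y.left.fromSpecResidueField y ≫ Y.hom := Spec.map_preimage _
  have hint : φ.hom.IsIntegral := by
    rw [← IsIntegralHom.SpecMap_iff, hφ]
    infer_instance
  let _ : Algebra k (Y.left.residueField y) := φ.hom.toAlgebra
  have halg : Algebra.IsAlgebraic k (Y.left.residueField y) := by
    have : Algebra.IsIntegral k (Y.left.residueField y) := ⟨hint⟩
    infer_instance
  let ψ : Y.left.residueField y →ₐ[k] K := IsAlgClosed.lift
  have hψ : φ ≫ CommRingCat.ofHom (ψ : Y.left.residueField y →+* K) =
      CommRingCat.ofHom (algebraMap k K) := by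
    ext a
    exact ψ.commutes a
  refine ⟨Over.homMk (Spec.map (CommRingCat.ofHom (ψ : Y.left.residueField y →+* K)) ≫
    Y.left.fromSpecResidueField y) ?_, ?_⟩
  · show (Spec.map _ ≫ Y.left.fromSpecResidueField y) ≫ Y.hom = Spec.map _
    rw [Category.assoc, ← hφ, ← Spec.map_comp]
    exact congrArg Spec.map hψ
  · intro a
    show (Spec.map _ ≫ Y.left.fromSpecResidueField y).base a = y
    simp

omit [Algebra k K] in
/-- A nonempty scheme locally of finite type over an algebraically closed field has a rational
point. -/
theorem exists_section_of_nonempty {Z : Scheme.{u}} (f : Z ⟶ Spec (CommRingCat.of K))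
    [LocallyOfFiniteType f] [Nonempty Z] : ∃ s : Spec (CommRingCat.of K) ⟶ Z, s ≫ f = 𝟙 _ := by
  have hJ := LocallyOfFiniteType.jacobsonSpace f
  obtain ⟨z, -, hz⟩ := nonempty_inter_closedPoints (X := Z) Set.univ_nonempty
    isOpen_univ.isLocallyClosed
  exact ⟨pointOfClosedPoint f z hz, pointOfClosedPoint_comp f z hz⟩

/-- A morphism of `k`-schemes of finite type is surjective as soon as it is surjective on `K`-points,
for an algebraically closed extension `K` of `k`. -/
theorem surjective_of_points (X Y : Over (Spec (CommRingCat.of k))) [LocallyOfFiniteType X.hom]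
    [QuasiCompact X.hom] [LocallyOfFiniteType Y.hom] [QuasiCompact Y.hom] (f : X ⟶ Y)
    (h : ∀ y : XK k K ⟶ Y, ∃ x : XK k K ⟶ X, x ≫ f = y) : Surjective f.left := by
  have hN : IsLocallyNoetherian Y.left := LocallyOfFiniteType.isLocallyNoetherian Y.hom
  have hJ : JacobsonSpace Y.left := LocallyOfFiniteType.jacobsonSpace Y.hom
  have hC : CompactSpace Y.left := QuasiCompact.compactSpace_of_compactSpace Y.hom
  have hw : f.left ≫ Y.hom = X.hom := Over.w f
  have h1 : LocallyOfFiniteType f.left := by
    have : LocallyOfFiniteType (f.left ≫ Y.hom) := hw ▸ inferInstance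
    exact locallyOfFiniteType_of_comp f.left Y.hom
  have h2 : QuasiCompact f.left := by
    have : QuasiCompact (f.left ≫ Y.hom) := hw ▸ inferInstance
    exact QuasiCompact.of_comp f.left Y.hom
  apply surjective_of_closedPoints_subset_range
  intro y hy
  obtain ⟨p, hp⟩ := exists_point_of_closedPoint k K Y y hy
  obtain ⟨x, hx⟩ := h p
  refine ⟨x.left.base (IsLocalRing.closedPoint K), ?_⟩
  rw [← hp (IsLocalRing.closedPoint K), ← hx]
  rfl

/-- `K`-points lift along surjective morphisms locally of finite type, `K` algebraically closed. -/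
theorem exists_point_lift_of_surjective (X Y : Over (Spec (CommRingCat.of k)))
    [LocallyOfFiniteType X.hom] (f : X ⟶ Y) [Surjective f.left] (y : XK k K ⟶ Y) :
    ∃ x : XK k K ⟶ X, x ≫ f = y := by
  have hw : f.left ≫ Y.hom = X.hom := Over.w f
  have hlft : LocallyOfFiniteType f.left := by
    have : LocallyOfFiniteType (f.left ≫ Y.hom) := hw ▸ inferInstance
    exact locallyOfFiniteType_of_comp f.left Y.hom
  have hne : Nonempty ↥(Limits.pullback f.left y.left) := by
    have : Surjective (Limits.pullback.snd f.left y.left) := inferInstance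
    obtain ⟨w, -⟩ := this.surj (IsLocalRing.closedPoint K)
    exact ⟨w⟩
  obtain ⟨s, hs⟩ := exists_section_of_nonempty K (Limits.pullback.snd f.left y.left)
  refine ⟨Over.homMk (s ≫ Limits.pullback.fst f.left y.left) ?_, ?_⟩
  · show (s ≫ Limits.pullback.fst f.left y.left) ≫ X.hom = (XK k K).hom
    rw [← hw, Category.assoc, Limits.pullback.condition_assoc, reassoc_of% hs]
    exact Over.w y
  · apply Over.OverMorphism.ext
    show (s ≫ Limits.pullback.fst f.left y.left) ≫ f.left = y.left
    rw [Category.assoc, Limits.pullback.condition, reassoc_of% hs]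

end Groth.Agent.Lib.Helper23.ClosedPtsField
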