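import Mathlib
import Groth.Agent.Lib.Helper9.AdicComplEquiv
import Groth.Agent.Lib.Helper67.FlatAtBC

/-!
# A local homomorphism inducing an isomorphism on completions is flat (helper23)
-/

set_option autoImplicit false
set_option linter.style.haveILetI false

namespace Groth.Agent.Lib.Helper23.ComplIsoFlat

universe u

open IsLocalRing

/-- A ring map of Noetherian local rings which induces isomorphisms
`A/m^(n+1) ≅ B/n^(n+1)` for all `n` is flat. -/
theorem flat_of_truncations {A B : Type u} [CommRing A] [CommRing B] [IsLocalRing A]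
    [IsLocalRing B] [IsNoetherianRing A] [IsNoetherianRing B] (φ : A →+* B)
    (h : ∀ n : ℕ,
      Function.Surjective ((Ideal.Quotient.mk (maximalIdeal B ^ (n + 1))).comp φ) ∧
      ∀ a : A, φ a ∈ maximalIdeal B ^ (n + 1) ↔ a ∈ maximalIdeal A ^ (n + 1)) :
    φ.Flat := by
  letI : Algebra A B := φ.toAlgebra
  have hΦ : maximalIdeal A ≤ (maximalIdeal B).comap (Algebra.ofId A B) := by
    intro a ha
    have := ((h 0).2 a).2 (by simpa using ha)
    show φ a ∈ maximalIdeal B
    simpa using this
  have hinj : ∀ n a, (Algebra.ofId A B) a ∈ maximalIdeal B ^ n → a ∈ maximalIdeal A ^ n := by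
    intro n a ha
    cases n with
    | zero => simp
    | succ n => exact ((h n).2 a).1 ha
  have hsurj : ∀ n b, ∃ a, b - (Algebra.ofId A B) a ∈ maximalIdeal B ^ n := by
    intro n b
    cases n with
    | zero => exact ⟨0, by simp⟩
    | succ n =>
      obtain ⟨a, ha⟩ := (h n).1 (Ideal.Quotient.mk _ b)
      refine ⟨a, ?_⟩
      have : Ideal.Quotient.mk (maximalIdeal B ^ (n + 1)) (φ a) = Ideal.Quotient.mk _ b := ha
      rw [Ideal.Quotient.mk_eq_mk_iff_sub_mem] at this
      have e : b - (Algebra.ofId A B) a = -(φ a - b) := by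
        show b - φ a = _
        ring
      rw [e]
      exact (maximalIdeal B ^ (n + 1)).neg_mem this
  obtain ⟨e⟩ := Groth.Agent.Lib.Helper9.AdicComplEquiv.exists_algEquiv (R := A)
    (maximalIdeal A) (maximalIdeal B) (Algebra.ofId A B) hΦ hinj hsurj
  haveI : Module.Flat A (AdicCompletion (maximalIdeal A) A) :=
    AdicCompletion.flat_of_isNoetherian _
  haveI : Module.Flat A (AdicCompletion (maximalIdeal B) B) :=
    Module.Flat.of_linearEquiv e.symm.toLinearEquiv
  haveI : Module.Flat B (AdicCompletion (maximalIdeal B) B) :=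
    AdicCompletion.flat_of_isNoetherian _
  haveI : Module.FaithfullyFlat B (AdicCompletion (maximalIdeal B) B) :=
    Module.FaithfullyFlat.of_flat_of_isLocalHom
  haveI : IsScalarTower A B (AdicCompletion (maximalIdeal B) B) :=
    IsScalarTower.of_algebraMap_eq (fun a => rfl)
  exact Groth.Agent.Lib.Helper67.FlatAtBC.flat_of_faithfullyFlat_of_flat A B
    (AdicCompletion (maximalIdeal B) B)

end Groth.Agent.Lib.Helper23.ComplIsoFlat
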