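import Mathlib

/-!
# Flatness by generic flatness and homogeneity (helper23)

* `flat_descendsAlong` : flatness of morphisms of schemes descends along fpqc base change.
* `flat_of_two_squares` : if `F : GX ⟶ GY` is the base change of `f : X ⟶ Y` along two maps
  `q, actY : GY ⟶ Y` (think of the projection and the action map of a group acting compatibly on
  `X` and `Y`), `f` is flat over an open `D` of `Y`, and every point of `Y` is `q w` for some `w`
  with `actY w ∈ D`, then `f` is flat.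
-/

set_option autoImplicit false

namespace Groth.Agent.Lib.Helper23.FlatTransitive

universe u
open CategoryTheory AlgebraicGeometry Limits MorphismProperty TensorProduct

theorem flat_codescendsAlong_faithfullyFlat :
    RingHom.CodescendsAlong RingHom.Flat RingHom.FaithfullyFlat := by
  apply RingHom.CodescendsAlong.mk _ RingHom.Flat.respectsIso
  introv h H
  rw [RingHom.faithfullyFlat_algebraMap_iff] at h
  rw [RingHom.flat_algebraMap_iff] at H ⊢
  exact Module.Flat.of_flat_tensorProduct R T S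

instance flat_descendsAlong :
    DescendsAlong @Flat (@Surjective ⊓ @Flat ⊓ @QuasiCompact) :=
  HasRingHomProperty.descendsAlong_flat flat_codescendsAlong_faithfullyFlat

theorem flat_of_two_squares {GX GY X Y : Scheme.{u}} (F : GX ⟶ GY) (p act : GX ⟶ X)
    (q actY : GY ⟶ Y) (f : X ⟶ Y) (sq1 : IsPullback F p q f) (sq2 : IsPullback F act actY f)
    [Flat q] [QuasiCompact q] [IsLocallyNoetherian GY] (D : Y.Opens) (hD : Flat (f ∣_ D))
    (hsurj : ∀ y : Y, ∃ w : GY, q.base w = y ∧ actY.base w ∈ D) : Flat f := by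
  set W : GY.Opens := actY ⁻¹ᵁ D with hW
  -- `F` is flat over `W`
  let t : (F ⁻¹ᵁ W : GX.Opens).toScheme ⟶ (f ⁻¹ᵁ D : X.Opens).toScheme :=
    IsOpenImmersion.lift (f ⁻¹ᵁ D).ι ((F ⁻¹ᵁ W).ι ≫ act) (by
      rintro _ ⟨z, rfl⟩
      rw [Scheme.Opens.range_ι]
      show (act.base ((F ⁻¹ᵁ W).ι.base z)) ∈ f ⁻¹ᵁ D
      have hz : (F ⁻¹ᵁ W).ι.base z ∈ F ⁻¹ᵁ W := z.2
      have h1 : actY.base (F.base ((F ⁻¹ᵁ W).ι.base z)) ∈ D := hz
      have h2 : actY.base (F.base ((F ⁻¹ᵁ W).ι.base z)) = f.base (act.base ((F ⁻¹ᵁ W).ι.base z)) :=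
        congrArg (fun φ : GX ⟶ Y => φ.base ((F ⁻¹ᵁ W).ι.base z)) sq2.w
      show f.base (act.base ((F ⁻¹ᵁ W).ι.base z)) ∈ D
      rw [← h2]
      exact h1)
  have ht : t ≫ (f ⁻¹ᵁ D).ι = (F ⁻¹ᵁ W).ι ≫ act := IsOpenImmersion.lift_fac _ _ _
  have big : IsPullback (F ∣_ W) ((F ⁻¹ᵁ W).ι ≫ act) (W.ι ≫ actY) f :=
    (isPullback_morphismRestrict F W).paste_vert sq2
  have hbot : IsPullback (f ∣_ D) (f ⁻¹ᵁ D).ι D.ι f := isPullback_morphismRestrict f D
  have hιW : (actY ∣_ D) ≫ D.ι = W.ι ≫ actY := morphismRestrict_ι actY D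
  have hcomm : (F ∣_ W) ≫ (actY ∣_ D) = t ≫ (f ∣_ D) := by
    rw [← cancel_mono D.ι, Category.assoc, Category.assoc, hιW, morphismRestrict_ι_assoc,
      morphismRestrict_ι, reassoc_of% ht, sq2.w]
  have hleft : IsPullback (F ∣_ W) t (actY ∣_ D) (f ∣_ D) := by
    refine IsPullback.of_bot ?_ hcomm hbot
    rw [ht, hιW]
    exact big
  have hFW : Flat (F ∣_ W) := MorphismProperty.of_isPullback hleft.flip hD
  -- descent along `W ⟶ Y`
  have hdesc : IsPullback (F ∣_ W) ((F ⁻¹ᵁ W).ι ≫ p) (W.ι ≫ q) f :=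
    (isPullback_morphismRestrict F W).paste_vert sq1
  have hπs : Surjective (W.ι ≫ q) := by
    refine ⟨fun y => ?_⟩
    obtain ⟨w, hw, hwD⟩ := hsurj y
    exact ⟨⟨w, hwD⟩, hw⟩
  have hπ : (@Surjective ⊓ @Flat ⊓ @QuasiCompact : MorphismProperty Scheme.{u}) (W.ι ≫ q) :=
    ⟨⟨hπs, inferInstance⟩, inferInstance⟩
  exact of_isPullback_of_descendsAlong (P := @Flat) hdesc hπ hFW

end Groth.Agent.Lib.Helper23.FlatTransitive
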