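import Mathlib
import Groth.Prelude.Def_AlgGrp
import Groth.Agent.Lib.Helper95.ActionBasic
import Groth.Agent.Lib.Helper8.GenFlatSch
import Groth.Agent.Lib.Helper23.FlatTransitive

/-!
# Equivariant morphisms to a homogeneous reduced scheme are flat (helper23)
-/

set_option autoImplicit false

namespace Groth.Agent.Lib.Helper23.FlatEquivariant

universe u
open CategoryTheory MonoidalCategory CartesianMonoidalCategory MonObj GrpObj AlgebraicGeometry Limits
  Groth.Agent.Lib.Helper95 Groth.Agent.Lib.Helper23.FlatTransitive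

section Cat

variable {C : Type*} [Category C] [CartesianMonoidalCategory C]

theorem isPullback_whiskerLeft_snd (G : C) {X Y : C} (f : X ⟶ Y) :
    IsPullback (G ◁ f) (snd G X) (snd G Y) f := by
  refine ⟨⟨whiskerLeft_snd _ _⟩, ⟨PullbackCone.IsLimit.mk _
    (fun s => lift (s.fst ≫ fst G Y) s.snd) ?_ ?_ ?_⟩⟩
  · intro s
    ext
    · simp
    · simpa using s.condition.symm
  · intro s
    simp
  · intro s m h1 h2
    ext
    · have := congrArg (fun t => t ≫ fst G Y) h1
      simpa using this
    · simpa using h2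

end Cat

section Act

variable {S : Scheme.{u}} {G X Y : Over S} [GrpObj G]

theorem shear_comm (a : AlgGrp.Action G X) (b : AlgGrp.Action G Y) (f : X ⟶ Y)
    (hf : (G ◁ f) ≫ b.act = a.act ≫ f) :
    (shear a).hom ≫ (G ◁ f) = (G ◁ f) ≫ (shear b).hom := by
  ext
  · simp [shear]
  · rw [Category.assoc, whiskerLeft_snd, ← Category.assoc, shear_hom_snd, Category.assoc,
      shear_hom_snd, hf]

theorem isPullback_act (a : AlgGrp.Action G X) (b : AlgGrp.Action G Y) (f : X ⟶ Y)
    (hf : (G ◁ f) ≫ b.act = a.act ≫ f) : IsPullback (G ◁ f) a.act b.act f := by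
  refine (isPullback_whiskerLeft_snd G f).of_iso (shear a).symm (shear b).symm (Iso.refl _)
    (Iso.refl _) ?_ ?_ ?_ ?_
  · show (G ◁ f) ≫ (shear b).inv = (shear a).inv ≫ (G ◁ f)
    rw [Iso.comp_inv_eq, Category.assoc, Iso.eq_inv_comp]
    exact shear_comm a b f hf
  · show snd G X ≫ 𝟙 _ = (shear a).inv ≫ a.act
    rw [Category.comp_id, ← shear_hom_snd a, Iso.inv_hom_id_assoc]
  · show snd G Y ≫ 𝟙 _ = (shear b).inv ≫ b.act
    rw [Category.comp_id, ← shear_hom_snd b, Iso.inv_hom_id_assoc]
  · simp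

end Act

section Field

variable {k : Type u} [Field k] (G X Y : Over (Spec (CommRingCat.of k))) [GrpObj G]
  [LocallyOfFiniteType G.hom] [QuasiCompact G.hom] [LocallyOfFiniteType X.hom] [QuasiCompact X.hom]
  [LocallyOfFiniteType Y.hom] [QuasiCompact Y.hom] [IsReduced Y.left] [Nonempty Y.left]

/-- An equivariant morphism to a reduced homogeneous scheme of finite type over a field is flat. -/
theorem flat_of_equivariant (a : AlgGrp.Action G X) (b : AlgGrp.Action G Y) (f : X ⟶ Y)
    (hf : (G ◁ f) ≫ b.act = a.act ≫ f) (hΓ : Surjective (lift (snd G Y) b.act).left) :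
    Flat f.left := by
  have hGY1 : LocallyOfFiniteType (G ⊗ Y).hom :=
    inferInstanceAs (LocallyOfFiniteType (pullback.fst G.hom Y.hom ≫ G.hom))
  have hN : IsLocallyNoetherian (G ⊗ Y).left := LocallyOfFiniteType.isLocallyNoetherian (G ⊗ Y).hom
  have hNY : IsLocallyNoetherian Y.left := LocallyOfFiniteType.isLocallyNoetherian Y.hom
  have hw : f.left ≫ Y.hom = X.hom := Over.w f
  have h1 : LocallyOfFiniteType f.left := by
    have : LocallyOfFiniteType (f.left ≫ Y.hom) := hw ▸ inferInstance
    exact locallyOfFiniteType_of_comp f.left Y.hom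
  have h2 : QuasiCompact f.left := by
    have : QuasiCompact (f.left ≫ Y.hom) := hw ▸ inferInstance
    exact QuasiCompact.of_comp f.left Y.hom
  -- generic flatness
  obtain ⟨y₀⟩ := (inferInstance : Nonempty Y.left)
  obtain ⟨_, ⟨V, hV, rfl⟩, hyV, -⟩ :=
    Y.left.isBasis_affineOpens.exists_subset_of_mem_open (Set.mem_univ y₀) isOpen_univ
  have hVne : (⟨V, hV⟩ : Y.left.affineOpens).1 ≠ ⊥ := by
    intro h
    have : y₀ ∈ (⊥ : Y.left.Opens) := h ▸ hyV
    exact this
  obtain ⟨g, hg, hflat, -⟩ :=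
    Groth.Agent.Lib.Helper8.GenFlatSch.exists_basicOpen_flat_fp f.left ⟨V, hV⟩ hVne
  obtain ⟨d, hd⟩ : ∃ d : Y.left, d ∈ Y.left.basicOpen g := by
    by_contra hne
    apply hg
    ext x
    simp only [TopologicalSpace.Opens.coe_bot, Set.mem_empty_iff_false, iff_false]
    intro hx
    exact hne ⟨x, hx⟩
  have sq1 := (isPullback_whiskerLeft_snd G f).map (Over.forget _)
  have sq2 := (isPullback_act a b f hf).map (Over.forget _)
  have hq1 : Flat ((Over.forget (Spec (CommRingCat.of k))).map (snd G Y)) :=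
    inferInstanceAs (Flat (pullback.snd G.hom Y.hom))
  have hq2 : QuasiCompact ((Over.forget (Spec (CommRingCat.of k))).map (snd G Y)) :=
    inferInstanceAs (QuasiCompact (pullback.snd G.hom Y.hom))
  refine @flat_of_two_squares _ _ _ _ _ _ _ _ _ _ sq1 sq2 hq1 hq2 hN (Y.left.basicOpen g) hflat ?_
  intro y
  obtain ⟨u, hu1, hu2⟩ := Scheme.Pullback.exists_preimage_pullback (f := Y.hom) (g := Y.hom) y d
    (Subsingleton.elim (α := PrimeSpectrum k) _ _)
  obtain ⟨w, hw⟩ := hΓ.surj u
  refine ⟨w, ?_, ?_⟩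
  · have h3 : lift (snd G Y) b.act ≫ fst Y Y = snd G Y := lift_fst _ _
    have h4 := congrArg (fun t => t.left.base w) h3
    refine h4.symm.trans ?_
    show (pullback.fst Y.hom Y.hom).base ((lift (snd G Y) b.act).left.base w) = y
    rw [hw, hu1]
  · have h3 : lift (snd G Y) b.act ≫ snd Y Y = b.act := lift_snd _ _
    have h4 := congrArg (fun t => t.left.base w) h3
    have h5 : b.act.left.base w = d := by
      refine h4.symm.trans ?_
      show (pullback.snd Y.hom Y.hom).base ((lift (snd G Y) b.act).left.base w) = d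
      rw [hw, hu2]
    show b.act.left.base w ∈ Y.left.basicOpen g
    rw [h5]
    exact hd

end Field

end Groth.Agent.Lib.Helper23.FlatEquivariant
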