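import Mathlib
import Groth.Prelude.Def_AlgGrp
import Groth.Agent.Lib.Helper23.ClosedPtsField
import Groth.Agent.Lib.Helper23.FlatEquivariant

/-!
# Surjective homomorphisms onto reduced group schemes of finite type over a field are flat (helper23)

`selfAction`, `homAction` and `homAction_equivariant` are as in `Lib/Helper38/ActionMaxOpen`
(helper38), restated here to keep the import closure small.
-/

set_option autoImplicit false

namespace Groth.Agent.Lib.Helper23.HomFlat

universe u
open CategoryTheory MonoidalCategory CartesianMonoidalCategory MonObj GrpObj AlgebraicGeometry Limits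
  Groth.Agent.Lib.Helper23.ClosedPtsField Groth.Agent.Lib.Helper23.PointsDense
  Groth.Agent.Lib.Helper23.FlatEquivariant

section Actions

variable {S : Scheme.{u}}

/-- Left translation action of `G` on itself. -/
noncomputable def selfAction (G : Over S) [GrpObj G] : AlgGrp.Action G G where
  act := μ[G]
  one_act := MonObj.one_mul G
  mul_act := MonObj.mul_assoc G

/-- Left translation action of `G` on `H` through `u : G ⟶ H`. -/
noncomputable def homAction {G H : Over S} [GrpObj G] [GrpObj H] (u : G ⟶ H) [IsMonHom u] :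
    AlgGrp.Action G H where
  act := (u ▷ H) ≫ μ[H]
  one_act := by
    rw [← comp_whiskerRight_assoc, IsMonHom.one_hom, MonObj.one_mul]
  mul_act := by
    have key : ∀ {T : Over S} (g : T ⟶ G) (y : T ⟶ H),
        lift g y ≫ (u ▷ H) ≫ μ[H] = (g ≫ u) * y := by
      intro T g y
      rw [← Category.assoc, lift_whiskerRight]
      rfl
    have h1 : (μ[G] ▷ H) = lift (fst (G ⊗ G) H ≫ μ[G]) (snd (G ⊗ G) H) := by
      refine CartesianMonoidalCategory.hom_ext _ _ ?_ ?_
      · rw [whiskerRight_fst, lift_fst]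
      · rw [whiskerRight_snd, lift_snd]
    have h2 : (α_ G G H).hom ≫ (G ◁ ((u ▷ H) ≫ μ[H])) =
        lift (fst (G ⊗ G) H ≫ fst G G)
          (lift (fst (G ⊗ G) H ≫ snd G G) (snd (G ⊗ G) H) ≫ (u ▷ H) ≫ μ[H]) := by
      have h3 : (α_ G G H).hom ≫ snd G (G ⊗ H) =
          lift (fst (G ⊗ G) H ≫ snd G G) (snd (G ⊗ G) H) := by
        refine CartesianMonoidalCategory.hom_ext _ _ ?_ ?_
        · rw [Category.assoc, associator_hom_snd_fst, lift_fst]
        · rw [Category.assoc, associator_hom_snd_snd, lift_snd]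
      refine CartesianMonoidalCategory.hom_ext _ _ ?_ ?_
      · rw [Category.assoc, whiskerLeft_fst, associator_hom_fst, lift_fst]
      · rw [Category.assoc, whiskerLeft_snd, ← Category.assoc, h3, lift_snd]
    rw [h1, key, ← Category.assoc, h2, key, key]
    simp only [MonObj.mul_eq_mul, MonObj.comp_mul, MonObj.mul_comp, Category.assoc]
    exact mul_assoc _ _ _

theorem homAction_equivariant {G H : Over S} [GrpObj G] [GrpObj H] (u : G ⟶ H) [IsMonHom u] :
    (G ◁ u) ≫ (homAction u).act = (selfAction G).act ≫ u := by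
  change (G ◁ u) ≫ (u ▷ H) ≫ μ[H] = μ[G] ≫ u
  rw [IsMonHom.mul_hom, tensorHom_def', Category.assoc]

theorem lift_homAction {G H : Over S} [GrpObj G] [GrpObj H] (u : G ⟶ H) [IsMonHom u] {T : Over S}
    (g : T ⟶ G) (y : T ⟶ H) : lift g y ≫ (homAction u).act = (g ≫ u) * y := by
  change lift g y ≫ (u ▷ H) ≫ μ[H] = _
  rw [← Category.assoc, lift_whiskerRight]
  rfl

end Actions

section Field

variable {k : Type u} [Field k] (H Q : Over (Spec (CommRingCat.of k))) [GrpObj H] [GrpObj Q]
  [LocallyOfFiniteType H.hom] [QuasiCompact H.hom] [LocallyOfFiniteType Q.hom] [QuasiCompact Q.hom]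
  [IsReduced Q.left]

/-- A surjective homomorphism onto a reduced group scheme of finite type over a field is flat. -/
theorem flat_of_surjective_hom (φ : H ⟶ Q) [IsMonHom φ] [Surjective φ.left] : Flat φ.left := by
  let K := AlgebraicClosure k
  have hne : Nonempty Q.left := ⟨η[Q].left.base (IsLocalRing.closedPoint k)⟩
  have hHQ1 : LocallyOfFiniteType (H ⊗ Q).hom :=
    inferInstanceAs (LocallyOfFiniteType (pullback.fst H.hom Q.hom ≫ H.hom))
  have hHQ2 : QuasiCompact (H ⊗ Q).hom :=
    inferInstanceAs (QuasiCompact (pullback.fst H.hom Q.hom ≫ H.hom))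
  have hQQ1 : LocallyOfFiniteType (Q ⊗ Q).hom :=
    inferInstanceAs (LocallyOfFiniteType (pullback.fst Q.hom Q.hom ≫ Q.hom))
  have hQQ2 : QuasiCompact (Q ⊗ Q).hom :=
    inferInstanceAs (QuasiCompact (pullback.fst Q.hom Q.hom ≫ Q.hom))
  refine flat_of_equivariant H H Q (selfAction H) (homAction φ) φ (homAction_equivariant φ) ?_
  apply surjective_of_points k K (H ⊗ Q) (Q ⊗ Q)
  intro p
  obtain ⟨h, hh⟩ := exists_point_lift_of_surjective k K H Q φ ((p ≫ snd Q Q) * (p ≫ fst Q Q)⁻¹)
  refine ⟨lift h (p ≫ fst Q Q), ?_⟩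
  rw [comp_lift, lift_snd, lift_homAction, hh, inv_mul_cancel_right]
  ext <;> simp

end Field

section Kernel

variable {S : Scheme.{u}} {G H N : Over S} [GrpObj G] [GrpObj H]

/-- For the kernel `i : N ⟶ G` of a homomorphism `φ : G ⟶ H`, the map `(g, n) ↦ (g, g n)`
identifies `G × N` with `G ×_H G`. -/
theorem isPullback_of_isKernel (φ : G ⟶ H) [IsMonHom φ] (i : N ⟶ G)
    (hN : AlgGrp.IsKernel i φ) : IsPullback (fst G N) ((G ◁ i) ≫ μ[G]) φ φ := by
  have hN' : IsPullback i (toUnit N) φ η[H] := hN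
  have key : ∀ {T : Over S} (g : T ⟶ G) (n : T ⟶ N),
      lift g n ≫ (G ◁ i) ≫ μ[G] = g * (n ≫ i) := by
    intro T g n
    rw [← Category.assoc, lift_whiskerLeft]
    rfl
  have hi1 : ∀ {T : Over S} (n : T ⟶ N), (n ≫ i) ≫ φ = 1 := by
    intro T n
    rw [Category.assoc, hN'.w, ← Category.assoc, toUnit_unique (n ≫ toUnit N) (toUnit T)]
    rfl
  have hw : fst G N ≫ φ = ((G ◁ i) ≫ μ[G]) ≫ φ := by
    have h0 : (G ◁ i) ≫ μ[G] = lift (fst G N) (snd G N) ≫ (G ◁ i) ≫ μ[G] := by
      rw [lift_fst_snd, Category.id_comp]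
    rw [h0, key, MonObj.mul_comp, hi1, _root_.mul_one]
  have hlift : ∀ {T : Over S} (s t : T ⟶ G), s ≫ φ = t ≫ φ →
      (s⁻¹ * t) ≫ φ = toUnit T ≫ η[H] := by
    intro T s t hst
    rw [MonObj.mul_comp, GrpObj.inv_comp, hst, inv_mul_cancel]
    rfl
  refine ⟨⟨hw⟩, ⟨PullbackCone.IsLimit.mk _
    (fun c => lift c.fst (hN'.lift (c.fst⁻¹ * c.snd) (toUnit _) (hlift _ _ c.condition))) ?_ ?_ ?_⟩⟩
  · intro c
    exact lift_fst _ _
  · intro c
    rw [key, hN'.lift_fst, mul_inv_cancel_left]
  · intro c m h1 h2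
    have hm : m = lift (m ≫ fst G N) (m ≫ snd G N) := by
      refine CartesianMonoidalCategory.hom_ext _ _ ?_ ?_
      · rw [lift_fst]
      · rw [lift_snd]
    have h3 : (m ≫ snd G N) ≫ i = c.fst⁻¹ * c.snd := by
      rw [hm, key, h1] at h2
      rw [← h2, inv_mul_cancel_left]
    have h4 : m ≫ snd G N = hN'.lift (c.fst⁻¹ * c.snd) (toUnit _) (hlift _ _ c.condition) := by
      apply hN'.hom_ext
      · rw [hN'.lift_fst, h3]
      · exact toUnit_unique _ _
    rw [hm, h1, h4]

end Kernel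

end Groth.Agent.Lib.Helper23.HomFlat
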