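import Mathlib
import Groth.Agent.Lib.Helper23.HomFlat
import Groth.Agent.Lib.Helper67.FlatAtBC

/-!
# Flatness at one point of an equivariant morphism from a group scheme (helper23)

Over a base with a single point, an equivariant morphism `G ⟶ Y` (with `G` flat over the base)
which is flat at one point is flat.
-/

set_option autoImplicit false
set_option linter.unusedSectionVars false
set_option linter.style.haveILetI false

namespace Groth.Agent.Lib.Helper23.FlatHomog

universe u
open CategoryTheory MonoidalCategory CartesianMonoidalCategory MonObj AlgebraicGeometry Limits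
open Groth.Agent.Lib.Helper95 Groth.Agent.Lib.Helper23.FlatEquivariant
  Groth.Agent.Lib.Helper23.HomFlat

section Scheme

/-- Descent of flatness at a point along a flat morphism. -/
theorem flat_stalkMap_of_comp {X' X Y : Scheme.{u}} (g : X' ⟶ X) (f : X ⟶ Y) [Flat g]
    (x' : X') (hgf : ((g ≫ f).stalkMap x').hom.Flat) : (f.stalkMap (g x')).hom.Flat := by
  let φ := (f.stalkMap (g x')).hom
  let ψ := (g.stalkMap x').hom
  have hcomp : ((g ≫ f).stalkMap x').hom = ψ.comp φ := by
    rw [Scheme.Hom.stalkMap_comp]; rfl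
  have h1 : (ψ.comp φ).Flat := hcomp ▸ hgf
  have h2 : ψ.Flat := Flat.stalkMap g x'
  letI := φ.toAlgebra
  letI := ψ.toAlgebra
  letI := (ψ.comp φ).toAlgebra
  haveI : IsScalarTower (Y.presheaf.stalk (f (g x'))) (X.presheaf.stalk (g x'))
      (X'.presheaf.stalk x') := IsScalarTower.of_algebraMap_eq' rfl
  haveI : Module.Flat (Y.presheaf.stalk (f (g x'))) (X'.presheaf.stalk x') := h1
  haveI : Module.Flat (X.presheaf.stalk (g x')) (X'.presheaf.stalk x') := h2
  haveI : IsLocalHom (algebraMap (X.presheaf.stalk (g x')) (X'.presheaf.stalk x')) :=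
    (inferInstance : IsLocalHom (g.stalkMap x').hom)
  haveI : Module.FaithfullyFlat (X.presheaf.stalk (g x')) (X'.presheaf.stalk x') :=
    Module.FaithfullyFlat.of_flat_of_isLocalHom
  exact Groth.Agent.Lib.Helper67.FlatAtBC.flat_of_faithfullyFlat_of_flat
    (Y.presheaf.stalk (f (g x'))) (X.presheaf.stalk (g x')) (X'.presheaf.stalk x')

/-- Flatness at a point is stable under composition. -/
theorem flat_stalkMap_comp {X Y Z : Scheme.{u}} (f : X ⟶ Y) (g : Y ⟶ Z) (x : X)
    (hf : (f.stalkMap x).hom.Flat) (hg : (g.stalkMap (f x)).hom.Flat) :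
    ((f ≫ g).stalkMap x).hom.Flat := by
  have e : ((f ≫ g).stalkMap x).hom = (f.stalkMap x).hom.comp (g.stalkMap (f x)).hom := by
    rw [Scheme.Hom.stalkMap_comp]; rfl
  rw [e]
  exact RingHom.Flat.comp hg hf

end Scheme

section Act

variable {S : Scheme.{u}} {G X Y : Over S} [GrpObj G]

/-- Flatness of an equivariant morphism at `x` implies flatness at `g • x`. -/
theorem flatAt_act [Flat G.hom] (a : AlgGrp.Action G X) (b : AlgGrp.Action G Y) (f : X ⟶ Y)
    (hf : (G ◁ f) ≫ b.act = a.act ≫ f) (w : (G ⊗ X).left)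
    (h : (f.left.stalkMap ((snd G X).left.base w)).hom.Flat) :
    (f.left.stalkMap (a.act.left.base w)).hom.Flat := by
  have sq : IsPullback (G ◁ f).left (snd G X).left (snd G Y).left f.left :=
    (isPullback_whiskerLeft_snd G f).map (Over.forget _)
  have h1 : ((G ◁ f).left.stalkMap w).hom.Flat :=
    Groth.Agent.Lib.Helper67.FlatAtBC.flat_stalkMap_of_isPullback sq w h
  have hb : Flat b.act.left := act_left_of_isStableUnderBaseChange @Flat b inferInstance
  have ha : Flat a.act.left := act_left_of_isStableUnderBaseChange @Flat a inferInstance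
  have h2 : (((G ◁ f).left ≫ b.act.left).stalkMap w).hom.Flat :=
    flat_stalkMap_comp _ _ w h1 (Flat.stalkMap b.act.left _)
  have e : (G ◁ f).left ≫ b.act.left = a.act.left ≫ f.left := congrArg (fun t => t.left) hf
  rw [e] at h2
  exact flat_stalkMap_of_comp a.act.left f.left w h2

/-- Over a one-point base, an equivariant morphism from a flat group scheme which is flat at one
point is flat. -/
theorem flat_of_flatAt [Subsingleton S] [Flat G.hom] (b : AlgGrp.Action G Y) (f : G ⟶ Y)
    (hf : (G ◁ f) ≫ b.act = μ[G] ≫ f) (h : ∃ x : G.left, (f.left.stalkMap x).hom.Flat) :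
    Flat f.left := by
  obtain ⟨x, hx⟩ := h
  rw [Flat.iff_flat_stalkMap]
  intro g
  obtain ⟨w', hw'1, hw'2⟩ := Scheme.Pullback.exists_preimage_pullback (f := G.hom) (g := G.hom)
    g x (Subsingleton.elim _ _)
  let Θ : G ⊗ G ⟶ G ⊗ G := lift (fst G G * (snd G G)⁻¹) (snd G G)
  let w : (G ⊗ G).left := Θ.left.base w'
  have hw1 : (snd G G).left.base w = x := by
    have e : Θ ≫ snd G G = snd G G := lift_snd _ _
    have e2 : (snd G G).left.base (Θ.left.base w') = (snd G G).left.base w' :=
      congrArg (fun t => t.left.base w') e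
    exact e2.trans hw'2
  have hw2 : μ[G].left.base w = g := by
    have e : Θ ≫ μ[G] = fst G G := by
      show (fst G G * (snd G G)⁻¹) * snd G G = fst G G
      simp
    have e2 : μ[G].left.base (Θ.left.base w') = (fst G G).left.base w' :=
      congrArg (fun t => t.left.base w') e
    exact e2.trans hw'1
  have key := flatAt_act (selfAction G) b f hf w (hw1 ▸ hx)
  exact hw2 ▸ key

theorem orbitMap_equivariant (a : AlgGrp.Action G X) (s₀ : 𝟙_ (Over S) ⟶ X) :
    (G ◁ a.orbitMap s₀) ≫ a.act = μ[G] ≫ a.orbitMap s₀ := by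
  have key : ∀ {T : Over S} (h : T ⟶ G), h ≫ a.orbitMap s₀ = psmul a h (toUnit T ≫ s₀) := by
    intro T h
    unfold AlgGrp.Action.orbitMap psmul
    rw [← Category.assoc, comp_lift, Category.comp_id, ← Category.assoc,
      show h ≫ toUnit G = toUnit T from toUnit_unique _ _]
  have h1 : (G ◁ a.orbitMap s₀) = lift (fst G G) (snd G G ≫ a.orbitMap s₀) := by
    apply CartesianMonoidalCategory.hom_ext <;> simp
  have h2 : μ[G] = fst G G * snd G G := by
    rw [Hom.mul_def, lift_fst_snd, Category.id_comp]
  rw [h1, h2, key, key]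
  show psmul a (fst G G) (psmul a (snd G G) _) = _
  rw [← mul_psmul]

theorem subsingleton_spec (A : Type u) [CommRing A] [IsArtinianRing A] [IsLocalRing A] :
    Subsingleton ↥(Spec (CommRingCat.of A)) := by
  refine ⟨fun p q => ?_⟩
  apply PrimeSpectrum.ext
  have hp' : p.asIdeal.IsPrime := p.isPrime
  have hq' : q.asIdeal.IsPrime := q.isPrime
  have hp : p.asIdeal.IsMaximal := IsArtinianRing.isMaximal_of_isPrime p.asIdeal
  have hq : q.asIdeal.IsMaximal := IsArtinianRing.isMaximal_of_isPrime q.asIdeal
  rw [IsLocalRing.eq_maximalIdeal hp, IsLocalRing.eq_maximalIdeal hq]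

end Act

end Groth.Agent.Lib.Helper23.FlatHomog
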