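import Mathlib
import Groth.Agent.Lib.Helper23.FlatHomog
import Groth.Prelude.Def_MoreMor
import Groth.Prelude.Def_Red

/-!
# Surjective homomorphisms onto reduced group schemes over a one-point base are flat (helper23)

No finiteness hypotheses: flatness at a point over a maximal point of the (reduced) target, then
homogeneity.
-/

set_option autoImplicit false
set_option linter.unusedSectionVars false
set_option linter.style.haveILetI false

namespace Groth.Agent.Lib.Helper23.FibreHomFlat

universe u
open CategoryTheory MonoidalCategory CartesianMonoidalCategory MonObj AlgebraicGeometry Limits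
open Groth.Agent.Lib.Helper23.HomFlat Groth.Agent.Lib.Helper23.FlatHomog

/-- Every nonempty scheme has a generic point of an irreducible component. -/
theorem exists_closure_mem_irreducibleComponents (Y : Scheme.{u}) [Nonempty Y] :
    ∃ ξ : Y, closure {ξ} ∈ irreducibleComponents ↥Y := by
  obtain ⟨y⟩ := ‹Nonempty Y›
  have hZ := irreducibleComponent_mem_irreducibleComponents y
  have hirr : IsIrreducible (irreducibleComponent y) := isIrreducible_irreducibleComponent
  have hcl : IsClosed (irreducibleComponent y) := isClosed_irreducibleComponent
  refine ⟨hirr.genericPoint, ?_⟩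
  rw [hirr.closure_genericPoint hcl]
  exact hZ

/-- Over a one-point base, a surjective homomorphism from a flat group scheme onto a reduced
group scheme is flat. -/
theorem flat_of_surjective_of_isReduced {S : Scheme.{u}} [Subsingleton S] {G H : Over S}
    [GrpObj G] [GrpObj H] [Flat G.hom] [IsReduced H.left] [Nonempty H.left]
    (f : G ⟶ H) [IsMonHom f] [Surjective f.left] : Flat f.left := by
  obtain ⟨ξ, hξ⟩ := exists_closure_mem_irreducibleComponents H.left
  obtain ⟨x, hx⟩ := f.left.surjective ξ
  refine flat_of_flatAt (homAction f) f (homAction_equivariant f) ⟨x, ?_⟩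
  have hfld : IsField (H.left.presheaf.stalk (f.left x)) := by
    rw [hx]
    exact isField_stalk_of_closure_mem_irreducibleComponents _ ξ hξ
  letI := hfld.toField
  algebraize [(f.left.stalkMap x).hom]
  show Module.Flat _ _
  infer_instance

/-- The base change of a morphism of `S`-schemes along `φ : S' ⟶ S`, as a cartesian square. -/
theorem isPullback_bc_map {S S' : Scheme.{u}} (φ : S' ⟶ S) {G H : Over S} (f : G ⟶ H) :
    IsPullback (pullback.fst G.hom φ) ((Over.pullback φ).map f).left f.left
      (pullback.fst H.hom φ) := by
  have hw : f.left ≫ H.hom = G.hom := Over.w f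
  have hfsl : ((Over.pullback φ).map f).left =
      pullback.lift (pullback.fst G.hom φ ≫ f.left) (pullback.snd G.hom φ)
      (by rw [Category.assoc, hw, pullback.condition]) := by
    apply pullback.hom_ext <;> simp
  have h1 : ((Over.pullback φ).map f).left ≫ pullback.snd H.hom φ = pullback.snd G.hom φ := by
    rw [hfsl, pullback.lift_snd]
  have h2 : pullback.fst G.hom φ ≫ f.left =
      ((Over.pullback φ).map f).left ≫ pullback.fst H.hom φ := by
    rw [hfsl, pullback.lift_fst]
  have outer : IsPullback (pullback.fst G.hom φ)
      (((Over.pullback φ).map f).left ≫ pullback.snd H.hom φ) (f.left ≫ H.hom) φ := by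
    rw [h1, hw]
    exact IsPullback.of_hasPullback G.hom φ
  exact IsPullback.of_bot outer h2 (IsPullback.of_hasPullback H.hom φ)

/-- For a surjective homomorphism `f : G ⟶ H` of `S`-group schemes with `G` flat over `S` and
`H` with geometrically reduced fibres, the induced morphisms of fibres are flat. -/
theorem flat_fiberMap {S : Scheme.{u}} {G H : Over S} [GrpObj G] [GrpObj H] [Flat G.hom]
    [GeometricallyReduced H.hom] (f : G ⟶ H) [IsMonHom f] [Surjective f.left] (s : S) :
    Flat (MoreMor.fiberMap f.left H.hom s) := by
  let φ := S.fromSpecResidueField s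
  let Gs : Over (Spec (S.residueField s)) := Red.bc φ G
  let Hs : Over (Spec (S.residueField s)) := Red.bc φ H
  let fs : Gs ⟶ Hs := (Over.pullback φ).map f
  have hw : f.left ≫ H.hom = G.hom := Over.w f
  haveI : IsMonHom fs := inferInstance
  haveI : Flat Gs.hom := inferInstanceAs (Flat (pullback.snd G.hom φ))
  haveI : IsReduced Hs.left := inferInstanceAs (IsReduced (H.hom.fiber s))
  haveI : Nonempty Hs.left := ⟨η[Hs].left (IsLocalRing.closedPoint _)⟩
  have hfsl : fs.left = pullback.lift (pullback.fst G.hom φ ≫ f.left) (pullback.snd G.hom φ)
      (by rw [Category.assoc, hw, pullback.condition]) := by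
    apply pullback.hom_ext <;> simp [fs]
  haveI : Surjective fs.left := by
    have h1 : fs.left ≫ pullback.snd H.hom φ = pullback.snd G.hom φ := by
      rw [hfsl, pullback.lift_snd]
    have h2 : pullback.fst G.hom φ ≫ f.left = fs.left ≫ pullback.fst H.hom φ := by
      rw [hfsl, pullback.lift_fst]
    have outer : IsPullback (pullback.fst G.hom φ) (fs.left ≫ pullback.snd H.hom φ)
        (f.left ≫ H.hom) φ := by
      rw [h1, hw]
      exact IsPullback.of_hasPullback G.hom φ
    have sq : IsPullback (pullback.fst G.hom φ) fs.left f.left (pullback.fst H.hom φ) :=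
      IsPullback.of_bot outer h2 (IsPullback.of_hasPullback H.hom φ)
    exact MorphismProperty.of_isPullback (P := @Surjective) sq inferInstance
  have hflat : Flat fs.left := flat_of_surjective_of_isReduced fs
  let e : pullback (f.left ≫ H.hom) φ ≅ pullback G.hom φ := pullback.congrHom hw rfl
  have he1 : e.hom ≫ pullback.fst G.hom φ = pullback.fst (f.left ≫ H.hom) φ := by
    simp only [e, pullback.congrHom_hom, pullback.map]
    rw [pullback.lift_fst, Category.comp_id]
  have he2 : e.hom ≫ pullback.snd G.hom φ = pullback.snd (f.left ≫ H.hom) φ := by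
    simp only [e, pullback.congrHom_hom, pullback.map]
    rw [pullback.lift_snd, Category.comp_id]
  have he : MoreMor.fiberMap f.left H.hom s = e.hom ≫ fs.left := by
    rw [hfsl]
    apply pullback.hom_ext
    · have h1 : MoreMor.fiberMap f.left H.hom s ≫ pullback.fst H.hom φ =
          pullback.fst (f.left ≫ H.hom) φ ≫ f.left := pullback.lift_fst _ _ _
      have h2 : (e.hom ≫ pullback.lift (pullback.fst G.hom φ ≫ f.left) (pullback.snd G.hom φ)
          (by rw [Category.assoc, hw, pullback.condition])) ≫ pullback.fst H.hom φ =
          pullback.fst (f.left ≫ H.hom) φ ≫ f.left := by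
        rw [Category.assoc, pullback.lift_fst, ← Category.assoc, he1]
      exact h1.trans h2.symm
    · have h1 : MoreMor.fiberMap f.left H.hom s ≫ pullback.snd H.hom φ =
          pullback.snd (f.left ≫ H.hom) φ := pullback.lift_snd _ _ _
      have h2 : (e.hom ≫ pullback.lift (pullback.fst G.hom φ ≫ f.left) (pullback.snd G.hom φ)
          (by rw [Category.assoc, hw, pullback.condition])) ≫ pullback.snd H.hom φ =
          pullback.snd (f.left ≫ H.hom) φ := by
        rw [Category.assoc, pullback.lift_snd, he2]
      exact h1.trans h2.symm
  rw [he]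
  haveI : Flat e.hom := inferInstance
  exact MorphismProperty.comp_mem _ _ _ ‹Flat e.hom› hflat

end Groth.Agent.Lib.Helper23.FibreHomFlat
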