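import Mathlib
import Groth.Agent.S1386
import Groth.Agent.Lib.Helper23.FibreHomFlat

/-!
# Surjective homomorphisms onto group schemes with geometrically reduced fibres are flat (helper23)

Uses the fibrewise flatness criterion (helper31, `S1386`).
-/

set_option autoImplicit false
set_option linter.unusedSectionVars false
set_option linter.style.haveILetI false

namespace Groth.Agent.Lib.Helper23.FibreHomFlat

universe u
open CategoryTheory MonoidalCategory CartesianMonoidalCategory MonObj AlgebraicGeometry Limits

/-- Let `f : G ⟶ H` be a surjective homomorphism of `S`-group schemes with `G` flat and locally of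
finite presentation over `S` and `H` locally of finite type over `S` with geometrically reduced
fibres. Then `f` is flat and `H` is flat over `S`. -/
theorem flat_of_surjective_of_geometricallyReduced {S : Scheme.{u}} (G H : Over S) [GrpObj G]
    [GrpObj H] [LocallyOfFinitePresentation G.hom] [Flat G.hom] [LocallyOfFiniteType H.hom]
    [GeometricallyReduced H.hom] (f : G ⟶ H) [IsMonHom f] [Surjective f.left] :
    Flat f.left ∧ Flat H.hom := by
  have hw : f.left ≫ H.hom = G.hom := Over.w f
  haveI : LocallyOfFinitePresentation (f.left ≫ H.hom) := by rw [hw]; infer_instance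
  haveI : Flat (f.left ≫ H.hom) := by rw [hw]; infer_instance
  have key := (Groth.Agent.S1386.result f.left H.hom).1
  have hx : ∀ x : G.left,
      (H.hom.stalkMap (f.left x)).hom.Flat ∧ (f.left.stalkMap x).hom.Flat := by
    intro x
    refine (key x).1 ⟨Flat.stalkMap _ x, ?_⟩
    haveI : Flat (MoreMor.fiberMap f.left H.hom (H.hom (f.left x))) := flat_fiberMap f _
    exact Flat.stalkMap _ _
  constructor
  · rw [Flat.iff_flat_stalkMap]
    exact fun x => (hx x).2
  · rw [Flat.iff_flat_stalkMap]
    intro y
    obtain ⟨x, rfl⟩ := f.left.surjective y
    exact (hx x).1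

end Groth.Agent.Lib.Helper23.FibreHomFlat
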