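import Mathlib
import Groth.Agent.Lib.Helper69.ReducedSmoothLocal

/-!
# Lifting morphisms from reduced schemes through surjective closed immersions (helper23)
-/

set_option autoImplicit false
set_option linter.unusedSectionVars false

namespace Groth.Agent.Lib.Helper23.ReducedLift

universe u
open CategoryTheory MonoidalCategory CartesianMonoidalCategory AlgebraicGeometry Limits

variable {S : Scheme.{u}}

/-- A morphism out of a reduced scheme factors through a closed immersion as soon as the pulled back
closed immersion is surjective. -/
theorem exists_lift_of_isReduced' {W H Hr : Over S} [IsReduced W.left] (j : Hr ⟶ H)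
    [IsClosedImmersion j.left] (n : W ⟶ H) (hsurj : Surjective (pullback.fst n.left j.left)) :
    ∃ w : W ⟶ Hr, w ≫ j = n := by
  let f : pullback n.left j.left ⟶ W.left := pullback.fst n.left j.left
  have hcl : IsClosedImmersion f := inferInstanceAs (IsClosedImmersion (pullback.fst n.left j.left))
  have hsurj : Surjective f := hsurj
  have hiso : IsIso f := isIso_of_isClosedImmersion_of_surjective f
  let e : pullback n.left j.left ≅ W.left := @asIso _ _ _ _ f hiso
  have hcond : pullback.snd n.left j.left ≫ j.left = e.hom ≫ n.left := pullback.condition.symm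
  have hj : j.left ≫ H.hom = Hr.hom := Over.w j
  have hn : n.left ≫ H.hom = W.hom := Over.w n
  have h3 : (e.inv ≫ pullback.snd n.left j.left) ≫ Hr.hom = W.hom := by
    rw [← hj, Category.assoc, reassoc_of% hcond, hn, Iso.inv_hom_id_assoc]
  have h4 : (e.inv ≫ pullback.snd n.left j.left) ≫ j.left = n.left := by
    rw [Category.assoc, hcond, Iso.inv_hom_id_assoc]
  refine ⟨Over.homMk (e.inv ≫ pullback.snd n.left j.left) h3, ?_⟩
  apply Over.OverMorphism.ext
  exact h4

/-- A morphism out of a reduced scheme factors through every surjective closed immersion. -/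
theorem exists_lift_of_isReduced {W H Hr : Over S} [IsReduced W.left] (j : Hr ⟶ H)
    [IsClosedImmersion j.left] [Surjective j.left] (n : W ⟶ H) : ∃ w : W ⟶ Hr, w ≫ j = n :=
  exists_lift_of_isReduced' j n (inferInstanceAs (Surjective (pullback.fst n.left j.left)))

/-- The product of a smooth `S`-scheme with a reduced `S`-scheme is reduced. -/
theorem isReduced_tensor_of_smooth (G Y : Over S) [Smooth G.hom] [IsReduced Y.left] :
    IsReduced (G ⊗ Y).left := by
  have h : Smooth (pullback.snd G.hom Y.hom) := inferInstance
  exact Groth.Agent.Lib.Helper69.ReducedSmoothLocal.isReduced_of_smooth (pullback.snd G.hom Y.hom)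

end Groth.Agent.Lib.Helper23.ReducedLift
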