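import Mathlib

/-!
# Rational points of smooth algebras over separably closed fields (helper23)
-/

set_option autoImplicit false

namespace Groth.Agent.Lib.Helper23.SepClosedPoint

universe u
open TensorProduct

/-- A separably closed field is infinite. -/
theorem infinite_of_isSepClosed (K : Type*) [Field K] [IsSepClosed K] : Infinite K := by
  by_contra hfin
  rw [not_infinite_iff_finite] at hfin
  have hsep : Algebra.IsSeparable K (AlgebraicClosure K) := inferInstance
  have hb := IsSepClosed.algebraMap_surjective K (AlgebraicClosure K)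
  have : Finite (AlgebraicClosure K) := Finite.of_surjective _ hb
  exact not_finite (AlgebraicClosure K)

variable {K : Type u} [Field K] [IsSepClosed K]

/-- A nonzero étale algebra over a separably closed field has a rational point. -/
theorem nonempty_algHom_of_etale (T : Type u) [CommRing T] [Algebra K T] [Algebra.Etale K T]
    [Nontrivial T] : Nonempty (T →ₐ[K] K) := by
  obtain ⟨p⟩ := (inferInstance : Nonempty (PrimeSpectrum T))
  exact ⟨(Pi.evalAlgHom K (fun _ : PrimeSpectrum T => K) p).comp
    (Algebra.FormallyEtale.equivPiOfIsSepClosed K T).toAlgHom⟩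

/-- A nonzero algebra which is étale over a polynomial ring over a separably closed field has a
rational point. -/
theorem nonempty_algHom_of_etale_mvPolynomial {n : ℕ} (B : Type u) [CommRing B] [Nontrivial B]
    [Algebra (MvPolynomial (Fin n) K) B] [Algebra K B] [IsScalarTower K (MvPolynomial (Fin n) K) B]
    [Algebra.Etale (MvPolynomial (Fin n) K) B] : Nonempty (B →ₐ[K] K) := by
  have hinf : Infinite K := infinite_of_isSepClosed K
  let A := MvPolynomial (Fin n) K
  have hopen : IsOpenMap (PrimeSpectrum.comap (algebraMap A B)) :=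
    PrimeSpectrum.isOpenMap_comap_of_hasGoingDown_of_finitePresentation
  obtain ⟨q₀⟩ := (inferInstance : Nonempty (PrimeSpectrum B))
  have hU : IsOpen (Set.range (PrimeSpectrum.comap (algebraMap A B))) := hopen.isOpen_range
  obtain ⟨_, ⟨_, ⟨f, rfl⟩, rfl⟩, hp₀, hfU⟩ :=
    PrimeSpectrum.isBasis_basic_opens.exists_subset_of_mem_open (Set.mem_range_self q₀) hU
  have hf0 : f ≠ 0 := by
    rintro rfl
    exact hp₀ (Ideal.zero_mem _)
  obtain ⟨a, ha⟩ : ∃ a : Fin n → K, MvPolynomial.eval a f ≠ 0 := by
    by_contra hcon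
    simp only [not_exists, not_not] at hcon
    exact hf0 (MvPolynomial.funext (fun x => by rw [hcon x, map_zero]))
  let ev : A →ₐ[K] K := MvPolynomial.aeval a
  have hev : Function.Surjective ev := fun c => ⟨MvPolynomial.C c, by
    show MvPolynomial.aeval a (MvPolynomial.C c) = c
    rw [MvPolynomial.aeval_C]; rfl⟩
  have hmax : (RingHom.ker ev).IsMaximal := RingHom.ker_isMaximal_of_surjective _ hev
  let P : PrimeSpectrum A := ⟨RingHom.ker ev, hmax.isPrime⟩
  have hP : P ∈ (PrimeSpectrum.basicOpen f : Set (PrimeSpectrum A)) := by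
    show f ∉ RingHom.ker ev
    rw [RingHom.mem_ker]
    show MvPolynomial.aeval a f ≠ 0
    rwa [MvPolynomial.aeval_eq_eval]
  obtain ⟨q, hq⟩ := hfU hP
  -- the fibre
  let 𝔪 : Ideal A := RingHom.ker ev
  have hqm : 𝔪 = Ideal.comap (algebraMap A B) q.asIdeal := congrArg PrimeSpectrum.asIdeal hq.symm
  let T := (A ⧸ 𝔪) ⊗[A] B
  have hbij : Function.Bijective (algebraMap K (A ⧸ 𝔪)) := by
    constructor
    · exact (algebraMap K (A ⧸ 𝔪)).injective
    · intro x
      obtain ⟨y, rfl⟩ := Ideal.Quotient.mk_surjective x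
      refine ⟨ev y, ?_⟩
      rw [IsScalarTower.algebraMap_apply K A (A ⧸ 𝔪), Ideal.Quotient.algebraMap_eq,
        Ideal.Quotient.eq, RingHom.mem_ker, map_sub, AlgHom.commutes]
      exact sub_self _
  have het1 : Algebra.Etale K (A ⧸ 𝔪) :=
    Algebra.Etale.of_equiv (AlgEquiv.ofBijective (Algebra.ofId K (A ⧸ 𝔪)) hbij)
  have het2 : Algebra.Etale K T := Algebra.Etale.comp K (A ⧸ 𝔪) T
  have hnt : Nontrivial T := by
    let g1 : (A ⧸ 𝔪) →ₐ[A] (B ⧸ q.asIdeal) :=
      Ideal.Quotient.liftₐ 𝔪 (Algebra.ofId A (B ⧸ q.asIdeal)) (by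
        intro x hx
        rw [hqm] at hx
        show algebraMap A (B ⧸ q.asIdeal) x = 0
        rw [IsScalarTower.algebraMap_apply A B (B ⧸ q.asIdeal), Ideal.Quotient.algebraMap_eq,
          Ideal.Quotient.eq_zero_iff_mem]
        exact hx)
    let g : T →ₐ[A] (B ⧸ q.asIdeal) :=
      Algebra.TensorProduct.lift g1 (IsScalarTower.toAlgHom A B (B ⧸ q.asIdeal))
        (fun _ _ => Commute.all _ _)
    exact g.toRingHom.domain_nontrivial
  obtain ⟨ψ⟩ := nonempty_algHom_of_etale (K := K) T
  exact ⟨ψ.comp ((Algebra.TensorProduct.includeRight : B →ₐ[A] T).restrictScalars K)⟩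

end Groth.Agent.Lib.Helper23.SepClosedPoint
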