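import Mathlib
import Groth.Agent.Lib.Helper23.SepClosedPoint
import Groth.Agent.Lib.Helper23.CartierSmooth
import Groth.Agent.Lib.Helper23.PointsDense
import Groth.Agent.Lib.Helper23.ReducedLift

/-!
# Smooth schemes over a field have many points in separably closed extensions (helper23)
-/

set_option autoImplicit false
set_option linter.unusedSectionVars false

namespace Groth.Agent.Lib.Helper23.SepClosedDense

universe u
open CategoryTheory MonoidalCategory CartesianMonoidalCategory AlgebraicGeometry Limits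
  Groth.Agent.Lib.Helper23.SepClosedPoint Groth.Agent.Lib.Helper23.CartierSmooth
  Groth.Agent.Lib.Helper23.PointsDense Groth.Agent.Lib.Helper23.ReducedLift

section Algebra

variable {K : Type u} [Field K] [IsSepClosed K]

/-- A nonzero standard smooth algebra over a separably closed field has a rational point. -/
theorem nonempty_algHom_of_isStandardSmooth (B : Type u) [CommRing B] [Nontrivial B] [Algebra K B]
    (h : (algebraMap K B).IsStandardSmooth) : Nonempty (B →ₐ[K] K) := by
  obtain ⟨n, g, hgC, hg⟩ := RingHom.IsStandardSmooth.exists_etale_mvPolynomial h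
  let _ : Algebra (MvPolynomial (Fin n) K) B := g.toAlgebra
  have ht : IsScalarTower K (MvPolynomial (Fin n) K) B :=
    IsScalarTower.of_algebraMap_eq (fun x => by
      show algebraMap K B x = g (MvPolynomial.C x)
      rw [← hgC]; rfl)
  have het : Algebra.Etale (MvPolynomial (Fin n) K) B := hg
  exact nonempty_algHom_of_etale_mvPolynomial (n := n) B

end Algebra

section Scheme

variable {K : Type u} [Field K] [IsSepClosed K]

/-- A nonempty smooth scheme over a separably closed field has a rational point. -/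
theorem exists_section_of_smooth (X : Over (Spec (CommRingCat.of K))) [Smooth X.hom]
    [Nonempty X.left] : ∃ s : Spec (CommRingCat.of K) ⟶ X.left, s ≫ X.hom = 𝟙 _ := by
  obtain ⟨x⟩ := (inferInstance : Nonempty X.left)
  obtain ⟨U, hU, V, hV, hxV, e, hsm⟩ := Smooth.exists_isStandardSmooth X.hom x
  have hUtop : U = ⊤ := by
    ext y
    simp only [TopologicalSpace.Opens.coe_top, Set.mem_univ, iff_true]
    have : y = X.hom.base x := Subsingleton.elim (α := PrimeSpectrum K) _ _
    rw [this]
    exact e hxV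
  subst hUtop
  let _ := chartAlgebra X V
  have hsm' : (algebraMap K Γ(X.left, V)).IsStandardSmooth := by
    show ((Scheme.ΓSpecIso (CommRingCat.of K)).inv ≫ X.hom.appLE ⊤ V le_top).hom.IsStandardSmooth
    rw [CommRingCat.hom_comp]
    exact RingHom.isStandardSmooth_respectsIso.2 _
      ((Scheme.ΓSpecIso (CommRingCat.of K)).symm.commRingCatIsoToRingEquiv) hsm
  have hnt : Nontrivial Γ(X.left, V) := by
    have : Nonempty (V : Set X.left) := ⟨⟨x, hxV⟩⟩
    have : Nonempty ↥(V : Scheme) := ⟨⟨x, hxV⟩⟩
    exact (inferInstance : Nontrivial Γ(X.left, V))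
  obtain ⟨ψ⟩ := nonempty_algHom_of_isStandardSmooth Γ(X.left, V) hsm'
  refine ⟨Spec.map (CommRingCat.ofHom ψ.toRingHom) ≫ hV.fromSpec, ?_⟩
  have hfs : hV.fromSpec ≫ X.hom = Spec.map (CommRingCat.ofHom (algebraMap K Γ(X.left, V))) := by
    have h := IsAffineOpen.SpecMap_appLE_fromSpec X.hom (isAffineOpen_top _) hV
      (le_top : V ≤ X.hom ⁻¹ᵁ ⊤)
    rw [IsAffineOpen.fromSpec_top, Scheme.isoSpec_Spec_inv, ← Spec.map_comp] at h
    exact h.symm
  rw [Category.assoc, hfs, ← Spec.map_comp, ← Spec.map_id]
  congr 1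
  exact CommRingCat.hom_ext (RingHom.ext fun r => ψ.commutes r)

end Scheme

section Points

variable {k : Type u} (K : Type u) [Field k] [Field K] [Algebra k K] [IsSepClosed K]

/-- A nonempty smooth scheme over `k` has a point with values in every separably closed extension. -/
theorem exists_point_of_smooth (V : Over (Spec (CommRingCat.of k))) [Smooth V.hom] [Nonempty V.left] :
    Nonempty (XK k K ⟶ V) := by
  set gK := Spec.map (CommRingCat.ofHom (algebraMap k K)) with hgK
  have hsm : Smooth (Over.mk (pullback.snd V.hom gK)).hom :=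
    (inferInstance : Smooth (pullback.snd V.hom gK))
  have hne : Nonempty ↥(Over.mk (pullback.snd V.hom gK)).left := by
    obtain ⟨v⟩ := (inferInstance : Nonempty V.left)
    obtain ⟨v', -⟩ := (inferInstance : Surjective (pullback.fst V.hom gK)).surj v
    exact ⟨v'⟩
  obtain ⟨s, hs⟩ := exists_section_of_smooth (K := K) (Over.mk (pullback.snd V.hom gK))
  have hs' : s ≫ pullback.snd V.hom gK = 𝟙 _ := hs
  refine ⟨Over.homMk (s ≫ pullback.fst V.hom gK) ?_⟩
  show (s ≫ pullback.fst V.hom gK) ≫ V.hom = gK
  rw [Category.assoc, pullback.condition, reassoc_of% hs']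

/-- Let `W` be smooth over `k` and `c : Y ⟶ X` a closed immersion of `k`-schemes.  A morphism
`u : W ⟶ X` factors through `c` as soon as it maps `K`-points of `W` to `K`-points of `Y`, for some
separably closed extension `K` of `k`. -/
theorem exists_lift_of_points_of_smooth (W X Y : Over (Spec (CommRingCat.of k))) [Smooth W.hom]
    (c : Y ⟶ X) [IsClosedImmersion c.left] (u : W ⟶ X)
    (hpt : ∀ w : XK k K ⟶ W, ∃ y' : XK k K ⟶ Y, w ≫ u = y' ≫ c) : ∃ v : W ⟶ Y, v ≫ c = u := by
  have hred : IsReduced W.left :=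
    Groth.Agent.Lib.Helper69.ReducedSmoothLocal.isReduced_of_smooth W.hom
  apply exists_lift_of_isReduced' c u
  let f : pullback u.left c.left ⟶ W.left := pullback.fst u.left c.left
  have hcl : IsClosedImmersion f := inferInstanceAs (IsClosedImmersion (pullback.fst u.left c.left))
  show Surjective f
  constructor
  rw [← Set.range_eq_univ, ← not_ne_iff, ← Set.nonempty_compl]
  intro hne
  let Vo : W.left.Opens := ⟨(Set.range f.base)ᶜ, f.isClosedEmbedding.isClosed_range.isOpen_compl⟩
  let V' : Over (Spec (CommRingCat.of k)) := Over.mk (Vo.ι ≫ W.hom)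
  have hsm : Smooth V'.hom := (inferInstance : Smooth (Vo.ι ≫ W.hom))
  have hne' : Nonempty ↥V'.left := by
    obtain ⟨z, hz⟩ := hne
    exact ⟨⟨z, hz⟩⟩
  obtain ⟨w₀⟩ := exists_point_of_smooth K V'
  let ι' : V' ⟶ W := Over.homMk Vo.ι rfl
  obtain ⟨y', hy'⟩ := hpt (w₀ ≫ ι')
  have h1 : (w₀ ≫ ι').left ≫ u.left = y'.left ≫ c.left := congrArg (fun t => t.left) hy'
  let z := (pullback.lift (w₀ ≫ ι').left y'.left h1).base (IsLocalRing.closedPoint K)
  have h2 : pullback.lift (w₀ ≫ ι').left y'.left h1 ≫ f = (w₀ ≫ ι').left := pullback.lift_fst _ _ _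
  have h3 : f.base z = Vo.ι.base (w₀.left.base (IsLocalRing.closedPoint K)) :=
    congrArg (fun t => t.base (IsLocalRing.closedPoint K)) h2
  have h4 : Vo.ι.base (w₀.left.base (IsLocalRing.closedPoint K)) ∈ (Set.range f.base)ᶜ :=
    (w₀.left.base (IsLocalRing.closedPoint K)).2
  exact h4 ⟨z, h3⟩

/-- Two morphisms from a smooth `k`-scheme to a separated `k`-scheme agree if they agree on
`K`-points, for some separably closed extension `K` of `k`. -/
theorem hom_ext_of_points_of_smooth (W G : Over (Spec (CommRingCat.of k))) [Smooth W.hom]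
    [IsSeparated G.hom] (u₁ u₂ : W ⟶ G) (hpt : ∀ w : XK k K ⟶ W, w ≫ u₁ = w ≫ u₂) : u₁ = u₂ := by
  let c : equalizer u₁ u₂ ⟶ W := equalizer.ι u₁ u₂
  have hc : IsClosedImmersion c.left := isClosedImmersion_equalizer_ι_left u₁ u₂
  obtain ⟨v, hv⟩ := exists_lift_of_points_of_smooth K W W (equalizer u₁ u₂) c (𝟙 W) (by
    intro w
    exact ⟨equalizer.lift w (hpt w), by rw [equalizer.lift_ι, Category.comp_id]⟩)
  calc u₁ = v ≫ c ≫ u₁ := by rw [← Category.assoc, hv, Category.id_comp]
    _ = v ≫ c ≫ u₂ := by rw [equalizer.condition u₁ u₂]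
    _ = u₂ := by rw [← Category.assoc, hv, Category.id_comp]

end Points

end Groth.Agent.Lib.Helper23.SepClosedDense
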