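import Groth.Agent.Lib.Helper23.Reynolds
import Groth.Prelude.Def_GLin
import Groth.Prelude.Def_W4c1tameactTame

/-!
# Affine GIT for linearly reductive bialgebras, coaction form (helper23)
-/

set_option autoImplicit false
universe u v w w'

open TensorProduct Groth.Agent.Lib.Helper75 Groth.Agent.Lib.Helper23.Reynolds

namespace Groth.Agent.Lib.Helper23.GITAffine

attribute [local instance] comodModule

section CoactAlg

variable {K : Type u} [Field K] {A : Type v} [CommRing A] [Bialgebra K A]
variable {R : Type w} [CommRing R] [Algebra K R] [HopfRep.Comod K A R]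

/-- multiplication by an invariant element is a comodule map (only multiplicativity of the coaction
is used) -/
theorem isComodHom_mulRight
    (hmul : ∀ f g : R, HopfRep.Comod.coact (k := K) (A := A) (f * g) =
      HopfRep.Comod.coact (k := K) (A := A) f * HopfRep.Comod.coact (k := K) (A := A) g)
    {y : R} (hy : y ∈ HopfRep.fixedPts K A R) :
    Hoch.IsComodHom A (LinearMap.mulRight K y) := by
  have hy' : HopfRep.Comod.coact (k := K) (A := A) y = y ⊗ₜ[K] (1 : A) := hy
  apply LinearMap.ext
  intro x
  simp only [LinearMap.comp_apply, LinearMap.mulRight_apply]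
  rw [hmul, hy']
  generalize HopfRep.Comod.coact (k := K) (A := A) x = z
  induction z using TensorProduct.induction_on with
  | zero => simp
  | tmul r a => simp [Algebra.TensorProduct.tmul_mul_tmul]
  | add z₁ z₂ h₁ h₂ => rw [add_mul, map_add, h₁, h₂]

/-- **Reynolds identity**: `E (x * y) = E x * y` for invariant `y`. -/
theorem reynolds_mul [IsSemisimpleModule (DualAlg K A) R]
    (hmul : ∀ f g : R, HopfRep.Comod.coact (k := K) (A := A) (f * g) =
      HopfRep.Comod.coact (k := K) (A := A) f * HopfRep.Comod.coact (k := K) (A := A) g)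
    {E : R →ₗ[K] R} (hE : IsReynoldsK (A := A) E) (x : R) {y : R}
    (hy : y ∈ HopfRep.fixedPts K A R) : E (x * y) = E x * y :=
  hE.natural hE (LinearMap.mulRight K y) (isComodHom_mulRight hmul hy) x

theorem reynolds_mul' [IsSemisimpleModule (DualAlg K A) R]
    (hmul : ∀ f g : R, HopfRep.Comod.coact (k := K) (A := A) (f * g) =
      HopfRep.Comod.coact (k := K) (A := A) f * HopfRep.Comod.coact (k := K) (A := A) g)
    {E : R →ₗ[K] R} (hE : IsReynoldsK (A := A) E) {y : R}
    (hy : y ∈ HopfRep.fixedPts K A R) (x : R) : E (y * x) = y * E x := by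
  rw [mul_comm, reynolds_mul hmul hE x hy, mul_comm]

/-- `1` is invariant -/
theorem one_mem_fixedPts
    (hone : HopfRep.Comod.coact (k := K) (A := A) (1 : R) = 1) :
    (1 : R) ∈ HopfRep.fixedPts K A R := by
  change HopfRep.Comod.coact (k := K) (A := A) (1 : R) = (1 : R) ⊗ₜ[K] (1 : A)
  rw [hone, Algebra.TensorProduct.one_def]

/-- product of invariants is invariant -/
theorem mul_mem_fixedPts
    (hmul : ∀ f g : R, HopfRep.Comod.coact (k := K) (A := A) (f * g) =
      HopfRep.Comod.coact (k := K) (A := A) f * HopfRep.Comod.coact (k := K) (A := A) g)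
    {x y : R} (hx : x ∈ HopfRep.fixedPts K A R) (hy : y ∈ HopfRep.fixedPts K A R) :
    x * y ∈ HopfRep.fixedPts K A R := by
  have hx' : HopfRep.Comod.coact (k := K) (A := A) x = x ⊗ₜ[K] (1 : A) := hx
  have hy' : HopfRep.Comod.coact (k := K) (A := A) y = y ⊗ₜ[K] (1 : A) := hy
  change HopfRep.Comod.coact (k := K) (A := A) (x * y) = (x * y) ⊗ₜ[K] (1 : A)
  rw [hmul, hx', hy', Algebra.TensorProduct.tmul_mul_tmul, one_mul]

/-- **Invariant partition of unity**: if two subcomodule ideals are comaximal, there is an invariant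
`f ∈ I` with `1 - f ∈ J`. -/
theorem exists_invariant_of_sup_eq_top [IsSemisimpleModule (DualAlg K A) R]
    (hone : HopfRep.Comod.coact (k := K) (A := A) (1 : R) = 1)
    (I J : Ideal R) (hI : HopfRep.IsSubcomod (k := K) (A := A) (I.restrictScalars K))
    (hJ : HopfRep.IsSubcomod (k := K) (A := A) (J.restrictScalars K)) (h : I ⊔ J = ⊤) :
    ∃ f ∈ HopfRep.fixedPts K A R, f ∈ I ∧ 1 - f ∈ J := by
  obtain ⟨E, hE⟩ := exists_isReynoldsK (K := K) (A := A) (V := R)
  have h1 : (1 : R) ∈ I ⊔ J := by rw [h]; trivial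
  obtain ⟨a, ha, b, hb, hab⟩ := Submodule.mem_sup.mp h1
  have hEa : E a ∈ I := hE.apply_mem_of_mem (I.restrictScalars K) hI ha
  have hEb : E b ∈ J := hE.apply_mem_of_mem (J.restrictScalars K) hJ hb
  refine ⟨E a, hE.apply_mem a, hEa, ?_⟩
  have hE1 : E 1 = 1 := hE.apply_of_mem (one_mem_fixedPts hone)
  have : 1 - E a = E b := by
    rw [← hE1, ← hab, map_add]
    abel
  rw [this]
  exact hEb

end CoactAlg

section Nullstellensatz

variable {K : Type u} [Field K] [IsAlgClosed K] {R : Type w} [CommRing R] [Algebra K R]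
  [Algebra.FiniteType K R]

/-- every maximal ideal of a finitely generated algebra over an algebraically closed field is the
kernel of a rational point -/
theorem exists_point_of_isMaximal (m : Ideal R) [hm : m.IsMaximal] :
    ∃ x : R →ₐ[K] K, RingHom.ker x = m := by
  let _ : Field (R ⧸ m) := Ideal.Quotient.field m
  have hft : Algebra.FiniteType K (R ⧸ m) :=
    Algebra.FiniteType.of_surjective (Ideal.Quotient.mkₐ K m) (Ideal.Quotient.mkₐ_surjective K m)
  have hfin : Module.Finite K (R ⧸ m) := finite_of_finite_type_of_isJacobsonRing K (R ⧸ m)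
  have hint : Algebra.IsIntegral K (R ⧸ m) := Algebra.IsIntegral.of_finite K (R ⧸ m)
  have hbij : Function.Bijective (algebraMap K (R ⧸ m)) :=
    IsAlgClosed.algebraMap_bijective_of_isIntegral
  let e : K ≃ₐ[K] (R ⧸ m) := AlgEquiv.ofBijective (Algebra.ofId K (R ⧸ m)) hbij
  refine ⟨(e.symm : (R ⧸ m) →ₐ[K] K).comp (Ideal.Quotient.mkₐ K m), ?_⟩
  ext r
  simp only [RingHom.mem_ker, AlgHom.coe_comp, Function.comp_apply,
    Ideal.Quotient.mkₐ_eq_mk]
  change e.symm (Ideal.Quotient.mk m r) = 0 ↔ _
  rw [EmbeddingLike.map_eq_zero_iff, Ideal.Quotient.eq_zero_iff_mem]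

/-- weak Nullstellensatz: a proper ideal is contained in the kernel of a rational point -/
theorem exists_point_of_ne_top (I : Ideal R) (hI : I ≠ ⊤) :
    ∃ x : R →ₐ[K] K, I ≤ RingHom.ker x := by
  obtain ⟨m, hm, hIm⟩ := Ideal.exists_le_maximal I hI
  obtain ⟨x, hx⟩ := exists_point_of_isMaximal (K := K) m
  exact ⟨x, hx ▸ hIm⟩

/-- Nullstellensatz: an element vanishing at every rational point is nilpotent -/
theorem isNilpotent_of_forall_point_eq_zero (a : R) (h : ∀ x : R →ₐ[K] K, x a = 0) :
    IsNilpotent a := by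
  have hJ : IsJacobsonRing R := isJacobsonRing_of_finiteType (A := K) (B := R)
  rw [← mem_nilradical, nilradical,
    ← (hJ.out (Ideal.radical_isRadical (0 : Ideal R))), Ideal.jacobson, Ideal.mem_sInf]
  rintro m ⟨-, hm⟩
  obtain ⟨x, hx⟩ := exists_point_of_isMaximal (K := K) m
  rw [← hx]
  exact h x

end Nullstellensatz

section Orbits

variable {K : Type u} [Field K] {A : Type v} [CommRing A] [Bialgebra K A]
variable {R : Type w} [CommRing R] [Algebra K R] [HopfRep.Comod K A R] [GLin.IsCoactAlg K A R]

/-- the orbit map of a rational point is the matrix coefficient map of the functional `x` -/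
theorem orbitHom_eq_cf (x : R →ₐ[K] K) (f : R) :
    GLin.orbitHom K A x f = cf (A := A) x.toLinearMap f := by
  rw [cf_apply]
  simp only [GLin.orbitHom, AlgHom.coe_comp, Function.comp_apply, GLin.coactAlgHom_apply]
  generalize HopfRep.Comod.coact (k := K) (A := A) f = z
  induction z using TensorProduct.induction_on with
  | zero => simp
  | tmul r a => simp [contractL_tmul]
  | add z₁ z₂ h₁ h₂ =>
    rw [map_add, map_add, map_add, h₁, h₂]

/-- the ideal of the orbit closure of `x` is a subcomodule -/
theorem isSubcomod_ker_orbitHom (x : R →ₐ[K] K) :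
    HopfRep.IsSubcomod (k := K) (A := A)
      ((RingHom.ker (GLin.orbitHom K A x : R →+* A)).restrictScalars K) := by
  have h := isSubcomod_restrictScalars (LinearMap.ker (cfR (A := A) x.toLinearMap))
  convert h using 1
  ext f
  simp only [Submodule.restrictScalars_mem, RingHom.mem_ker, LinearMap.mem_ker, cfR_apply]
  rw [← orbitHom_eq_cf]
  rfl

theorem apply_eq_counit_orbitHom (x : R →ₐ[K] K) (f : R) :
    x f = CoalgebraStruct.counit (R := K) (GLin.orbitHom K A x f) := by
  rw [orbitHom_eq_cf, counit_cf]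
  rfl

theorem ker_orbitHom_le_ker (x : R →ₐ[K] K) :
    RingHom.ker (GLin.orbitHom K A x : R →+* A) ≤ RingHom.ker (x : R →+* K) := by
  intro f hf
  rw [RingHom.mem_ker] at hf ⊢
  change x f = 0
  rw [apply_eq_counit_orbitHom (A := A) x f]
  change CoalgebraStruct.counit (R := K) ((GLin.orbitHom K A x : R →+* A) f) = 0
  rw [hf, map_zero]

/-- the action of a point of the group on a point of the scheme, through the orbit map -/
theorem apply_act_eq (x : R →ₐ[K] K) (g : A →ₐ[K] K) (f : R) :
    x (HopfRep.Comod.act K A R g f) = g (GLin.orbitHom K A x f) := by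
  rw [orbitHom_eq_cf, cf_apply]
  exact contract_comm g.toLinearMap x.toLinearMap _

theorem orbitHom_of_mem_fixedPts (x : R →ₐ[K] K) {f : R} (hf : f ∈ HopfRep.fixedPts K A R) :
    GLin.orbitHom K A x f = algebraMap K A (x f) := by
  have hf' : coactMap K A R f = f ⊗ₜ[K] (1 : A) := hf
  rw [orbitHom_eq_cf, cf_apply, hf', contractL_tmul, Algebra.algebraMap_eq_smul_one]
  rfl

theorem sub_mem_ker_orbitHom (x : R →ₐ[K] K) {f : R} (hf : f ∈ HopfRep.fixedPts K A R) :
    f - algebraMap K R (x f) ∈ RingHom.ker (GLin.orbitHom K A x : R →+* A) := by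
  rw [RingHom.mem_ker, map_sub]
  change GLin.orbitHom K A x f - GLin.orbitHom K A x (algebraMap K R (x f)) = 0
  rw [orbitHom_of_mem_fixedPts x hf, AlgHom.commutes, sub_self]

/-- if the orbit closures of `x` and `y` share the point `z`, the invariants agree at `x` and `y` -/
theorem apply_eq_of_common_point (x y z : R →ₐ[K] K)
    (hx : RingHom.ker (GLin.orbitHom K A x : R →+* A) ≤ RingHom.ker (z : R →+* K))
    (hy : RingHom.ker (GLin.orbitHom K A y : R →+* A) ≤ RingHom.ker (z : R →+* K))
    {f : R} (hf : f ∈ HopfRep.fixedPts K A R) : x f = y f := by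
  have h1 := hx (sub_mem_ker_orbitHom (A := A) x hf)
  have h2 := hy (sub_mem_ker_orbitHom (A := A) y hf)
  rw [RingHom.mem_ker, map_sub] at h1 h2
  change z f - z (algebraMap K R (x f)) = 0 at h1
  change z f - z (algebraMap K R (y f)) = 0 at h2
  rw [AlgHom.commutes, sub_eq_zero] at h1 h2
  have : algebraMap K K (x f) = algebraMap K K (y f) := h1.symm.trans h2
  exact this

/-- **Invariants separate disjoint orbit closures**: if the invariants agree at `x` and `y`, the
orbit closures meet (in a rational point). -/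
theorem exists_common_point [IsAlgClosed K] [Algebra.FiniteType K R]
    [IsSemisimpleModule (DualAlg K A) R] (x y : R →ₐ[K] K)
    (h : ∀ f ∈ HopfRep.fixedPts K A R, x f = y f) :
    ∃ z : R →ₐ[K] K, RingHom.ker (GLin.orbitHom K A x : R →+* A) ≤ RingHom.ker (z : R →+* K) ∧
      RingHom.ker (GLin.orbitHom K A y : R →+* A) ≤ RingHom.ker (z : R →+* K) := by
  by_cases htop : RingHom.ker (GLin.orbitHom K A x : R →+* A) ⊔
      RingHom.ker (GLin.orbitHom K A y : R →+* A) = ⊤
  · exfalso
    obtain ⟨f, hf, hfx, hfy⟩ := exists_invariant_of_sup_eq_top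
      (GLin.IsCoactAlg.coact_one (k := K) (A := A) (R := R)) _ _
      (isSubcomod_ker_orbitHom x) (isSubcomod_ker_orbitHom y) htop
    have h1 : x f = 0 := ker_orbitHom_le_ker x hfx
    have h2 : y (1 - f) = 0 := ker_orbitHom_le_ker y hfy
    rw [map_sub, map_one, sub_eq_zero] at h2
    have := h f hf
    rw [h1, ← h2] at this
    exact zero_ne_one this
  · obtain ⟨z, hz⟩ := exists_point_of_ne_top (K := K) _ htop
    exact ⟨z, le_sup_left.trans hz, le_sup_right.trans hz⟩

end Orbits

section OrbitsPoints

variable {K : Type u} [Field K] {A : Type v} [CommRing A] [Bialgebra K A]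
variable {R : Type w} [CommRing R] [Algebra K R] [HopfRep.Comod K A R] [GLin.IsCoactAlg K A R]

/-- a point `z` of the orbit closure of `x` (scheme-theoretic) kills every function vanishing on the
set-theoretic orbit of `x` -/
theorem apply_eq_zero_of_forall_act [IsAlgClosed K] [Algebra.FiniteType K A] (x z : R →ₐ[K] K)
    (hz : RingHom.ker (GLin.orbitHom K A x : R →+* A) ≤ RingHom.ker (z : R →+* K)) (f : R)
    (hf : ∀ g : A →ₐ[K] K, x (HopfRep.Comod.act K A R g f) = 0) : z f = 0 := by
  have hnil : IsNilpotent (GLin.orbitHom K A x f) := by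
    apply isNilpotent_of_forall_point_eq_zero (K := K)
    intro g
    rw [← apply_act_eq]
    exact hf g
  obtain ⟨n, hn⟩ := hnil
  have hmem : f ^ n ∈ RingHom.ker (GLin.orbitHom K A x : R →+* A) := by
    rw [RingHom.mem_ker, map_pow]
    exact hn
  have := hz hmem
  rw [RingHom.mem_ker, map_pow] at this
  exact pow_eq_zero_iff (n := n) (by
    rintro rfl
    -- n = 0: then 1 = 0 in A, so f itself is in the kernel
    simp only [pow_zero] at hn
    have h1 : (1 : K) = 0 := by
      have := congrArg (CoalgebraStruct.counit (R := K) (A := A)) hn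
      simp at this
    exact one_ne_zero h1) |>.mp this

theorem forall_act_sub_eq_zero (x : R →ₐ[K] K) {f : R} (hf : f ∈ HopfRep.fixedPts K A R)
    (g : A →ₐ[K] K) : x (HopfRep.Comod.act K A R g (f - algebraMap K R (x f))) = 0 := by
  rw [apply_act_eq]
  have := sub_mem_ker_orbitHom (A := A) x hf
  rw [RingHom.mem_ker] at this
  change g (GLin.orbitHom K A x (f - algebraMap K R (x f))) = 0
  change GLin.orbitHom K A x (f - algebraMap K R (x f)) = 0 at this
  rw [this, map_zero]

end OrbitsPoints

section Quotient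

variable {K : Type u} [Field K] {A : Type v} [CommRing A] [Bialgebra K A]
variable {R : Type w} [CommRing R] [Algebra K R] [HopfRep.Comod K A R]

/-- **The affine quotient map is surjective, and maps invariant closed sets onto closed sets**:
a rational point `φ` of the invariant ring `S` vanishing on `I ∩ S` (`I` a subcomodule ideal) lifts
to a rational point of `R` vanishing on `I`. -/
theorem exists_point_lift [IsAlgClosed K] [Algebra.FiniteType K R]
    [IsSemisimpleModule (DualAlg K A) R]
    (hmul : ∀ f g : R, HopfRep.Comod.coact (k := K) (A := A) (f * g) =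
      HopfRep.Comod.coact (k := K) (A := A) f * HopfRep.Comod.coact (k := K) (A := A) g)
    (hone : HopfRep.Comod.coact (k := K) (A := A) (1 : R) = 1)
    (S : Subalgebra K R) (hS : ∀ f, f ∈ S ↔ f ∈ HopfRep.fixedPts K A R)
    (I : Ideal R) (hI : HopfRep.IsSubcomod (k := K) (A := A) (I.restrictScalars K))
    (φ : S →ₐ[K] K) (hφ : ∀ f : S, (f : R) ∈ I → φ f = 0) :
    ∃ x : R →ₐ[K] K, (∀ f ∈ I, x f = 0) ∧ ∀ f : S, x (f : R) = φ f := by
  obtain ⟨E, hE⟩ := exists_isReynoldsK (K := K) (A := A) (V := R)
  -- the set of invariants killed by φ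
  let T : Set R := {t | ∃ h : t ∈ S, φ ⟨t, h⟩ = 0}
  have hT_add : ∀ a b, a ∈ T → b ∈ T → a + b ∈ T := by
    rintro a b ⟨ha, ha'⟩ ⟨hb, hb'⟩
    refine ⟨S.add_mem ha hb, ?_⟩
    have : (⟨a + b, S.add_mem ha hb⟩ : S) = ⟨a, ha⟩ + ⟨b, hb⟩ := rfl
    rw [this, map_add, ha', hb', add_zero]
  have hT_mul : ∀ a b, a ∈ S → b ∈ T → a * b ∈ T := by
    rintro a b ha ⟨hb, hb'⟩
    refine ⟨S.mul_mem ha hb, ?_⟩
    have : (⟨a * b, S.mul_mem ha hb⟩ : S) = ⟨a, ha⟩ * ⟨b, hb⟩ := rfl
    rw [this, map_mul, hb', mul_zero]
  have hT0 : (0 : R) ∈ T := ⟨S.zero_mem, by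
    have : (⟨0, S.zero_mem⟩ : S) = 0 := rfl
    rw [this, map_zero]⟩
  have hES : ∀ r, E r ∈ S := fun r => (hS _).2 (hE.apply_mem r)
  -- key: E maps the ideal generated by T into T
  have key : ∀ j ∈ Ideal.span T, ∀ r : R, E (r * j) ∈ T := by
    intro j hj
    induction hj using Submodule.span_induction with
    | mem t ht =>
      intro r
      have htS : t ∈ S := ht.1
      rw [reynolds_mul hmul hE r ((hS _).1 htS)]
      exact hT_mul _ _ (hES r) ht
    | zero => intro r; rw [mul_zero, map_zero]; exact hT0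
    | add a b _ _ ha hb => intro r; rw [mul_add, map_add]; exact hT_add _ _ (ha r) (hb r)
    | smul c a _ ha =>
      intro r
      rw [smul_eq_mul, ← mul_assoc]
      exact ha (r * c)
  have hJ : I ⊔ Ideal.span T ≠ ⊤ := by
    intro htop
    have h1 : (1 : R) ∈ I ⊔ Ideal.span T := by rw [htop]; trivial
    obtain ⟨i, hi, j, hj, hij⟩ := Submodule.mem_sup.mp h1
    have hEi : E i ∈ T := by
      refine ⟨hES i, hφ ⟨E i, hES i⟩ ?_⟩
      exact hE.apply_mem_of_mem (I.restrictScalars K) hI hi
    have hEj : E j ∈ T := by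
      have := key j hj 1
      rwa [one_mul] at this
    have hE1 : E 1 = 1 := hE.apply_of_mem (one_mem_fixedPts hone)
    have h1T : (1 : R) ∈ T := by
      rw [← hE1, ← hij, map_add]
      exact hT_add _ _ hEi hEj
    obtain ⟨h1S, h1'⟩ := h1T
    have : (⟨1, h1S⟩ : S) = 1 := rfl
    rw [this, map_one] at h1'
    exact one_ne_zero h1'
  obtain ⟨x, hx⟩ := exists_point_of_ne_top (K := K) _ hJ
  refine ⟨x, fun f hf => hx (Ideal.mem_sup_left hf), ?_⟩
  intro f
  have hfT : (f : R) - algebraMap K R (φ f) ∈ T := by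
    refine ⟨S.sub_mem f.2 (S.algebraMap_mem _), ?_⟩
    have : (⟨(f : R) - algebraMap K R (φ f), S.sub_mem f.2 (S.algebraMap_mem _)⟩ : S) =
        f - algebraMap K S (φ f) := rfl
    rw [this, map_sub, AlgHom.commutes]
    exact sub_self _
  have := hx (Ideal.mem_sup_right (Ideal.subset_span hfT))
  rw [RingHom.mem_ker, map_sub] at this
  change x (f : R) - x (algebraMap K R (φ f)) = 0 at this
  rw [AlgHom.commutes, sub_eq_zero] at this
  exact this

end Quotient

section InvariantIdeals

variable {K : Type u} [Field K] {A : Type v} [CommRing A] [Bialgebra K A]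
variable {R : Type w} [CommRing R] [Algebra K R] [HopfRep.Comod K A R]

/-- the Reynolds operator maps the extension `J R` of an ideal `J` of the invariant ring into `J` -/
theorem reynolds_mem_of_mem_map [IsSemisimpleModule (DualAlg K A) R]
    (hmul : ∀ f g : R, HopfRep.Comod.coact (k := K) (A := A) (f * g) =
      HopfRep.Comod.coact (k := K) (A := A) f * HopfRep.Comod.coact (k := K) (A := A) g)
    (S : Subalgebra K R) (hS : ∀ f, f ∈ S ↔ f ∈ HopfRep.fixedPts K A R)
    {E : R →ₗ[K] R} (hE : IsReynoldsK (A := A) E) (J : Ideal S)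
    {j : R} (hj : j ∈ Ideal.map S.val.toRingHom J) : ∃ b ∈ J, (b : R) = E j := by
  have hES : ∀ r, E r ∈ S := fun r => (hS _).2 (hE.apply_mem r)
  have key : ∀ j ∈ Ideal.map S.val.toRingHom J, ∀ r : R, ∃ b ∈ J, (b : R) = E (r * j) := by
    intro j hj
    induction hj using Submodule.span_induction with
    | mem t ht =>
      intro r
      obtain ⟨b, hb, rfl⟩ := ht
      refine ⟨⟨E r, hES r⟩ * b, J.mul_mem_left _ hb, ?_⟩
      change E r * (b : R) = E (r * (b : R))
      rw [reynolds_mul hmul hE r ((hS _).1 b.2)]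
    | zero => intro r; exact ⟨0, J.zero_mem, by rw [mul_zero, map_zero]; rfl⟩
    | add a b _ _ ha hb =>
      intro r
      obtain ⟨a', ha', ha''⟩ := ha r
      obtain ⟨b', hb', hb''⟩ := hb r
      refine ⟨a' + b', J.add_mem ha' hb', ?_⟩
      rw [mul_add, map_add, ← ha'', ← hb'']
      rfl
    | smul c a _ ha =>
      intro r
      rw [smul_eq_mul, ← mul_assoc]
      exact ha (r * c)
  have := key j hj 1
  rwa [one_mul] at this

/-- `(J R) ∩ R^G = J` for every ideal `J` of the invariant ring -/
theorem comap_map_eq [IsSemisimpleModule (DualAlg K A) R]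
    (hmul : ∀ f g : R, HopfRep.Comod.coact (k := K) (A := A) (f * g) =
      HopfRep.Comod.coact (k := K) (A := A) f * HopfRep.Comod.coact (k := K) (A := A) g)
    (S : Subalgebra K R) (hS : ∀ f, f ∈ S ↔ f ∈ HopfRep.fixedPts K A R) (J : Ideal S) :
    Ideal.comap S.val.toRingHom (Ideal.map S.val.toRingHom J) = J := by
  obtain ⟨E, hE⟩ := exists_isReynoldsK (K := K) (A := A) (V := R)
  apply le_antisymm
  · intro a ha
    rw [Ideal.mem_comap] at ha
    obtain ⟨b, hb, hb'⟩ := reynolds_mem_of_mem_map hmul S hS hE J ha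
    have hEa : E (a : R) = (a : R) := hE.apply_of_mem ((hS _).1 a.2)
    have : b = a := by
      apply Subtype.ext
      rw [hb']
      exact hEa
    rw [← this]
    exact hb
  · exact Ideal.le_comap_map

/-- the ring of invariants of a Noetherian comodule algebra is Noetherian -/
theorem isNoetherianRing_invariants [IsSemisimpleModule (DualAlg K A) R] [IsNoetherianRing R]
    (hmul : ∀ f g : R, HopfRep.Comod.coact (k := K) (A := A) (f * g) =
      HopfRep.Comod.coact (k := K) (A := A) f * HopfRep.Comod.coact (k := K) (A := A) g)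
    (S : Subalgebra K R) (hS : ∀ f, f ∈ S ↔ f ∈ HopfRep.fixedPts K A R) :
    IsNoetherianRing S := by
  rw [isNoetherianRing_iff, isNoetherian_iff']
  have hinj : Function.Injective (Ideal.map S.val.toRingHom : Ideal S → Ideal R) := by
    intro J₁ J₂ h
    rw [← comap_map_eq hmul S hS J₁, ← comap_map_eq hmul S hS J₂, h]
  have hmono : StrictMono (Ideal.map S.val.toRingHom : Ideal S → Ideal R) :=
    Monotone.strictMono_of_injective (fun _ _ h => Ideal.map_mono h) hinj
  have hwf : WellFoundedGT (Ideal R) := (isNoetherian_iff'.mp (isNoetherianRing_iff.mp inferInstance))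
  exact hmono.wellFoundedGT

end InvariantIdeals

section Modules

variable {K : Type u} [Field K] {A : Type v} [CommRing A] [Bialgebra K A]
variable {B : Type w} [CommRing B] [Algebra K B] [HopfRep.Comod K A B]
variable {M : Type w'} [AddCommGroup M] [Module K M] [Module B M] [IsScalarTower K B M]
  [HopfRep.Comod K A M] [TameAct.IsHopfMod K A B M]

/-- for an invariant `m`, the map `b ↦ b • m` is a comodule map -/
theorem isComodHom_toSpanSingleton {m : M} (hm : m ∈ HopfRep.fixedPts K A M) :
    Hoch.IsComodHom A ((LinearMap.toSpanSingleton B M m).restrictScalars K) := by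
  have hm' : HopfRep.Comod.coact (k := K) (A := A) m = m ⊗ₜ[K] (1 : A) := hm
  apply LinearMap.ext
  intro b
  simp only [LinearMap.comp_apply, LinearMap.restrictScalars_apply,
    LinearMap.toSpanSingleton_apply]
  rw [TameAct.IsHopfMod.coact_smul (k := K) (A := A), hm']
  generalize HopfRep.Comod.coact (k := K) (A := A) b = z
  induction z using TensorProduct.induction_on with
  | zero => simp
  | tmul r a => simp
  | add z₁ z₂ h₁ h₂ => rw [map_add, LinearMap.add_apply, map_add, h₁, h₂]

/-- **Reynolds identity for modules**: `E_M (b • m) = E_B b • m` for invariant `m`. -/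
theorem reynolds_smul [IsSemisimpleModule (DualAlg K A) B]
    {E : B →ₗ[K] B} (hE : IsReynoldsK (A := A) E) {E' : M →ₗ[K] M} (hE' : IsReynoldsK (A := A) E')
    (b : B) {m : M} (hm : m ∈ HopfRep.fixedPts K A M) : E' (b • m) = E b • m :=
  hE.natural hE' _ (isComodHom_toSpanSingleton hm) b

/-- **Finite generation of invariants of a module**: for `B` Noetherian and `M` a finite
`(B, A)`-Hopf module, `M^G` is generated over `B^G` by finitely many invariants. -/
theorem exists_finset_invariants_span [IsSemisimpleModule (DualAlg K A) B]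
    [IsSemisimpleModule (DualAlg K A) M] [IsNoetherianRing B] [Module.Finite B M] :
    ∃ s : Finset M, (↑s : Set M) ⊆ (HopfRep.fixedPts K A M : Set M) ∧
      ∀ m ∈ HopfRep.fixedPts K A M, ∃ c : M → B,
        (∀ y ∈ s, c y ∈ HopfRep.fixedPts K A B) ∧ m = ∑ y ∈ s, c y • y := by
  obtain ⟨E, hE⟩ := exists_isReynoldsK (K := K) (A := A) (V := B)
  obtain ⟨E', hE'⟩ := exists_isReynoldsK (K := K) (A := A) (V := M)
  have hN : IsNoetherian B M := isNoetherian_of_isNoetherianRing_of_finite B M
  have hfg : (Submodule.span B (HopfRep.fixedPts K A M : Set M)).FG := IsNoetherian.noetherian _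
  obtain ⟨s, hs, hspan⟩ := (Submodule.fg_span_iff_fg_span_finset_subset _).mp hfg
  refine ⟨s, hs, fun m hm => ?_⟩
  have hmem : m ∈ Submodule.span B (s : Set M) := by
    rw [← hspan]
    exact Submodule.subset_span hm
  obtain ⟨c, -, hc⟩ := Submodule.mem_span_finset.mp hmem
  refine ⟨fun y => E (c y), fun y _ => hE.apply_mem _, ?_⟩
  have h1 : E' m = m := hE'.apply_of_mem hm
  rw [← h1, ← hc, map_sum]
  refine Finset.sum_congr rfl fun y hy => ?_
  exact reynolds_smul hE hE' (c y) (hs hy)

end Modules

section Points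

variable {K : Type u} [Field K] {A : Type v} [CommRing A] [HopfAlgebra K A]
variable {R : Type w} [CommRing R] [Algebra K R] [HopfRep.Comod K A R] [GLin.IsCoactAlg K A R]

theorem actPt_apply (g : A →ₐ[K] K) (x : R →ₐ[K] K) (f : R) :
    GLin.actPt K g x f = x (HopfRep.Comod.act K A R g f) := by
  rw [apply_act_eq]
  rfl

/-- two rational points with the same kernel are equal -/
theorem algHom_eq_of_ker_le {x z : R →ₐ[K] K}
    (h : RingHom.ker (z : R →+* K) ≤ RingHom.ker (x : R →+* K)) : x = z := by
  apply AlgHom.ext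
  intro r
  have hmem : r - algebraMap K R (z r) ∈ RingHom.ker (z : R →+* K) := by
    rw [RingHom.mem_ker, map_sub]
    change z r - z (algebraMap K R (z r)) = 0
    rw [AlgHom.commutes]
    exact sub_self _
  have := h hmem
  rw [RingHom.mem_ker, map_sub] at this
  change x r - x (algebraMap K R (z r)) = 0 at this
  rw [AlgHom.commutes, sub_eq_zero] at this
  exact this

/-- the action of the group of rational points: `(x · g) · h = x · (g h)` -/
theorem actPt_actPt (g h : A →ₐ[K] K) (x : R →ₐ[K] K) :
    GLin.actPt K h (GLin.actPt K g x) =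
      GLin.actPt K (WithConv.toConv g * WithConv.toConv h).ofConv x := by
  apply AlgHom.ext
  intro f
  rw [actPt_apply, actPt_apply, actPt_apply]
  congr 1
  exact act_act g.toLinearMap h.toLinearMap f

theorem actPt_one (x : R →ₐ[K] K) :
    GLin.actPt K (1 : WithConv (A →ₐ[K] K)).ofConv x = x := by
  apply AlgHom.ext
  intro f
  rw [actPt_apply]
  congr 1
  exact act_counit f

/-- the orbits of the group of rational points are equivalence classes -/
theorem exists_actPt_of_actPt_eq {x x' : R →ₐ[K] K} {g g' : A →ₐ[K] K}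
    (h : GLin.actPt K g x = GLin.actPt K g' x') : ∃ a : A →ₐ[K] K, x' = GLin.actPt K a x := by
  refine ⟨(WithConv.toConv g * (WithConv.toConv g')⁻¹).ofConv, ?_⟩
  rw [← actPt_actPt, h, actPt_actPt, WithConv.toConv_ofConv, mul_inv_cancel, actPt_one]

/-- a rational point in the closure of a closed orbit lies in the orbit -/
theorem exists_actPt_eq_of_isClosedOrbit [IsAlgClosed K] [Algebra.FiniteType K A]
    {x z : R →ₐ[K] K} (hcl : GLin.IsClosedOrbit K A x)
    (hz : RingHom.ker (GLin.orbitHom K A x : R →+* A) ≤ RingHom.ker (z : R →+* K)) :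
    ∃ g : A →ₐ[K] K, z = GLin.actPt K g x := by
  have hzmax : (RingHom.ker (z : R →+* K)).IsMaximal :=
    RingHom.ker_isMaximal_of_surjective (z : R →+* K) (fun c => ⟨algebraMap K R c, by
      change z (algebraMap K R c) = c
      rw [AlgHom.commutes]; rfl⟩)
  let pz : PrimeSpectrum R := ⟨RingHom.ker (z : R →+* K), hzmax.isPrime⟩
  have hmem : pz ∈ closure (Set.range (PrimeSpectrum.comap (GLin.orbitHom K A x).toRingHom)) := by
    rw [PrimeSpectrum.closure_range_comap]
    exact hz
  rw [hcl.closure_eq] at hmem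
  obtain ⟨q, hq⟩ := hmem
  have hJ : Ideal.map (GLin.orbitHom K A x : R →+* A) (RingHom.ker (z : R →+* K)) ≠ ⊤ := by
    intro htop
    have hle : Ideal.map (GLin.orbitHom K A x : R →+* A) (RingHom.ker (z : R →+* K)) ≤ q.asIdeal := by
      rw [Ideal.map_le_iff_le_comap]
      have := congrArg PrimeSpectrum.asIdeal hq
      intro r hr
      have h2 : r ∈ (PrimeSpectrum.comap (GLin.orbitHom K A x).toRingHom q).asIdeal := by
        rw [this]; exact hr
      exact h2
    rw [htop, top_le_iff] at hle
    exact q.isPrime.ne_top hle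
  obtain ⟨g, hg⟩ := exists_point_of_ne_top (K := K) _ hJ
  refine ⟨g, (algHom_eq_of_ker_le ?_).symm⟩
  intro r hr
  rw [RingHom.mem_ker]
  change g (GLin.orbitHom K A x r) = 0
  have : (GLin.orbitHom K A x : R →+* A) r ∈ RingHom.ker (g : A →+* K) :=
    hg (Ideal.mem_map_of_mem _ hr)
  exact this

end Points

end Groth.Agent.Lib.Helper23.GITAffine
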