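import Groth.Agent.Lib.Helper23.StabDim
import Mathlib.RingTheory.ZariskisMainTheorem
import Mathlib.RingTheory.FiniteStability

/-!
# The locus of finite stabilisers is open, coaction form (helper23)

* `IsIsolatedOne x`: the identity is an isolated point of the stabiliser of `x` (rational-point form).
* `isIsolatedOne_iff_finite`: this holds iff the stabiliser has finitely many rational points.
* `isOpen_setOf_quasiFiniteAt`: the quasi-finite locus of a finite type algebra is open.
* `exists_set_forall_finite_stabilizer_iff`: **the set of rational points with finite stabiliser is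
  open**: there is a set `T ⊆ R` such that `x` has finite stabiliser iff some `t ∈ T` does not vanish
  at `x`.
-/

set_option autoImplicit false
universe u v w w'

open TensorProduct Groth.Agent.Lib.Helper75 Groth.Agent.Lib.Helper23.Reynolds
open Groth.Agent.Lib.Helper23.GITAffine Groth.Agent.Lib.Helper23.ClosedOrbit
open Groth.Agent.Lib.Helper23.OrbitDim Groth.Agent.Lib.Helper23.StabDim

namespace Groth.Agent.Lib.Helper23.StabOpen

section QF

/-- the quasi-finite locus of a finite type algebra is open -/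
theorem isOpen_setOf_quasiFiniteAt {B : Type*} {S : Type*} [CommRing B] [CommRing S] [Algebra B S]
    [Algebra.FiniteType B S] :
    IsOpen {Q : PrimeSpectrum S | Algebra.QuasiFiniteAt B Q.asIdeal} := by
  rw [isOpen_iff_forall_mem_open]
  intro Q hQ
  have hQ' : Algebra.QuasiFiniteAt B Q.asIdeal := hQ
  have hZ : Algebra.ZariskisMainProperty B Q.asIdeal := .of_finiteType Q.asIdeal
  rw [Algebra.zariskisMainProperty_iff'] at hZ
  obtain ⟨r, hr, H⟩ := hZ
  refine ⟨PrimeSpectrum.basicOpen r, ?_, (PrimeSpectrum.basicOpen r).isOpen, hr⟩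
  intro Q' hQ'r
  have hZ' : Algebra.ZariskisMainProperty B Q'.asIdeal :=
    Algebra.zariskisMainProperty_iff'.mpr ⟨r, hQ'r, H⟩
  exact hZ'.quasiFiniteAt

end QF

section Isolated

variable {K : Type u} [Field K] [IsAlgClosed K] {A : Type v} [CommRing A] [HopfAlgebra K A]
  [Algebra.FiniteType K A]
variable {R : Type w} [CommRing R] [Algebra K R] [HopfRep.Comod K A R] [GLin.IsCoactAlg K A R]

/-- the identity is an isolated point of the stabiliser of `x` -/
def IsIsolatedOne (x : R →ₐ[K] K) : Prop :=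
  ∃ a : A, (1 : WithConv (A →ₐ[K] K)).ofConv a ≠ 0 ∧
    ∀ g : A →ₐ[K] K, GLin.actPt K g x = x → g a ≠ 0 → g = (1 : WithConv (A →ₐ[K] K)).ofConv

omit [IsAlgClosed K] [Algebra.FiniteType K A] in
theorem isIsolatedOne_of_finite (x : R →ₐ[K] K)
    (hfin : {g : A →ₐ[K] K | GLin.actPt K g x = x}.Finite) : IsIsolatedOne (A := A) x := by
  classical
  set e : A →ₐ[K] K := (1 : WithConv (A →ₐ[K] K)).ofConv with he
  have key : ∀ g : A →ₐ[K] K, g ≠ e → ∃ a : A, g a = 0 ∧ e a ≠ 0 := by
    intro g hg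
    by_contra hcon
    push Not at hcon
    apply hg
    refine (algHom_eq_of_ker_le (x := e) (z := g) ?_).symm
    intro a ha
    rw [RingHom.mem_ker] at ha ⊢
    exact hcon a ha
  choose! c hc1 hc2 using key
  refine ⟨∏ g ∈ hfin.toFinset.erase e, c g, ?_, ?_⟩
  · rw [map_prod]
    apply Finset.prod_ne_zero_iff.mpr
    intro g hg
    exact hc2 g (Finset.ne_of_mem_erase hg)
  · intro g hg hga
    by_contra hne
    apply hga
    rw [map_prod]
    apply Finset.prod_eq_zero (i := g)
    · rw [Finset.mem_erase]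
      exact ⟨hne, hfin.mem_toFinset.mpr hg⟩
    · exact hc1 g hne

omit [IsAlgClosed K] [Algebra.FiniteType K A] in
theorem apply_hitR_inv (g h : A →ₐ[K] K) (a : A) :
    g (hitR ((WithConv.toConv h)⁻¹).ofConv.toLinearMap a) =
      (WithConv.toConv g * (WithConv.toConv h)⁻¹).ofConv a := by
  have := LinearMap.congr_fun
    (comp_hitR g.toLinearMap ((WithConv.toConv h)⁻¹).ofConv.toLinearMap) a
  exact this

theorem finite_of_isIsolatedOne (x : R →ₐ[K] K) (h : IsIsolatedOne (A := A) x) :
    {g : A →ₐ[K] K | GLin.actPt K g x = x}.Finite := by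
  classical
  obtain ⟨a, ha, Ha⟩ := h
  set e : A →ₐ[K] K := (1 : WithConv (A →ₐ[K] K)).ofConv with he
  let Stab : Set (A →ₐ[K] K) := {g | GLin.actPt K g x = x}
  -- the stabiliser is a subgroup
  have hmulinv : ∀ g h : A →ₐ[K] K, g ∈ Stab → h ∈ Stab →
      (WithConv.toConv g * (WithConv.toConv h)⁻¹).ofConv ∈ Stab := by
    intro g h hg hh
    have hg' : GLin.actPt K g x = x := hg
    have hh' : GLin.actPt K h x = x := hh
    change GLin.actPt K (WithConv.toConv g * (WithConv.toConv h)⁻¹).ofConv x = x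
    have h1 := actPt_actPt g ((WithConv.toConv h)⁻¹).ofConv x
    rw [WithConv.toConv_ofConv] at h1
    rw [← h1, hg']
    conv_lhs => rw [← hh']
    exact actPt_inv_actPt h x
  let b : (A →ₐ[K] K) → A := fun h => hitR ((WithConv.toConv h)⁻¹).ofConv.toLinearMap a
  have hb : ∀ g h : A →ₐ[K] K, g (b h) = (WithConv.toConv g * (WithConv.toConv h)⁻¹).ofConv a :=
    fun g h => apply_hitR_inv g h a
  let I : Ideal A := GLin.stabIdeal K A x
  have hmem_iff : ∀ g : A →ₐ[K] K, I ≤ RingHom.ker (g : A →+* K) ↔ g ∈ Stab := by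
    intro g
    constructor
    · intro hI
      change GLin.actPt K g x = x
      apply algHom_eq_of_ker_le
      intro r hr
      rw [RingHom.mem_ker]
      change g (GLin.orbitHom K A x r) = 0
      have : (GLin.orbitHom K A x : R →+* A) r ∈ I := Ideal.mem_map_of_mem _ hr
      exact hI this
    · intro hg
      have hg' : GLin.actPt K g x = x := hg
      change Ideal.map (GLin.orbitHom K A x) (RingHom.ker x) ≤ _
      rw [Ideal.map_le_iff_le_comap]
      intro r hr
      rw [Ideal.mem_comap, RingHom.mem_ker]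
      change GLin.actPt K g x r = 0
      rw [hg']
      exact hr
  have hcomp : IsCompact (PrimeSpectrum.zeroLocus (I : Set A)) :=
    (PrimeSpectrum.isClosed_zeroLocus _).isCompact
  -- cover by basic opens
  have hcover : PrimeSpectrum.zeroLocus (I : Set A) ⊆
      ⋃ h : Stab, (PrimeSpectrum.basicOpen (b h.1) : Set (PrimeSpectrum A)) := by
    intro q hq
    obtain ⟨m, hm, hqm⟩ := Ideal.exists_le_maximal q.asIdeal q.isPrime.ne_top
    obtain ⟨g', hg'0⟩ := exists_point_of_isMaximal (K := K) m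
    have hg' : RingHom.ker (g' : A →+* K) = m := hg'0
    have hg'S : g' ∈ Stab := (hmem_iff g').mp (by
      rw [hg']
      exact fun i hi => hqm (hq hi))
    rw [Set.mem_iUnion]
    refine ⟨⟨g', hg'S⟩, ?_⟩
    change b g' ∉ q.asIdeal
    intro hbq
    have : b g' ∈ RingHom.ker (g' : A →+* K) := by
      rw [hg']
      exact hqm hbq
    rw [RingHom.mem_ker] at this
    change g' (b g') = 0 at this
    rw [hb, mul_inv_cancel] at this
    exact ha this
  obtain ⟨t, ht⟩ := hcomp.elim_finite_subcover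
    (fun h : Stab => (PrimeSpectrum.basicOpen (b h.1) : Set (PrimeSpectrum A)))
    (fun h => (PrimeSpectrum.basicOpen (b h.1)).isOpen) hcover
  refine (t.image Subtype.val).finite_toSet.subset ?_
  intro g hg
  have hgS : g ∈ Stab := hg
  have hgV : (⟨RingHom.ker (g : A →+* K), RingHom.ker_isPrime _⟩ : PrimeSpectrum A) ∈
      PrimeSpectrum.zeroLocus (I : Set A) := (hmem_iff g).mpr hgS
  have := ht hgV
  simp only [Set.mem_iUnion] at this
  obtain ⟨h, hht, hgh⟩ := this
  have hgh' : g (b h.1) ≠ 0 := hgh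
  rw [hb] at hgh'
  have h1 := Ha _ (hmulinv g h.1 hgS h.2) hgh'
  have h2 : WithConv.toConv g * (WithConv.toConv h.1)⁻¹ = 1 := by
    have := congrArg WithConv.toConv h1
    simpa using this
  have h3 : WithConv.toConv g = WithConv.toConv h.1 := mul_inv_eq_one.mp h2
  have h4 : g = h.1 := WithConv.toConv_injective h3
  rw [h4]
  simp only [Finset.coe_image, Set.mem_image, Finset.mem_coe]
  exact ⟨h, hht, rfl⟩

theorem isIsolatedOne_iff_finite (x : R →ₐ[K] K) :
    IsIsolatedOne (A := A) x ↔ {g : A →ₐ[K] K | GLin.actPt K g x = x}.Finite :=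
  ⟨finite_of_isIsolatedOne x, isIsolatedOne_of_finite x⟩

end Isolated

section Family

variable {K : Type u} [Field K] {A : Type u} [CommRing A] [HopfAlgebra K A]
variable {R : Type u} [CommRing R] [Algebra K R] [HopfRep.Comod K A R] [GLin.IsCoactAlg K A R]

variable (K A R) in
/-- the map `X × G → X × X`, `(x, g) ↦ (x, g x)` on coordinate rings -/
noncomputable def graphHom : R ⊗[K] R →ₐ[K] R ⊗[K] A :=
  Algebra.TensorProduct.productMap Algebra.TensorProduct.includeLeft (GLin.coactAlgHom K A R)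

variable (K A R) in
/-- the identity section `X → X × G` on coordinate rings -/
noncomputable def sectHom : R ⊗[K] A →ₐ[K] R :=
  Algebra.TensorProduct.productMap (AlgHom.id K R)
    ((Algebra.ofId K R).comp (Bialgebra.counitAlgHom K A))

/-- the rational point `(x, g)` of `X × G` -/
noncomputable def pt (x : R →ₐ[K] K) (g : A →ₐ[K] K) : R ⊗[K] A →ₐ[K] K :=
  Algebra.TensorProduct.productMap x g

theorem pt_apply_coact (x : R →ₐ[K] K) (g : A →ₐ[K] K) (r : R) :
    pt x g (HopfRep.Comod.coact (k := K) (A := A) r) = GLin.actPt K g x r := by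
  change _ = g (GLin.orbitHom K A x r)
  simp only [GLin.orbitHom, AlgHom.coe_comp, Function.comp_apply, GLin.coactAlgHom_apply]
  generalize HopfRep.Comod.coact (k := K) (A := A) r = t
  induction t using TensorProduct.induction_on with
  | zero => simp
  | tmul r a => simp [pt, Algebra.smul_def]
  | add t₁ t₂ h₁ h₂ => simp only [map_add, h₁, h₂]

theorem graphHom_tmul_one (r : R) : graphHom K A R (r ⊗ₜ[K] 1) = r ⊗ₜ[K] 1 := by
  simp only [graphHom, Algebra.TensorProduct.productMap_apply_tmul, map_one, mul_one,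
    Algebra.TensorProduct.includeLeft_apply]

theorem graphHom_one_tmul (r : R) :
    graphHom K A R (1 ⊗ₜ[K] r) = HopfRep.Comod.coact (k := K) (A := A) r := by
  simp only [graphHom, Algebra.TensorProduct.productMap_apply_tmul, map_one, one_mul,
    GLin.coactAlgHom_apply]

theorem pt_comp_graphHom (x : R →ₐ[K] K) (g : A →ₐ[K] K) :
    (pt x g).comp (graphHom K A R) = Algebra.TensorProduct.productMap x (GLin.actPt K g x) := by
  apply Algebra.TensorProduct.ext
  · apply AlgHom.ext
    intro r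
    change pt x g (graphHom K A R (r ⊗ₜ[K] 1)) =
      Algebra.TensorProduct.productMap x (GLin.actPt K g x) (r ⊗ₜ[K] 1)
    rw [graphHom_tmul_one]
    simp [pt]
  · apply AlgHom.ext
    intro r
    change pt x g (graphHom K A R (1 ⊗ₜ[K] r)) =
      Algebra.TensorProduct.productMap x (GLin.actPt K g x) (1 ⊗ₜ[K] r)
    rw [graphHom_one_tmul, pt_apply_coact]
    simp

omit [HopfRep.Comod K A R] [GLin.IsCoactAlg K A R] in
theorem pt_one_eq (x : R →ₐ[K] K) :
    pt x (1 : WithConv (A →ₐ[K] K)).ofConv = x.comp (sectHom K A R) := by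
  apply Algebra.TensorProduct.ext
  · apply AlgHom.ext
    intro r
    simp [sectHom, pt]
  · apply AlgHom.ext
    intro a
    simp [sectHom, pt]

omit [HopfRep.Comod K A R] [GLin.IsCoactAlg K A R] in
theorem eq_pt (μ : R ⊗[K] A →ₐ[K] K) :
    μ = pt (μ.comp Algebra.TensorProduct.includeLeft) (μ.comp Algebra.TensorProduct.includeRight) := by
  apply Algebra.TensorProduct.ext
  · apply AlgHom.ext
    intro r
    simp [pt]
  · apply AlgHom.ext
    intro a
    simp [pt, ← Algebra.TensorProduct.one_def]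

end Family

section Main

variable {K : Type u} [Field K] [IsAlgClosed K] {A : Type u} [CommRing A] [HopfAlgebra K A]
  [Algebra.FiniteType K A]
variable {R : Type u} [CommRing R] [Algebra K R] [Algebra.FiniteType K R] [HopfRep.Comod K A R]
  [GLin.IsCoactAlg K A R]

/-- the algebra structure of `R ⊗ A` over `R ⊗ R` through the graph map -/
@[reducible] noncomputable def graphAlgebra : Algebra (R ⊗[K] R) (R ⊗[K] A) :=
  (graphHom K A R).toRingHom.toAlgebra

attribute [local instance] graphAlgebra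

omit [IsAlgClosed K] [Algebra.FiniteType K A] [Algebra.FiniteType K R] in
theorem isScalarTower_graph : IsScalarTower K (R ⊗[K] R) (R ⊗[K] A) :=
  IsScalarTower.of_algebraMap_eq' (graphHom K A R).comp_algebraMap.symm

omit [IsAlgClosed K] [HopfRep.Comod K A R] [GLin.IsCoactAlg K A R] in
theorem finiteType_tensor : Algebra.FiniteType K (R ⊗[K] A) :=
  Algebra.FiniteType.trans (inferInstance : Algebra.FiniteType K R) inferInstance

omit [IsAlgClosed K] in
theorem finiteType_graph : Algebra.FiniteType (R ⊗[K] R) (R ⊗[K] A) := by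
  have h1 := isScalarTower_graph (K := K) (A := A) (R := R)
  have h2 := finiteType_tensor (K := K) (A := A) (R := R)
  exact Algebra.FiniteType.of_restrictScalars_finiteType K (R ⊗[K] R) (R ⊗[K] A)

/-- the point `(x, e)` of `X × G` as a prime -/
noncomputable def primeOne (x : R →ₐ[K] K) : PrimeSpectrum (R ⊗[K] A) :=
  ⟨RingHom.ker (pt x (1 : WithConv (A →ₐ[K] K)).ofConv : R ⊗[K] A →+* K), RingHom.ker_isPrime _⟩

omit [IsAlgClosed K] [Algebra.FiniteType K A] [Algebra.FiniteType K R] in
/-- the points `(x, g)`, `g` in the stabiliser, lie in the fibre through `(x, e)` -/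
theorem comap_pt_eq (x : R →ₐ[K] K) (g : A →ₐ[K] K) (hg : GLin.actPt K g x = x) :
    (RingHom.ker (pt x g : R ⊗[K] A →+* K)).comap (algebraMap (R ⊗[K] R) (R ⊗[K] A)) =
      (primeOne (A := A) x).asIdeal.comap (algebraMap (R ⊗[K] R) (R ⊗[K] A)) := by
  have h1 : ∀ g : A →ₐ[K] K, GLin.actPt K g x = x →
      (RingHom.ker (pt x g : R ⊗[K] A →+* K)).comap (algebraMap (R ⊗[K] R) (R ⊗[K] A)) =
        RingHom.ker (Algebra.TensorProduct.productMap x x : R ⊗[K] R →+* K) := by
    intro g hg
    ext b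
    rw [Ideal.mem_comap, RingHom.mem_ker, RingHom.mem_ker]
    change (pt x g).comp (graphHom K A R) b = 0 ↔ _
    rw [pt_comp_graphHom, hg]
    rfl
  rw [h1 g hg]
  exact (h1 _ (actPt_one x)).symm

omit [IsAlgClosed K] [Algebra.FiniteType K A] [Algebra.FiniteType K R] [HopfRep.Comod K A R]
  [GLin.IsCoactAlg K A R] in
theorem pt_injective_right (x : R →ₐ[K] K) {g g' : A →ₐ[K] K} (h : pt x g = pt x g') : g = g' := by
  have := congrArg (fun μ : R ⊗[K] A →ₐ[K] K => μ.comp Algebra.TensorProduct.includeRight) h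
  simpa [pt] using this

omit [IsAlgClosed K] in
/-- quasi-finiteness of the graph map at `(x, e)` implies that `e` is isolated in the stabiliser -/
theorem isIsolatedOne_of_quasiFiniteAt (x : R →ₐ[K] K)
    (h : Algebra.QuasiFiniteAt (R ⊗[K] R) (primeOne (A := A) x).asIdeal) :
    IsIsolatedOne (A := A) x := by
  have hft := finiteType_graph (K := K) (A := A) (R := R)
  have hopen := (Algebra.quasiFiniteAt_iff_isOpen_singleton_fiber (R := R ⊗[K] R)
    (primeOne (A := A) x)).mp h
  rw [isOpen_induced_iff] at hopen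
  obtain ⟨O, hO, hOeq⟩ := hopen
  have hqO : primeOne (A := A) x ∈ O := by
    have : (⟨primeOne (A := A) x, rfl⟩ : {Q // Q ∈ PrimeSpectrum.comap (algebraMap (R ⊗[K] R)
        (R ⊗[K] A)) ⁻¹' {(primeOne (A := A) x).comap (algebraMap (R ⊗[K] R) (R ⊗[K] A))}}) ∈
        Subtype.val ⁻¹' O := by
      rw [hOeq]
      rfl
    exact this
  obtain ⟨_, ⟨s, rfl⟩, hqs, hsO⟩ :=
    PrimeSpectrum.isTopologicalBasis_basic_opens.exists_subset_of_mem_open hqO hO
  -- the restriction of `s` to `{x} × G`
  let j : R ⊗[K] A →ₐ[K] A :=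
    Algebra.TensorProduct.productMap ((Algebra.ofId K A).comp x) (AlgHom.id K A)
  have hj : ∀ g : A →ₐ[K] K, pt x g = g.comp j := by
    intro g
    apply Algebra.TensorProduct.ext
    · apply AlgHom.ext
      intro r
      simp [pt, j]
    · apply AlgHom.ext
      intro a
      simp [pt, j]
  refine ⟨j s, ?_, ?_⟩
  · have : pt x (1 : WithConv (A →ₐ[K] K)).ofConv s ≠ 0 := hqs
    rw [hj] at this
    exact this
  · intro g hg hga
    have hQs : (⟨RingHom.ker (pt x g : R ⊗[K] A →+* K), RingHom.ker_isPrime _⟩ :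
        PrimeSpectrum (R ⊗[K] A)) ∈ (PrimeSpectrum.basicOpen s : Set _) := by
      change pt x g s ≠ 0
      rw [hj]
      exact hga
    have hQfib : (⟨RingHom.ker (pt x g : R ⊗[K] A →+* K), RingHom.ker_isPrime _⟩ :
        PrimeSpectrum (R ⊗[K] A)) ∈ PrimeSpectrum.comap (algebraMap (R ⊗[K] R) (R ⊗[K] A)) ⁻¹'
          {(primeOne (A := A) x).comap (algebraMap (R ⊗[K] R) (R ⊗[K] A))} := by
      rw [Set.mem_preimage, Set.mem_singleton_iff]
      apply PrimeSpectrum.ext
      exact comap_pt_eq x g hg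
    have hmem : (⟨_, hQfib⟩ : {Q // Q ∈ PrimeSpectrum.comap (algebraMap (R ⊗[K] R)
        (R ⊗[K] A)) ⁻¹' {(primeOne (A := A) x).comap (algebraMap (R ⊗[K] R) (R ⊗[K] A))}}) ∈
        Subtype.val ⁻¹' O := hsO hQs
    rw [hOeq, Set.mem_singleton_iff] at hmem
    have hker : RingHom.ker (pt x g : R ⊗[K] A →+* K) =
        RingHom.ker (pt x (1 : WithConv (A →ₐ[K] K)).ofConv : R ⊗[K] A →+* K) :=
      congrArg (fun Q => (Q.1 : PrimeSpectrum (R ⊗[K] A)).asIdeal) hmem
    exact pt_injective_right x (algHom_eq_of_ker_le hker.ge)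

/-- if `e` is isolated in the stabiliser of `x`, the graph map is quasi-finite at `(x, e)` -/
theorem quasiFiniteAt_of_isIsolatedOne (x : R →ₐ[K] K) (h : IsIsolatedOne (A := A) x) :
    Algebra.QuasiFiniteAt (R ⊗[K] R) (primeOne (A := A) x).asIdeal := by
  have hft := finiteType_graph (K := K) (A := A) (R := R)
  have hftS := finiteType_tensor (K := K) (A := A) (R := R)
  have hJS : IsJacobsonRing (R ⊗[K] A) := isJacobsonRing_of_finiteType (A := K) (B := R ⊗[K] A)
  obtain ⟨a, ha, Ha⟩ := h
  apply Algebra.QuasiFiniteAt.of_isOpen_singleton_fiber (R := R ⊗[K] R) (primeOne (A := A) x)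
  rw [isOpen_induced_iff]
  refine ⟨(PrimeSpectrum.basicOpen ((1 : R) ⊗ₜ[K] a) : Set _),
    (PrimeSpectrum.basicOpen ((1 : R) ⊗ₜ[K] a)).isOpen, ?_⟩
  set q := primeOne (A := A) x with hq
  set Fib := PrimeSpectrum.comap (algebraMap (R ⊗[K] R) (R ⊗[K] A)) ⁻¹'
    {q.comap (algebraMap (R ⊗[K] R) (R ⊗[K] A))} with hFib
  have hqmax : q.asIdeal.IsMaximal :=
    RingHom.ker_isMaximal_of_surjective _ (fun c => ⟨algebraMap K _ c, by
      change pt x _ (algebraMap K _ c) = c
      rw [AlgHom.commutes]; rfl⟩)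
  have hmmax : (q.comap (algebraMap (R ⊗[K] R) (R ⊗[K] A))).asIdeal.IsMaximal := by
    have h1 : (q.comap (algebraMap (R ⊗[K] R) (R ⊗[K] A))).asIdeal =
        RingHom.ker ((pt x (1 : WithConv (A →ₐ[K] K)).ofConv).comp (graphHom K A R) :
          R ⊗[K] R →+* K) := by
      ext b
      rfl
    rw [h1]
    exact RingHom.ker_isMaximal_of_surjective _ (fun c => ⟨algebraMap K _ c, by
      change ((pt x _).comp (graphHom K A R)) (algebraMap K _ c) = c
      rw [AlgHom.commutes]; rfl⟩)
  have hFibcl : IsClosed Fib :=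
    ((PrimeSpectrum.isClosed_singleton_iff_isMaximal _).mpr hmmax).preimage
      (PrimeSpectrum.continuous_comap (algebraMap (R ⊗[K] R) (R ⊗[K] A)))
  have hqcl : IsClosed ({q} : Set (PrimeSpectrum (R ⊗[K] A))) :=
    (PrimeSpectrum.isClosed_singleton_iff_isMaximal _).mpr hqmax
  ext Q
  constructor
  · intro hQ
    -- `Q ∈ D(1 ⊗ a) ∩ Fib`; show `Q = q`
    by_contra hne
    have hQ' : Q.1 ∈ (PrimeSpectrum.basicOpen ((1 : R) ⊗ₜ[K] a) : Set _) := hQ
    have hQne : Q.1 ≠ q := fun h => hne (by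
      rw [Set.mem_singleton_iff]
      exact Subtype.ext h)
    have hlc : IsLocallyClosed ((PrimeSpectrum.basicOpen ((1 : R) ⊗ₜ[K] a) : Set _) ∩ Fib ∩ {q}ᶜ) :=
      ((PrimeSpectrum.basicOpen ((1 : R) ⊗ₜ[K] a)).isOpen.isLocallyClosed.inter
        hFibcl.isLocallyClosed).inter hqcl.isOpen_compl.isLocallyClosed
    have hne' : ((PrimeSpectrum.basicOpen ((1 : R) ⊗ₜ[K] a) : Set _) ∩ Fib ∩ {q}ᶜ).Nonempty :=
      ⟨Q.1, ⟨hQ', Q.2⟩, hQne⟩
    obtain ⟨M, ⟨⟨hM1, hM2⟩, hM3⟩, hMcl⟩ := nonempty_inter_closedPoints hne' hlc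
    have hMmax : M.asIdeal.IsMaximal := (PrimeSpectrum.isClosed_singleton_iff_isMaximal M).mp hMcl
    obtain ⟨μ, hμ0⟩ := exists_point_of_isMaximal (K := K) M.asIdeal
    have hμ : RingHom.ker (μ : R ⊗[K] A →+* K) = M.asIdeal := hμ0
    -- `μ ∘ graph = x ⊗ x`
    have hM2' : M.comap (algebraMap (R ⊗[K] R) (R ⊗[K] A)) =
        q.comap (algebraMap (R ⊗[K] R) (R ⊗[K] A)) := hM2
    have hcomp : μ.comp (graphHom K A R) =
        (pt x (1 : WithConv (A →ₐ[K] K)).ofConv).comp (graphHom K A R) := by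
      apply algHom_eq_of_ker_le
      intro b hb
      rw [RingHom.mem_ker] at hb ⊢
      have hb' : b ∈ (q.comap (algebraMap (R ⊗[K] R) (R ⊗[K] A))).asIdeal := hb
      rw [← hM2'] at hb'
      have hb'' : graphHom K A R b ∈ M.asIdeal := hb'
      rw [← hμ] at hb''
      exact hb''
    rw [pt_comp_graphHom, actPt_one] at hcomp
    set x' := μ.comp Algebra.TensorProduct.includeLeft with hx'
    set g' := μ.comp Algebra.TensorProduct.includeRight with hg'
    have hμpt : μ = pt x' g' := eq_pt μ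
    have hxx' : x' = x := by
      apply AlgHom.ext
      intro r
      have := congrArg (fun ν : R ⊗[K] R →ₐ[K] K => ν (r ⊗ₜ[K] 1)) hcomp
      simp only [AlgHom.coe_comp, Function.comp_apply, graphHom_tmul_one,
        Algebra.TensorProduct.productMap_apply_tmul, map_one, mul_one] at this
      exact this
    have hg'stab : GLin.actPt K g' x = x := by
      apply AlgHom.ext
      intro r
      have := congrArg (fun ν : R ⊗[K] R →ₐ[K] K => ν (1 ⊗ₜ[K] r)) hcomp
      simp only [AlgHom.coe_comp, Function.comp_apply, graphHom_one_tmul,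
        Algebra.TensorProduct.productMap_apply_tmul, map_one, one_mul] at this
      rw [← this, hμpt, pt_apply_coact, hxx']
    have hg'a : g' a ≠ 0 := by
      have : ((1 : R) ⊗ₜ[K] a) ∉ M.asIdeal := hM1
      rw [← hμ, RingHom.mem_ker] at this
      exact this
    have hg'e := Ha g' hg'stab hg'a
    apply hM3
    rw [Set.mem_singleton_iff]
    apply PrimeSpectrum.ext
    rw [← hμ, hμpt, hxx', hg'e]
    rfl
  · intro hQ
    rw [Set.mem_singleton_iff] at hQ
    rw [hQ]
    change pt x (1 : WithConv (A →ₐ[K] K)).ofConv ((1 : R) ⊗ₜ[K] a) ≠ 0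
    simpa [pt] using ha

theorem quasiFiniteAt_iff_finite (x : R →ₐ[K] K) :
    Algebra.QuasiFiniteAt (R ⊗[K] R) (primeOne (A := A) x).asIdeal ↔
      {g : A →ₐ[K] K | GLin.actPt K g x = x}.Finite := by
  rw [← isIsolatedOne_iff_finite]
  exact ⟨isIsolatedOne_of_quasiFiniteAt x, quasiFiniteAt_of_isIsolatedOne x⟩

omit [IsAlgClosed K] [Algebra.FiniteType K A] [Algebra.FiniteType K R] [HopfRep.Comod K A R]
  [GLin.IsCoactAlg K A R] in
theorem comap_sectHom (x : R →ₐ[K] K) :
    PrimeSpectrum.comap (sectHom K A R : R ⊗[K] A →+* R)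
      ⟨RingHom.ker (x : R →+* K), RingHom.ker_isPrime _⟩ = primeOne (A := A) x := by
  apply PrimeSpectrum.ext
  change Ideal.comap _ (RingHom.ker (x : R →+* K)) =
    RingHom.ker ((pt x (1 : WithConv (A →ₐ[K] K)).ofConv : R ⊗[K] A →ₐ[K] K) : R ⊗[K] A →+* K)
  rw [pt_one_eq]
  rfl

/-- **The set of rational points with finite stabiliser is open.** -/
theorem exists_set_forall_finite_stabilizer_iff :
    ∃ T : Set R, ∀ x : R →ₐ[K] K,
      {g : A →ₐ[K] K | GLin.actPt K g x = x}.Finite ↔ ∃ t ∈ T, x t ≠ 0 := by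
  have hft := finiteType_graph (K := K) (A := A) (R := R)
  have hW : IsOpen {Q : PrimeSpectrum (R ⊗[K] A) | Algebra.QuasiFiniteAt (R ⊗[K] R) Q.asIdeal} :=
    isOpen_setOf_quasiFiniteAt
  have hV := hW.preimage (PrimeSpectrum.continuous_comap (sectHom K A R : R ⊗[K] A →+* R))
  set V := PrimeSpectrum.comap (sectHom K A R : R ⊗[K] A →+* R) ⁻¹'
    {Q : PrimeSpectrum (R ⊗[K] A) | Algebra.QuasiFiniteAt (R ⊗[K] R) Q.asIdeal} with hVdef
  have hmemV : ∀ x : R →ₐ[K] K,
      (⟨RingHom.ker (x : R →+* K), RingHom.ker_isPrime _⟩ : PrimeSpectrum R) ∈ V ↔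
        {g : A →ₐ[K] K | GLin.actPt K g x = x}.Finite := by
    intro x
    rw [← quasiFiniteAt_iff_finite, hVdef, Set.mem_preimage, comap_sectHom]
    rfl
  refine ⟨{t | (PrimeSpectrum.basicOpen t : Set (PrimeSpectrum R)) ⊆ V}, fun x => ?_⟩
  rw [← hmemV]
  constructor
  · intro hx
    obtain ⟨_, ⟨t, rfl⟩, hxt, htV⟩ :=
      PrimeSpectrum.isTopologicalBasis_basic_opens.exists_subset_of_mem_open hx hV
    exact ⟨t, htV, hxt⟩
  · rintro ⟨t, htV, hxt⟩
    exact htV hxt

end Main

section StableLocus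

attribute [local instance] comodModule

variable {K : Type u} [Field K] [IsAlgClosed K] {A : Type u} [CommRing A] [HopfAlgebra K A]
  [Algebra.FiniteType K A]
variable {R : Type u} [CommRing R] [Algebra K R] [Algebra.FiniteType K R] [HopfRep.Comod K A R]
  [GLin.IsCoactAlg K A R]

/-- if all points of the fibre of the quotient map through `x` have finite stabiliser, then `x` is
stable -/
theorem stable_of_forall_fibre_finite (x : R →ₐ[K] K)
    (h : ∀ z : R →ₐ[K] K, (∀ f ∈ HopfRep.fixedPts K A R, z f = x f) →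
      {g : A →ₐ[K] K | GLin.actPt K g z = z}.Finite) :
    (∀ z : R →ₐ[K] K,
      RingHom.ker (GLin.orbitHom K A x : R →+* A) ≤ RingHom.ker (z : R →+* K) →
        ∃ g : A →ₐ[K] K, z = GLin.actPt K g x) ∧
      {g : A →ₐ[K] K | GLin.actPt K g x = x}.Finite := by
  refine ⟨fun z hle => ?_, h x (fun _ _ => rfl)⟩
  have hinv : ∀ f ∈ HopfRep.fixedPts K A R, z f = x f := fun f hf =>
    apply_eq_of_common_point (A := A) z x z (ker_orbitHom_le_ker z) hle hf
  exact exists_actPt_of_finite_stabilizer z x (h z hinv) hle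

omit [IsAlgClosed K] [Algebra.FiniteType K A] [Algebra.FiniteType K R] [GLin.IsCoactAlg K A R] in
/-- an intersection of stable ideals is stable -/
theorem isSubcomod_iInf {ι : Type*} (I : ι → Ideal R)
    (hI : ∀ i, HopfRep.IsSubcomod (k := K) (A := A) ((I i).restrictScalars K)) :
    HopfRep.IsSubcomod (k := K) (A := A) ((⨅ i, I i).restrictScalars K) := by
  rw [isSubcomod_iff]
  intro f w hw
  rw [Submodule.restrictScalars_mem, Ideal.mem_iInf] at hw ⊢
  intro i
  exact (isSubcomod_iff _).mp (hI i) f w (hw i)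

/-- **The stable locus is cut out by invariants**: there is a set `S` of invariants such that `x` is
stable (closed orbit, finite stabiliser) iff some member of `S` does not vanish at `x`. -/
theorem exists_set_forall_stable_iff [IsSemisimpleModule (DualAlg K A) R] :
    ∃ S : Set R, S ⊆ (HopfRep.fixedPts K A R : Set R) ∧ ∀ x : R →ₐ[K] K,
      ((∀ z : R →ₐ[K] K,
          RingHom.ker (GLin.orbitHom K A x : R →+* A) ≤ RingHom.ker (z : R →+* K) →
            ∃ g : A →ₐ[K] K, z = GLin.actPt K g x) ∧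
        {g : A →ₐ[K] K | GLin.actPt K g x = x}.Finite) ↔ ∃ f ∈ S, x f ≠ 0 := by
  obtain ⟨T, hT⟩ := exists_set_forall_finite_stabilizer_iff (K := K) (A := A) (R := R)
  have hNA : IsNoetherianRing A := Algebra.FiniteType.isNoetherianRing K A
  obtain ⟨m, hm⟩ := IsNoetherianRing.isNilpotent_nilradical A
  -- the points with infinite stabiliser
  let Zinf : Set (R →ₐ[K] K) := {z | ∀ t ∈ T, z t = 0}
  have hZstab : ∀ z ∈ Zinf, ∀ g : A →ₐ[K] K, GLin.actPt K g z ∈ Zinf := by
    intro z hz g
    by_contra hcon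
    have hfin : {h : A →ₐ[K] K | GLin.actPt K h (GLin.actPt K g z) = GLin.actPt K g z}.Finite := by
      rw [hT]
      by_contra hno
      apply hcon
      intro t ht
      by_contra hne
      exact hno ⟨t, ht, hne⟩
    have hfin' := finite_stabilizer_actPt (GLin.actPt K g z) ((WithConv.toConv g)⁻¹).ofConv hfin
    rw [actPt_inv_actPt] at hfin'
    obtain ⟨t, ht, hne⟩ := (hT z).mp hfin'
    exact hne (hz t ht)
  let J : Ideal R := ⨅ z : Zinf, RingHom.ker (GLin.orbitHom K A z.1 : R →+* A)
  have hJstab : HopfRep.IsSubcomod (k := K) (A := A) (J.restrictScalars K) :=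
    isSubcomod_iInf _ (fun z => isSubcomod_ker_orbitHom z.1)
  have hTJ : ∀ t ∈ T, t ^ m ∈ J := by
    intro t ht
    rw [Ideal.mem_iInf]
    intro z
    rw [RingHom.mem_ker, map_pow]
    have hnil : IsNilpotent (GLin.orbitHom K A z.1 t) := by
      apply isNilpotent_of_forall_point_eq_zero (K := K)
      intro g
      exact hZstab z.1 z.2 g t ht
    have hmem : (GLin.orbitHom K A z.1 t) ^ m ∈ nilradical A ^ m :=
      Ideal.pow_mem_pow (mem_nilradical.mpr hnil) m
    rw [hm] at hmem
    exact hmem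
  refine ⟨{f | f ∈ HopfRep.fixedPts K A R ∧ ∀ z ∈ Zinf, z f = 0}, fun f hf => hf.1, fun x => ?_⟩
  constructor
  · rintro ⟨hcl, hfin⟩
    have hsup : RingHom.ker (GLin.orbitHom K A x : R →+* A) ⊔ J = ⊤ := by
      by_contra hne
      obtain ⟨w, hw⟩ := exists_point_of_ne_top (K := K) _ hne
      obtain ⟨g, hg⟩ := hcl w (le_sup_left.trans hw)
      have hfinw := finite_stabilizer_actPt x g hfin
      rw [← hg] at hfinw
      obtain ⟨t, ht, hne⟩ := (hT w).mp hfinw
      have : t ^ m ∈ RingHom.ker (w : R →+* K) := (le_sup_right.trans hw) (hTJ t ht)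
      rw [RingHom.mem_ker, map_pow] at this
      exact hne (pow_eq_zero_iff (n := m) (by
        rintro rfl
        simp at this) |>.mp this)
    obtain ⟨f, hf, hfx, hfJ⟩ := exists_invariant_of_sup_eq_top
      (GLin.IsCoactAlg.coact_one (k := K) (A := A) (R := R)) _ _
      (isSubcomod_ker_orbitHom x) hJstab hsup
    refine ⟨1 - f, ⟨?_, ?_⟩, ?_⟩
    · exact Submodule.sub_mem _
        (one_mem_fixedPts (GLin.IsCoactAlg.coact_one (k := K) (A := A) (R := R))) hf
    · intro z hz
      have h1 : 1 - f ∈ RingHom.ker (GLin.orbitHom K A z : R →+* A) := by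
        have := (Ideal.mem_iInf.mp hfJ) ⟨z, hz⟩
        exact this
      exact ker_orbitHom_le_ker z h1
    · have h0 : x f = 0 := ker_orbitHom_le_ker x hfx
      rw [map_sub, map_one, h0, sub_zero]
      exact one_ne_zero
  · rintro ⟨f, ⟨hf, hfZ⟩, hxf⟩
    apply stable_of_forall_fibre_finite
    intro z hz
    rw [hT]
    by_contra hno
    apply hxf
    rw [← hz f hf]
    apply hfZ
    intro t ht
    by_contra hne
    exact hno ⟨t, ht, hne⟩

end StableLocus

section HasFiniteStab

variable {K : Type u} [Field K] [IsAlgClosed K] {A : Type u} [CommRing A] [HopfAlgebra K A]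
  [Algebra.FiniteType K A]
variable {R : Type u} [CommRing R] [Algebra K R] [HopfRep.Comod K A R] [GLin.IsCoactAlg K A R]

omit [IsAlgClosed K] [Algebra.FiniteType K A] in
/-- a rational point of the group fixes `x` iff it kills the stabiliser ideal -/
theorem stabIdeal_le_ker_iff (x : R →ₐ[K] K) (g : A →ₐ[K] K) :
    GLin.stabIdeal K A x ≤ RingHom.ker (g : A →+* K) ↔ GLin.actPt K g x = x := by
  constructor
  · intro hI
    apply algHom_eq_of_ker_le
    intro r hr
    rw [RingHom.mem_ker]
    change g (GLin.orbitHom K A x r) = 0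
    have : (GLin.orbitHom K A x : R →+* A) r ∈ GLin.stabIdeal K A x := Ideal.mem_map_of_mem _ hr
    exact hI this
  · intro hg
    change Ideal.map (GLin.orbitHom K A x) (RingHom.ker x) ≤ _
    rw [Ideal.map_le_iff_le_comap]
    intro r hr
    rw [Ideal.mem_comap, RingHom.mem_ker]
    change GLin.actPt K g x r = 0
    rw [hg]
    exact hr

/-- `HasFiniteStab` (the stabiliser is a finite scheme) iff the stabiliser has finitely many
rational points -/
theorem hasFiniteStab_iff (x : R →ₐ[K] K) :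
    GLin.HasFiniteStab K A x ↔ {g : A →ₐ[K] K | GLin.actPt K g x = x}.Finite := by
  set I := GLin.stabIdeal K A x with hI
  have hftq : Algebra.FiniteType K (A ⧸ I) :=
    Algebra.FiniteType.of_surjective (Ideal.Quotient.mkₐ K I) (Ideal.Quotient.mkₐ_surjective K I)
  unfold GLin.HasFiniteStab
  constructor
  · intro hfin
    have hfin' : Module.Finite K (A ⧸ I) := hfin
    have : Finite ((A ⧸ I) →ₐ[K] K) := Finite.algHom K (A ⧸ I) K
    -- the stabiliser injects into the rational points of `A ⧸ I`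
    have hinj : ∀ g : {g : A →ₐ[K] K | GLin.actPt K g x = x},
        ∃ gq : (A ⧸ I) →ₐ[K] K, gq.comp (Ideal.Quotient.mkₐ K I) = g.1 := by
      intro g
      have hle : I ≤ RingHom.ker (g.1 : A →+* K) := (stabIdeal_le_ker_iff x g.1).mpr g.2
      refine ⟨Ideal.Quotient.liftₐ I g.1 (fun a ha => hle ha), ?_⟩
      apply AlgHom.ext
      intro a
      rfl
    choose φ hφ using hinj
    have hφinj : Function.Injective φ := by
      intro g g' hgg'
      apply Subtype.ext
      rw [← hφ g, ← hφ g', hgg']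
    exact Set.finite_coe_iff.mp (Finite.of_injective φ hφinj)
  · intro hfin
    change Module.Finite K (A ⧸ I)
    have hJ : IsJacobsonRing (A ⧸ I) := isJacobsonRing_of_finiteType (A := K) (B := A ⧸ I)
    rw [Module.finite_iff_krullDimLE_zero]
    have hcp : (closedPoints (PrimeSpectrum (A ⧸ I))).Finite := by
      let ψ : {g : A →ₐ[K] K | GLin.actPt K g x = x} → PrimeSpectrum (A ⧸ I) := fun g =>
        ⟨RingHom.ker (Ideal.Quotient.liftₐ I g.1
          (fun a ha => ((stabIdeal_le_ker_iff x g.1).mpr g.2) ha) : A ⧸ I →+* K),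
          RingHom.ker_isPrime _⟩
      have hfin' : Finite {g : A →ₐ[K] K | GLin.actPt K g x = x} := Set.finite_coe_iff.mpr hfin
      refine (Set.finite_range ψ).subset ?_
      intro M hM
      have hMmax : M.asIdeal.IsMaximal := (PrimeSpectrum.isClosed_singleton_iff_isMaximal M).mp hM
      obtain ⟨μ, hμ0⟩ := exists_point_of_isMaximal (K := K) M.asIdeal
      have hμ : RingHom.ker (μ : A ⧸ I →+* K) = M.asIdeal := hμ0
      have hstab : GLin.actPt K (μ.comp (Ideal.Quotient.mkₐ K I)) x = x := by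
        rw [← stabIdeal_le_ker_iff]
        intro a ha
        rw [RingHom.mem_ker]
        change μ (Ideal.Quotient.mk I a) = 0
        rw [Ideal.Quotient.eq_zero_iff_mem.mpr ha, map_zero]
      refine ⟨⟨μ.comp (Ideal.Quotient.mkₐ K I), hstab⟩, ?_⟩
      apply PrimeSpectrum.ext
      change RingHom.ker _ = M.asIdeal
      rw [← hμ]
      ext a
      obtain ⟨a, rfl⟩ := Ideal.Quotient.mk_surjective a
      rfl
    have hdisc : DiscreteTopology (PrimeSpectrum (A ⧸ I)) := JacobsonSpace.discreteTopology hcp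
    exact (PrimeSpectrum.discreteTopology_iff_finite_and_krullDimLE_zero.mp hdisc).2

end HasFiniteStab

section StablePt

attribute [local instance] comodModule

variable {K : Type u} [Field K] [IsAlgClosed K] {A : Type u} [CommRing A] [HopfAlgebra K A]
  [Algebra.FiniteType K A]
variable {R : Type u} [CommRing R] [Algebra K R] [Algebra.FiniteType K R] [HopfRep.Comod K A R]
  [GLin.IsCoactAlg K A R]

theorem isClosedOrbit_iff (x : R →ₐ[K] K) :
    GLin.IsClosedOrbit K A x ↔ ∀ z : R →ₐ[K] K,
      RingHom.ker (GLin.orbitHom K A x : R →+* A) ≤ RingHom.ker (z : R →+* K) →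
        ∃ g : A →ₐ[K] K, z = GLin.actPt K g x :=
  ⟨fun h _ hz => exists_actPt_eq_of_isClosedOrbit h hz, isClosedOrbit_of_forall_point x⟩

theorem isStablePt_iff (x : R →ₐ[K] K) :
    GLin.IsStablePt K A x ↔
      ((∀ z : R →ₐ[K] K,
          RingHom.ker (GLin.orbitHom K A x : R →+* A) ≤ RingHom.ker (z : R →+* K) →
            ∃ g : A →ₐ[K] K, z = GLin.actPt K g x) ∧
        {g : A →ₐ[K] K | GLin.actPt K g x = x}.Finite) := by
  unfold GLin.IsStablePt
  rw [isClosedOrbit_iff, hasFiniteStab_iff]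

/-- the stable locus (in the sense of `GLin.IsStablePt`) is cut out by invariants -/
theorem exists_set_forall_isStablePt_iff [IsSemisimpleModule (DualAlg K A) R] :
    ∃ S : Set R, S ⊆ (GLin.invariants K A R : Set R) ∧ ∀ x : R →ₐ[K] K,
      GLin.IsStablePt K A x ↔ ∃ f ∈ S, x f ≠ 0 := by
  obtain ⟨S, hS, H⟩ := exists_set_forall_stable_iff (K := K) (A := A) (R := R)
  refine ⟨S, fun f hf => hS hf, fun x => ?_⟩
  rw [isStablePt_iff, H]

end StablePt

end Groth.Agent.Lib.Helper23.StabOpen
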