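import Groth.Agent.Lib.Helper23.HopfRegular
import Groth.Agent.Lib.Helper23.StabOpen
import Groth.Agent.Lib.Helper14.DimFormula
import Groth.Agent.S0561
import Groth.Agent.S13252

/-!
# The quotient by a linearly reductive group is regular at the image of a free closed orbit along
which the variety is regular (helper23)
-/

set_option autoImplicit false
universe u

open IsLocalRing

namespace Groth.Agent.Lib.Helper23.FreeOrbitReg

section RegularQuotient

/-- In a regular local ring `T` of dimension `d`, if `T ⧸ J` is regular and `J` is generated by `r`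
elements which are independent modulo `𝔪 J`, then `dim (T ⧸ J) + r ≤ d`. -/
theorem ringKrullDim_quotient_add_le (T : Type u) [CommRing T] [IsRegularLocalRing T] (d : ℕ)
    (hd : ringKrullDim T = d) (J : Ideal T) [IsRegularLocalRing (T ⧸ J)] (r : ℕ) (f : Fin r → T)
    (hJ : J = Ideal.span (Set.range f))
    (hind : ∀ t : Fin r → T, ∑ i, t i * f i ∈ maximalIdeal T * J → ∀ i, t i ∈ maximalIdeal T) :
    ringKrullDim (T ⧸ J) + r ≤ d := by
  obtain ⟨x, c, hc, hxm, hJx⟩ := Groth.Agent.S0561.result T d hd J
  -- (a) `dim (T ⧸ J) ≤ d - c`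
  have hN : IsNoetherianRing (T ⧸ J) := inferInstance
  have ha : ringKrullDim (T ⧸ J) ≤ ((d - c : ℕ) : WithBot ℕ∞) := by
    refine le_trans (ringKrullDim_le_spanFinrank_maximalIdeal (T ⧸ J)) ?_
    have hmax : maximalIdeal (T ⧸ J) =
        Ideal.span (Set.range fun j : Fin (d - c) =>
          Ideal.Quotient.mk J (x ⟨c + j, by omega⟩)) := by
      rw [← Groth.Agent.Lib.Helper14.DimFormula.map_mk_maximalIdeal (B := T) J, ← hxm,
        Ideal.map_span]
      apply le_antisymm
      · rw [Ideal.span_le]
        rintro _ ⟨_, ⟨i, rfl⟩, rfl⟩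
        by_cases hi : (i : ℕ) < c
        · have : x i ∈ J := by
            rw [hJx]
            apply Ideal.subset_span
            exact ⟨⟨i, hi⟩, by simp [Fin.castLE]⟩
          rw [Ideal.Quotient.eq_zero_iff_mem.mpr this]
          exact Ideal.zero_mem _
        · apply Ideal.subset_span
          refine ⟨⟨i - c, by omega⟩, ?_⟩
          simp only
          congr 2
          apply Fin.ext
          simp only
          omega
      · rw [Ideal.span_le]
        rintro _ ⟨j, rfl⟩
        apply Ideal.subset_span
        exact ⟨_, ⟨_, rfl⟩, rfl⟩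
    rw [hmax]
    have h1 := Submodule.spanFinrank_span_le_ncard_of_finite (R := T ⧸ J)
      (Set.finite_range fun j : Fin (d - c) => Ideal.Quotient.mk J (x ⟨c + j, by omega⟩))
    have h2 : (Set.range fun j : Fin (d - c) =>
        Ideal.Quotient.mk J (x ⟨c + j, by omega⟩)).ncard ≤ d - c := by
      rw [← Set.image_univ]
      refine le_trans (Set.ncard_image_le (Set.finite_univ)) ?_
      rw [Set.ncard_univ, Nat.card_fin]
    exact_mod_cast le_trans h1 h2
  -- (b) `r ≤ c`
  have hb : r ≤ c := by
    have hfJ : ∀ i, f i ∈ Ideal.span (Set.range (fun j : Fin c => x (Fin.castLE hc j))) := by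
      intro i
      rw [← hJx, hJ]
      exact Ideal.subset_span ⟨i, rfl⟩
    have hxJ : ∀ j : Fin c, x (Fin.castLE hc j) ∈ Ideal.span (Set.range f) := by
      intro j
      rw [← hJ, hJx]
      exact Ideal.subset_span ⟨j, rfl⟩
    choose u hu using fun i => (Ideal.mem_span_range_iff_exists_fun).mp (hfJ i)
    choose v hv using fun j => (Ideal.mem_span_range_iff_exists_fun).mp (hxJ j)
    -- `f i = ∑ l, (∑ j, u i j * v j l) * f l`
    have hkey : ∀ i l, (∑ j, u i j * v j l) - (if i = l then 1 else 0) ∈ maximalIdeal T := by
      intro i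
      apply hind
      have h0 : ∑ l, ((∑ j, u i j * v j l) - (if i = l then 1 else 0)) * f l = 0 := by
        simp only [sub_mul, Finset.sum_sub_distrib, ite_mul, one_mul, zero_mul,
          Finset.sum_ite_eq, Finset.mem_univ, if_true]
        rw [sub_eq_zero]
        calc ∑ l, (∑ j, u i j * v j l) * f l = ∑ j, u i j * ∑ l, v j l * f l := by
              simp only [Finset.sum_mul, Finset.mul_sum]
              rw [Finset.sum_comm]
              apply Finset.sum_congr rfl
              intro j _
              apply Finset.sum_congr rfl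
              intro l _
              ring
          _ = ∑ j, u i j * x (Fin.castLE hc j) := by
              apply Finset.sum_congr rfl
              intro j _
              rw [hv j]
          _ = f i := hu i
      rw [h0]
      exact Ideal.zero_mem _
    let U : Matrix (Fin r) (Fin c) (ResidueField T) := fun i j => residue T (u i j)
    let V : Matrix (Fin c) (Fin r) (ResidueField T) := fun j l => residue T (v j l)
    have hUV : U * V = 1 := by
      ext i l
      rw [Matrix.mul_apply, Matrix.one_apply]
      have := hkey i l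
      rw [← residue_eq_zero_iff, map_sub, sub_eq_zero, map_sum] at this
      simp only [map_mul] at this
      rw [this]
      split_ifs <;> simp
    have h1 : (U * V).rank ≤ U.rank := Matrix.rank_mul_le_left U V
    rw [hUV, Matrix.rank_one, Fintype.card_fin] at h1
    have h2 := Matrix.rank_le_card_width U
    rw [Fintype.card_fin] at h2
    exact le_trans h1 h2
  calc ringKrullDim (T ⧸ J) + r ≤ ((d - c : ℕ) : WithBot ℕ∞) + (c : ℕ) := by
        gcongr
    _ = d := by
        have : d - c + c = d := by omega
        exact_mod_cast this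

end RegularQuotient

section Transfer

/-- an equality of extended ideals in `R_b` persists in `R_P` for `b ∉ P` -/
theorem map_atPrime_eq_of_map_away_eq {R : Type*} [CommRing R] (P : Ideal R) [P.IsPrime] (b : R)
    (hb : b ∉ P) (I₁ I₂ : Ideal R)
    (h : I₁.map (algebraMap R (Localization.Away b)) = I₂.map (algebraMap R (Localization.Away b))) :
    I₁.map (algebraMap R (Localization.AtPrime P)) =
      I₂.map (algebraMap R (Localization.AtPrime P)) := by
  have hu : IsUnit (algebraMap R (Localization.AtPrime P) b) :=
    IsLocalization.map_units (Localization.AtPrime P) (⟨b, hb⟩ : P.primeCompl)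
  let g : Localization.Away b →+* Localization.AtPrime P :=
    IsLocalization.Away.lift (S := Localization.Away b) b hu
  have hg : g.comp (algebraMap R (Localization.Away b)) = algebraMap R (Localization.AtPrime P) :=
    IsLocalization.Away.lift_comp b hu
  rw [← hg, ← Ideal.map_map, ← Ideal.map_map, h]

/-- localisation commutes with quotients: for a surjection `φ : R → A`, a prime `P'` of `A` and
`P = φ⁻¹ P'`, `R_P ⧸ (ker φ) R_P ≃ A_{P'}`. -/
theorem nonempty_quotient_atPrime_equiv {R A : Type*} [CommRing R] [CommRing A] (φ : R →+* A)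
    (hφ : Function.Surjective φ) (P' : Ideal A) [P'.IsPrime] (P : Ideal R) [P.IsPrime]
    (hP : P = P'.comap φ) :
    Nonempty ((Localization.AtPrime P ⧸ (RingHom.ker φ).map
      (algebraMap R (Localization.AtPrime P))) ≃+* Localization.AtPrime P') := by
  let ψ : Localization.AtPrime P →+* Localization.AtPrime P' :=
    Localization.localRingHom P P' φ hP
  have hsurj : Function.Surjective ψ := by
    intro e
    obtain ⟨a, s, rfl⟩ := IsLocalization.exists_mk'_eq P'.primeCompl e
    obtain ⟨r, rfl⟩ := hφ a
    obtain ⟨r', hr'⟩ := hφ s.1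
    have hr'P : r' ∈ P.primeCompl := by
      intro hcon
      have hcon' : r' ∈ P := hcon
      rw [hP, Ideal.mem_comap, hr'] at hcon'
      exact s.2 hcon'
    refine ⟨IsLocalization.mk' _ r ⟨r', hr'P⟩, ?_⟩
    rw [Localization.localRingHom_mk']
    congr 1
    exact Subtype.ext hr'
  have hker : RingHom.ker ψ =
      (RingHom.ker φ).map (algebraMap R (Localization.AtPrime P)) := by
    apply le_antisymm
    · intro t ht
      obtain ⟨r, s, rfl⟩ := IsLocalization.exists_mk'_eq P.primeCompl t
      rw [RingHom.mem_ker, Localization.localRingHom_mk', IsLocalization.mk'_eq_zero_iff] at ht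
      obtain ⟨m, hm⟩ := ht
      obtain ⟨r'', hr''⟩ := hφ m.1
      have hr''P : r'' ∈ P.primeCompl := by
        intro hcon
        have hcon' : r'' ∈ P := hcon
        rw [hP, Ideal.mem_comap, hr''] at hcon'
        exact m.2 hcon'
      rw [IsLocalization.mk'_mem_map_algebraMap_iff]
      refine ⟨r'', hr''P, ?_⟩
      rw [RingHom.mem_ker, map_mul, hr'']
      exact hm
    · rw [Ideal.map_le_iff_le_comap]
      intro r hr
      rw [Ideal.mem_comap, RingHom.mem_ker, Localization.localRingHom_to_map,
        (RingHom.mem_ker).mp hr, map_zero]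
  exact ⟨(Ideal.quotEquivOfEq hker.symm).trans (RingHom.quotientKerEquivOfSurjective hsurj)⟩

/-- arithmetic -/
theorem arith (s a : WithBot ℕ∞) (d r e : ℕ) (h1 : s ≤ e) (h2 : e ≤ r)
    (h3 : (d : WithBot ℕ∞) ≤ s + a) (h4 : a + r ≤ d) (ha : 0 ≤ a) (hs : 0 ≤ s) :
    (e : WithBot ℕ∞) ≤ s ∧ s + a = d := by
  have ha' : a ≤ d := by
    refine le_trans ?_ h4
    have : a + 0 ≤ a + (r : WithBot ℕ∞) := by
      gcongr
      exact_mod_cast Nat.zero_le r
    simpa using this
  obtain ⟨a₀, rfl⟩ : ∃ a₀ : ℕ, a = a₀ := by
    have hne : a ≠ ⊥ := by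
      intro h
      rw [h] at ha
      simp at ha
    lift a to ℕ∞ using hne
    have hne' : a ≠ ⊤ := by
      intro h
      rw [h] at ha'
      have : ((⊤ : ℕ∞) : WithBot ℕ∞) ≤ ((d : ℕ∞) : WithBot ℕ∞) := ha'
      rw [WithBot.coe_le_coe] at this
      simp at this
    lift a to ℕ using hne'
    exact ⟨a, rfl⟩
  obtain ⟨s₀, rfl⟩ : ∃ s₀ : ℕ, s = s₀ := by
    have hne : s ≠ ⊥ := by
      intro h
      rw [h] at hs
      simp at hs
    lift s to ℕ∞ using hne
    have hne' : s ≠ ⊤ := by
      intro h
      rw [h] at h1
      have : ((⊤ : ℕ∞) : WithBot ℕ∞) ≤ ((e : ℕ∞) : WithBot ℕ∞) := h1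
      rw [WithBot.coe_le_coe] at this
      simp at this
    lift s to ℕ using hne'
    exact ⟨s, rfl⟩
  have h1' : s₀ ≤ e := by exact_mod_cast h1
  have h3' : d ≤ s₀ + a₀ := by exact_mod_cast h3
  have h4' : a₀ + r ≤ d := by exact_mod_cast h4
  constructor
  · have : e ≤ s₀ := by omega
    exact_mod_cast this
  · have : s₀ + a₀ = d := by omega
    exact_mod_cast this

end Transfer

section Independence

variable {R : Type u} [CommRing R] (I P : Ideal R) (hIP : I ≤ P) {r : ℕ} (f : Fin r → R)
  (hf : ∀ i, f i ∈ I)

include hIP in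
/-- a basis of `I/I²` over `R/I` stays independent modulo `P I` -/
theorem mem_of_sum_mem_mul [P.IsPrime]
    (hli : LinearIndependent (R ⧸ I) (fun i => I.toCotangent ⟨f i, hf i⟩))
    (hsp : Submodule.span (R ⧸ I) (Set.range fun i => I.toCotangent ⟨f i, hf i⟩) = ⊤)
    (a : Fin r → R) (ha : ∑ i, a i * f i ∈ P * I) : ∀ i, a i ∈ P := by
  have hwI : ∑ i, a i * f i ∈ I := Ideal.sum_mem _ fun i _ => Ideal.mul_mem_left _ _ (hf i)
  set v : Fin r → I.Cotangent := fun i => I.toCotangent ⟨f i, hf i⟩ with hv
  -- the class of `w` in the cotangent space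
  have h0 : (⟨∑ i, a i * f i, hwI⟩ : I) = ∑ i, a i • (⟨f i, hf i⟩ : I) := by
    apply Subtype.ext
    simp [Submodule.coe_sum]
  have h1 : I.toCotangent ⟨∑ i, a i * f i, hwI⟩ = ∑ i, a i • v i := by
    rw [h0, map_sum]
    simp only [map_smul, hv]
  have h2 : (⟨∑ i, a i * f i, hwI⟩ : I) ∈ P • (⊤ : Submodule R I) := by
    rw [Submodule.mem_smul_top_iff]
    exact ha
  have h3 : I.toCotangent ⟨∑ i, a i * f i, hwI⟩ ∈ P • (⊤ : Submodule R I.Cotangent) := by
    have : I.toCotangent ⟨∑ i, a i * f i, hwI⟩ ∈
        Submodule.map I.toCotangent (P • (⊤ : Submodule R I)) := Submodule.mem_map_of_mem h2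
    rw [Submodule.map_smul''] at this
    exact Submodule.smul_mono le_rfl le_top this
  have h4 : (⊤ : Submodule R I.Cotangent) = Submodule.span R (Set.range v) := by
    rw [← Submodule.restrictScalars_span R (R ⧸ I) Ideal.Quotient.mk_surjective, hsp]
    rfl
  rw [h4, Submodule.mem_ideal_smul_span_iff_exists_sum] at h3
  obtain ⟨p, hp, hsum⟩ := h3
  rw [Finsupp.sum_fintype _ _ (fun i => by simp), h1] at hsum
  have h6 : ∑ i, (Ideal.Quotient.mk I (a i - p i)) • v i = 0 := by
    have : ∀ i, (Ideal.Quotient.mk I (a i - p i)) • v i = a i • v i - p i • v i := by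
      intro i
      rw [← sub_smul]
      exact algebraMap_smul (R ⧸ I) (a i - p i) (v i)
    simp only [this, Finset.sum_sub_distrib, hsum, sub_self]
  intro i
  have h7 := Fintype.linearIndependent_iff.mp hli (fun i => Ideal.Quotient.mk I (a i - p i)) h6 i
  rw [Ideal.Quotient.eq_zero_iff_mem] at h7
  have := P.add_mem (hIP h7) (hp i)
  simpa using this

include hIP in
/-- the localised version -/
theorem mem_maximalIdeal_of_sum_mem_mul [P.IsPrime]
    (hli : LinearIndependent (R ⧸ I) (fun i => I.toCotangent ⟨f i, hf i⟩))
    (hsp : Submodule.span (R ⧸ I) (Set.range fun i => I.toCotangent ⟨f i, hf i⟩) = ⊤)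
    (t : Fin r → Localization.AtPrime P)
    (ht : ∑ i, t i * algebraMap R (Localization.AtPrime P) (f i) ∈
      maximalIdeal (Localization.AtPrime P) * I.map (algebraMap R (Localization.AtPrime P))) :
    ∀ i, t i ∈ maximalIdeal (Localization.AtPrime P) := by
  obtain ⟨s, hs⟩ := IsLocalization.exist_integer_multiples_of_finite P.primeCompl t
  choose a ha using hs
  have hmul : maximalIdeal (Localization.AtPrime P) *
      I.map (algebraMap R (Localization.AtPrime P)) =
      (P * I).map (algebraMap R (Localization.AtPrime P)) := by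
    rw [Ideal.map_mul, Localization.AtPrime.map_eq_maximalIdeal]
  have h1 : algebraMap R (Localization.AtPrime P) (∑ i, a i * f i) ∈
      (P * I).map (algebraMap R (Localization.AtPrime P)) := by
    rw [← hmul]
    have : algebraMap R (Localization.AtPrime P) (∑ i, a i * f i) =
        algebraMap R (Localization.AtPrime P) s *
          ∑ i, t i * algebraMap R (Localization.AtPrime P) (f i) := by
      rw [map_sum, Finset.mul_sum]
      apply Finset.sum_congr rfl
      intro i _
      rw [map_mul, ha i, Algebra.smul_def, mul_assoc]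
    rw [this]
    exact Ideal.mul_mem_left _ _ ht
  obtain ⟨m, hm, hmem⟩ := (IsLocalization.algebraMap_mem_map_algebraMap_iff P.primeCompl
    (Localization.AtPrime P) (P * I) _).mp h1
  have h2 : ∑ i, (m * a i) * f i ∈ P * I := by
    have : ∑ i, (m * a i) * f i = m * ∑ i, a i * f i := by
      rw [Finset.mul_sum]
      apply Finset.sum_congr rfl
      intro i _
      ring
    rw [this]
    exact hmem
  have h3 := mem_of_sum_mem_mul I P hIP f hf hli hsp (fun i => m * a i) h2
  intro i
  have h4 : a i ∈ P := (Ideal.IsPrime.mem_or_mem inferInstance (h3 i)).resolve_left hm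
  have h5 : algebraMap R (Localization.AtPrime P) (a i) ∈ maximalIdeal (Localization.AtPrime P) :=
    (IsLocalization.AtPrime.to_map_mem_maximal_iff (Localization.AtPrime P) P (a i)).mpr h4
  rw [ha i, Algebra.smul_def] at h5
  exact (Ideal.unit_mul_mem_iff_mem _
    (IsLocalization.map_units (Localization.AtPrime P) s)).mp h5

end Independence

section Main

open TensorProduct Groth.Agent.Lib.Helper75 Groth.Agent.Lib.Helper23.Reynolds
open Groth.Agent.Lib.Helper23.GITAffine

attribute [local instance] comodModule

theorem main (k : Type u) [Field k] [IsAlgClosed k] [CharZero k]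
    (A : Type u) [CommRing A] [HopfAlgebra k A] [Algebra.FiniteType k A]
    (hred : HopfRep.IsLinearlyReductive k A)
    (R : Type u) [CommRing R] [Algebra k R]
    [Algebra.FiniteType k R] [IsDomain R] [HopfRep.Comod k A R] [GLin.IsCoactAlg k A R]
    (x : R →ₐ[k] k) (hx : Function.Surjective (GLin.orbitHom k A x))
    (I : Ideal R) (hI : I = RingHom.ker (GLin.orbitHom k A x))
    (hreg : ∀ (P : Ideal R) [P.IsPrime], I ≤ P → IsRegularLocalRing (Localization.AtPrime P)) :
    ∀ (Q : Ideal (GLin.invariants k A R)) [Q.IsPrime],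
      Ideal.comap (GLin.invariants k A R).val I ≤ Q →
      IsRegularLocalRing (Localization.AtPrime Q) ∧
        ringKrullDim (Localization.AtPrime Q) + ringKrullDim A = ringKrullDim R := by
  intro Q hQ hQI
  have hss := isSemisimpleModule_of_isLinearlyReductive hred R
  have hNR : IsNoetherianRing R := Algebra.FiniteType.isNoetherianRing k R
  have hNB : IsNoetherianRing (GLin.invariants k A R) :=
    isNoetherianRing_invariants (GLin.IsCoactAlg.coact_mul (k := k) (A := A) (R := R))
      (GLin.invariants k A R) (fun f => Iff.rfl)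
  obtain ⟨r, f, hf, b, hli, hsp, hbu, hIb, hpow⟩ :=
    Groth.Agent.S13252.result k A hred R x hx I hI
  have hntA : Nontrivial A := by
    by_contra h
    rw [not_nontrivial_iff_subsingleton] at h
    have h1 : (Bialgebra.counitAlgHom k A) 1 = (Bialgebra.counitAlgHom k A) 0 := by
      congr 1
      exact Subsingleton.elim _ _
    rw [map_one, map_zero] at h1
    exact one_ne_zero h1
  -- the point
  set P : Ideal R := RingHom.ker (x : R →+* k) with hPdef
  have hPmax : P.IsMaximal := RingHom.ker_isMaximal_of_surjective _ (fun c =>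
    ⟨algebraMap k R c, by simp⟩)
  have hPprime : P.IsPrime := hPmax.isPrime
  have hIP : I ≤ P := by
    rw [hI]
    exact ker_orbitHom_le_ker x
  -- the maximal ideal of the invariant ring
  have hm₀ : ∀ g : GLin.invariants k A R, g ∈ Ideal.comap (GLin.invariants k A R).val I ↔
      x (g : R) = 0 := by
    intro g
    rw [Ideal.mem_comap, hI, RingHom.mem_ker]
    change GLin.orbitHom k A x (g : R) = 0 ↔ _
    rw [orbitHom_of_mem_fixedPts x g.2]
    constructor
    · intro h
      exact (algebraMap k A).injective (by rw [h, map_zero])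
    · intro h
      rw [h, map_zero]
  have hQeq : Q = Ideal.comap (GLin.invariants k A R).val I := by
    have hmax : (Ideal.comap (GLin.invariants k A R).val I).IsMaximal := by
      have : Ideal.comap (GLin.invariants k A R).val I =
          RingHom.ker ((x.comp (GLin.invariants k A R).val : GLin.invariants k A R →ₐ[k] k) :
            GLin.invariants k A R →+* k) := by
        ext g
        rw [hm₀ g, RingHom.mem_ker]
        rfl
      rw [this]
      exact RingHom.ker_isMaximal_of_surjective _ (fun c =>
        ⟨algebraMap k (GLin.invariants k A R) c, by simp⟩)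
    exact (hmax.eq_of_le hQ.ne_top hQI).symm
  have hQmem : ∀ g : GLin.invariants k A R, g ∈ Q ↔ x (g : R) = 0 := by
    intro g
    rw [hQeq]
    exact hm₀ g
  have hcomap : Q = P.comap (algebraMap (GLin.invariants k A R) R) := by
    ext g
    rw [hQmem g, Ideal.mem_comap, hPdef, RingHom.mem_ker]
    rfl
  -- `b` is a unit near the orbit
  have hbP : (b : R) ∉ P := by
    intro hcon
    obtain ⟨u, hu⟩ := hbu
    obtain ⟨c, hc⟩ := Ideal.Quotient.mk_surjective (u⁻¹ : (R ⧸ I)ˣ).1
    have h1 : Ideal.Quotient.mk I ((b : R) * c - 1) = 0 := by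
      rw [map_sub, map_mul, hc, ← hu, map_one, Units.mul_inv, sub_self]
    have h2 : (b : R) * c - 1 ∈ P := hIP (Ideal.Quotient.eq_zero_iff_mem.mp h1)
    have h3 : (1 : R) ∈ P := by
      have := P.sub_mem (P.mul_mem_right c hcon) h2
      simpa using this
    exact hPprime.ne_top ((Ideal.eq_top_iff_one _).mpr h3)
  have hbQ : b ∉ Q := by
    rw [hQmem]
    intro hcon
    exact hbP ((RingHom.mem_ker).mpr hcon)
  -- the local rings
  let φ : Localization.AtPrime Q →+* Localization.AtPrime P :=
    Localization.localRingHom Q P (algebraMap (GLin.invariants k A R) R) hcomap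
  let _ : Algebra (Localization.AtPrime Q) (Localization.AtPrime P) := φ.toAlgebra
  have hlocal : IsLocalHom (algebraMap (Localization.AtPrime Q) (Localization.AtPrime P)) :=
    Localization.isLocalHom_localRingHom Q P _ hcomap
  have hφalg : ∀ g : GLin.invariants k A R,
      algebraMap (Localization.AtPrime Q) (Localization.AtPrime P)
        (algebraMap (GLin.invariants k A R) (Localization.AtPrime Q) g) =
        algebraMap R (Localization.AtPrime P) (g : R) := by
    intro g
    exact Localization.localRingHom_to_map Q P _ hcomap g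
  -- the maximal ideal of the invariant local ring is generated by the `f i`
  have hmaxL : maximalIdeal (Localization.AtPrime Q) =
      Ideal.span (Set.range fun i => algebraMap (GLin.invariants k A R) (Localization.AtPrime Q)
        (f i)) := by
    have h1 := hpow 1
    rw [pow_one, pow_one, ← hQeq] at h1
    have h2 := map_atPrime_eq_of_map_away_eq Q b hbQ _ _ h1
    rw [Localization.AtPrime.map_eq_maximalIdeal] at h2
    rw [h2, Ideal.map_span, ← Set.range_comp]
    rfl
  -- the ideal of the orbit in the local ring of `x`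
  set J : Ideal (Localization.AtPrime P) := I.map (algebraMap R (Localization.AtPrime P)) with hJdef
  have hJspan : J = Ideal.span (Set.range fun i => algebraMap R (Localization.AtPrime P)
      ((f i : GLin.invariants k A R) : R)) := by
    have h2 := map_atPrime_eq_of_map_away_eq P (b : R) hbP I
      (Ideal.span (Set.range fun i => ((f i : GLin.invariants k A R) : R))) (by
        rw [hIb, Ideal.map_span, ← Set.range_comp]
        rfl)
    rw [hJdef, h2, Ideal.map_span, ← Set.range_comp]
    rfl
  have hmapmax : (maximalIdeal (Localization.AtPrime Q)).map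
      (algebraMap (Localization.AtPrime Q) (Localization.AtPrime P)) = J := by
    rw [hmaxL, Ideal.map_span, ← Set.range_comp, hJspan]
    congr 2
    funext i
    exact hφalg (f i)
  -- `T ⧸ J` is the local ring of the group at the identity
  have hPε : P = (RingHom.ker (Bialgebra.counitAlgHom k A)).comap
      (GLin.orbitHom k A x : R →+* A) := by
    ext g
    rw [hPdef, RingHom.mem_ker, Ideal.mem_comap, RingHom.mem_ker]
    change x g = 0 ↔ CoalgebraStruct.counit (R := k) (GLin.orbitHom k A x g) = 0
    rw [← apply_eq_counit_orbitHom]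
  have hkerI : RingHom.ker (GLin.orbitHom k A x : R →+* A) = I := hI.symm
  obtain ⟨e⟩ := nonempty_quotient_atPrime_equiv (GLin.orbitHom k A x : R →+* A) hx
    (RingHom.ker (Bialgebra.counitAlgHom k A)) P hPε
  rw [hkerI] at e
  have hregE := HopfRegular.isRegularLocalRing_atPrime_ker_counit k A
  have hregTJ : IsRegularLocalRing (Localization.AtPrime P ⧸ J) :=
    IsRegularLocalRing.of_ringEquiv e.symm
  have hdimTJ : ringKrullDim (Localization.AtPrime P ⧸ J) = ringKrullDim A := by
    rw [ringKrullDim_eq_of_ringEquiv e, HopfRegular.ringKrullDim_atPrime_ker_counit k A]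
  have hregT : IsRegularLocalRing (Localization.AtPrime P) := hreg P hIP
  -- dimensions
  obtain ⟨d, -, hdR, hdmax, -⟩ :=
    Groth.Agent.Lib.Helper73.DimFormula.exists_trdeg_eq_ringKrullDim k R
  have hdT : ringKrullDim (Localization.AtPrime P) = d := by
    rw [IsLocalization.AtPrime.ringKrullDim_eq_height P, hdmax P]
    rfl
  -- the local dimension inequality
  have hNL : IsNoetherianRing (Localization.AtPrime Q) :=
    IsLocalization.isNoetherianRing Q.primeCompl _ hNB
  have hNT : IsNoetherianRing (Localization.AtPrime P) :=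
    IsLocalization.isNoetherianRing P.primeCompl _ hNR
  have hloc : IsLocalRing (Localization.AtPrime P ⧸ (maximalIdeal (Localization.AtPrime Q)).map
      (algebraMap (Localization.AtPrime Q) (Localization.AtPrime P))) := by
    rw [hmapmax]
    infer_instance
  have hle := Groth.Agent.Lib.Helper14.DimFormula.dim_le (Localization.AtPrime Q)
    (Localization.AtPrime P)
  rw [ringKrullDim_eq_of_ringEquiv (Ideal.quotEquivOfEq hmapmax), hdT] at hle
  -- the regular quotient inequality
  have hRQ := ringKrullDim_quotient_add_le (Localization.AtPrime P) d hdT J r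
    (fun i => algebraMap R (Localization.AtPrime P) ((f i : GLin.invariants k A R) : R)) hJspan
    (mem_maximalIdeal_of_sum_mem_mul I P hIP (fun i => ((f i : GLin.invariants k A R) : R)) hf
      hli hsp)
  -- the embedding dimension of the invariant local ring
  have hemb : (maximalIdeal (Localization.AtPrime Q)).spanFinrank ≤ r := by
    rw [hmaxL]
    refine le_trans (Submodule.spanFinrank_span_le_ncard_of_finite (Set.finite_range _)) ?_
    rw [← Set.image_univ]
    refine le_trans (Set.ncard_image_le (Set.finite_univ)) ?_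
    rw [Set.ncard_univ, Nat.card_fin]
  have hs1 := ringKrullDim_le_spanFinrank_maximalIdeal (Localization.AtPrime Q)
  obtain ⟨h1, h2⟩ := arith (ringKrullDim (Localization.AtPrime Q))
    (ringKrullDim (Localization.AtPrime P ⧸ J)) d r
    (maximalIdeal (Localization.AtPrime Q)).spanFinrank hs1 hemb hle hRQ
    ringKrullDim_nonneg_of_nontrivial ringKrullDim_nonneg_of_nontrivial
  refine ⟨IsRegularLocalRing.of_spanFinrank_maximalIdeal_le _ h1, ?_⟩
  rw [← hdimTJ, h2, hdR]

end Main

end Groth.Agent.Lib.Helper23.FreeOrbitReg
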