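import Mathlib
import Groth.Prelude.Def_VecGrp
import Groth.Prelude.Def_HopfRep

/-!
# `G`-module structures versus comodules for an affine group scheme (helper23)

Pure algebra: for a linear map `δ : E → E ⊗ A` and an algebra map `f : A → B` the `B`-linear
endomorphism `act δ f` of `B ⊗ E`, `b ⊗ x ↦ b • Σ f(x₁) ⊗ x₀`; multiplicativity, unit and
naturality.
-/

set_option autoImplicit false

namespace Groth.Agent.Lib.Helper23.GModComod

open TensorProduct

universe u v

section Alg

variable {R : Type u} [CommRing R] {A : Type u} [CommRing A] [Bialgebra R A]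
  {E : Type v} [AddCommGroup E] [Module R E]
  {B : Type u} [CommRing B] [Algebra R B] {B' : Type u} [CommRing B'] [Algebra R B']

/-- `x ↦ Σ f(x₁) ⊗ x₀`. -/
noncomputable def act₀ (δ : E →ₗ[R] E ⊗[R] A) (f : A →ₐ[R] B) : E →ₗ[R] B ⊗[R] E :=
  (TensorProduct.comm R E B).toLinearMap ∘ₗ (LinearMap.lTensor E f.toLinearMap) ∘ₗ δ

theorem act₀_apply (δ : E →ₗ[R] E ⊗[R] A) (f : A →ₐ[R] B) (x : E) :
    act₀ δ f x = TensorProduct.comm R E B (LinearMap.lTensor E f.toLinearMap (δ x)) := rfl

/-- `b ⊗ x ↦ b • Σ f(x₁) ⊗ x₀`. -/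
noncomputable def act (δ : E →ₗ[R] E ⊗[R] A) (f : A →ₐ[R] B) : B ⊗[R] E →ₗ[B] B ⊗[R] E :=
  LinearMap.liftBaseChange B (act₀ δ f)

theorem act_tmul (δ : E →ₗ[R] E ⊗[R] A) (f : A →ₐ[R] B) (b : B) (x : E) :
    act δ f (b ⊗ₜ[R] x) = b • act₀ δ f x := LinearMap.liftBaseChange_tmul _ _ _ _

theorem act_one_tmul (δ : E →ₗ[R] E ⊗[R] A) (f : A →ₐ[R] B) (x : E) :
    act δ f ((1 : B) ⊗ₜ[R] x) =
      TensorProduct.comm R E B (LinearMap.lTensor E f.toLinearMap (δ x)) := by
  rw [act_tmul, one_smul, act₀_apply]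

theorem ext_one_tmul {g h : B ⊗[R] E →ₗ[B] B ⊗[R] E} (H : ∀ x : E, g ((1 : B) ⊗ₜ[R] x) = h ((1 : B) ⊗ₜ[R] x)) : g = h := by
  apply TensorProduct.AlgebraTensorModule.ext
  intro b x
  have : b ⊗ₜ[R] x = b • ((1 : B) ⊗ₜ[R] x) := by rw [TensorProduct.smul_tmul', smul_eq_mul, mul_one]
  rw [this, map_smul, map_smul, H]

theorem key_tmul (f f' : A →ₐ[R] B) (z : E ⊗[R] A) (a : A) :
    f' a • TensorProduct.comm R E B (LinearMap.lTensor E f.toLinearMap z) =
      TensorProduct.comm R E B (LinearMap.lTensor E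
        ((LinearMap.mul' R B) ∘ₗ TensorProduct.map f.toLinearMap f'.toLinearMap)
        (TensorProduct.assoc R E A A (z ⊗ₜ[R] a))) := by
  induction z using TensorProduct.induction_on with
  | zero => simp
  | tmul e a₁ =>
    simp only [LinearMap.lTensor_tmul, TensorProduct.comm_tmul, TensorProduct.assoc_tmul,
      LinearMap.comp_apply, TensorProduct.map_tmul, LinearMap.mul'_apply, AlgHom.toLinearMap_apply,
      TensorProduct.smul_tmul', smul_eq_mul]
    rw [mul_comm]
  | add x y hx hy =>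
    simp only [map_add, smul_add, TensorProduct.add_tmul, hx, hy]

theorem act_comm_lTensor (δ : E →ₗ[R] E ⊗[R] A) (f f' : A →ₐ[R] B) (Z : E ⊗[R] A) :
    act δ f (TensorProduct.comm R E B (LinearMap.lTensor E f'.toLinearMap Z)) =
      TensorProduct.comm R E B (LinearMap.lTensor E
        ((LinearMap.mul' R B) ∘ₗ TensorProduct.map f.toLinearMap f'.toLinearMap)
        (TensorProduct.assoc R E A A (LinearMap.rTensor A δ Z))) := by
  induction Z using TensorProduct.induction_on with
  | zero => simp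
  | tmul e a =>
    rw [LinearMap.lTensor_tmul, TensorProduct.comm_tmul, act_tmul, act₀_apply,
      LinearMap.rTensor_tmul]
    exact key_tmul f f' (δ e) a
  | add x y hx hy => simp only [map_add, hx, hy]

theorem act_mul (δ : E →ₗ[R] E ⊗[R] A)
    (hco : (TensorProduct.assoc R E A A).toLinearMap ∘ₗ δ.rTensor A ∘ₗ δ =
      (CoalgebraStruct.comul (R := R) (A := A)).lTensor E ∘ₗ δ)
    (f f' : WithConv (A →ₐ[R] B)) :
    act δ (f * f').ofConv = act δ f.ofConv ∘ₗ act δ f'.ofConv := by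
  apply ext_one_tmul
  intro x
  rw [LinearMap.comp_apply, act_one_tmul, act_one_tmul, act_comm_lTensor]
  have h1 : (f * f').ofConv.toLinearMap =
      ((LinearMap.mul' R B) ∘ₗ TensorProduct.map f.ofConv.toLinearMap f'.ofConv.toLinearMap) ∘ₗ
        (CoalgebraStruct.comul (R := R) (A := A)) := rfl
  have h2 := LinearMap.congr_fun hco x
  simp only [LinearMap.comp_apply, LinearEquiv.coe_coe] at h2
  rw [h2, h1, LinearMap.lTensor_comp, LinearMap.comp_apply]

theorem act_one (δ : E →ₗ[R] E ⊗[R] A)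
    (hcu : (CoalgebraStruct.counit (R := R) (A := A)).lTensor E ∘ₗ δ = (TensorProduct.mk R E R).flip 1) :
    act δ (1 : WithConv (A →ₐ[R] B)).ofConv = LinearMap.id := by
  apply ext_one_tmul
  intro x
  rw [act_one_tmul, LinearMap.id_apply]
  have h1 : (1 : WithConv (A →ₐ[R] B)).ofConv.toLinearMap =
      (Algebra.linearMap R B) ∘ₗ (CoalgebraStruct.counit (R := R) (A := A)) := rfl
  have h2 := LinearMap.congr_fun hcu x
  simp only [LinearMap.comp_apply, LinearMap.flip_apply, TensorProduct.mk_apply] at h2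
  rw [h1, LinearMap.lTensor_comp, LinearMap.comp_apply, h2, LinearMap.lTensor_tmul,
    TensorProduct.comm_tmul, Algebra.linearMap_apply, map_one]

theorem rTensor_comm_lTensor (φ : B →ₐ[R] B') (f : A →ₐ[R] B) (z : E ⊗[R] A) :
    LinearMap.rTensor E φ.toLinearMap (TensorProduct.comm R E B (LinearMap.lTensor E f.toLinearMap z)) =
      TensorProduct.comm R E B' (LinearMap.lTensor E (φ.comp f).toLinearMap z) := by
  induction z using TensorProduct.induction_on with
  | zero => simp
  | tmul e a => simp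
  | add x y hx hy => simp only [map_add, hx, hy]

theorem act_natural (δ : E →ₗ[R] E ⊗[R] A) (φ : B →ₐ[R] B') (f : A →ₐ[R] B) (w : B ⊗[R] E) :
    VecGrp.Wmap (M := E) φ (act δ f w) = act δ (φ.comp f) (VecGrp.Wmap (M := E) φ w) := by
  induction w using TensorProduct.induction_on with
  | zero => simp
  | tmul b x =>
    rw [act_tmul, VecGrp.Wmap_smul, VecGrp.Wmap_tmul, act_tmul, act₀_apply, act₀_apply]
    congr 1
    exact rTensor_comm_lTensor φ f (δ x)
  | add x y hx hy => simp only [map_add, hx, hy]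

end Alg

section Geo
open CategoryTheory MonObj GrpObj AlgebraicGeometry

variable {R : Type u} [CommRing R] {A : Type u} [CommRing A] [HopfAlgebra R A]
  {E : Type u} [AddCommGroup E] [Module R E]
  {B : Type u} [CommRing B] [Algebra R B] {B' : Type u} [CommRing B'] [Algebra R B']

/-- The algebra map of a point of `Spec A`. -/
noncomputable def sm
    (g : VecGrp.pt R B ⟶ (Spec (CommRingCat.of A)).asOver (Spec (CommRingCat.of R))) : A →ₐ[R] B :=
  (Spec.mapMulEquiv.symm g).ofConv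

/-- The point of `Spec A` attached to an algebra map. -/
noncomputable def ptOf (f : A →ₐ[R] B) :
    VecGrp.pt R B ⟶ (Spec (CommRingCat.of A)).asOver (Spec (CommRingCat.of R)) :=
  Spec.mapMulEquiv (WithConv.toConv f)

theorem sm_ptOf (f : A →ₐ[R] B) : sm (ptOf (R := R) f) = f :=
  congrArg WithConv.ofConv (Spec.mapMulEquiv.symm_apply_apply (WithConv.toConv f))

theorem ptOf_sm
    (g : VecGrp.pt R B ⟶ (Spec (CommRingCat.of A)).asOver (Spec (CommRingCat.of R))) :
    ptOf (sm g) = g :=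
  Spec.mapMulEquiv.apply_symm_apply g

theorem ptMap_comp_ptOf (φ : B →ₐ[R] B') (f : A →ₐ[R] B) :
    VecGrp.ptMap φ ≫ ptOf (R := R) f = ptOf (φ.comp f) := by
  apply Over.OverMorphism.ext
  exact (Spec.map_comp (CommRingCat.ofHom f.toRingHom) (CommRingCat.ofHom φ.toRingHom)).symm

theorem sm_ptMap_comp (φ : B →ₐ[R] B')
    (g : VecGrp.pt R B ⟶ (Spec (CommRingCat.of A)).asOver (Spec (CommRingCat.of R))) :
    sm (VecGrp.ptMap φ ≫ g) = φ.comp (sm g) := by
  have h1 : VecGrp.ptMap φ ≫ g = ptOf (φ.comp (sm g)) := by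
    have := ptMap_comp_ptOf (R := R) φ (sm g)
    rw [ptOf_sm] at this
    exact this
  rw [h1, sm_ptOf]

theorem sm_mul
    (g g' : VecGrp.pt R B ⟶ (Spec (CommRingCat.of A)).asOver (Spec (CommRingCat.of R))) :
    sm (g * g') = (WithConv.toConv (sm g) * WithConv.toConv (sm g')).ofConv :=
  congrArg WithConv.ofConv (map_mul (Spec.mapMulEquiv (R := R) (S := A) (T := B)).symm g g')

theorem sm_one :
    sm (1 : VecGrp.pt R B ⟶ (Spec (CommRingCat.of A)).asOver (Spec (CommRingCat.of R))) =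
      (1 : WithConv (A →ₐ[R] B)).ofConv :=
  congrArg WithConv.ofConv (map_one (Spec.mapMulEquiv (R := R) (S := A) (T := B)).symm)

variable (δ : E →ₗ[R] E ⊗[R] A)
    (hco : (TensorProduct.assoc R E A A).toLinearMap ∘ₗ δ.rTensor A ∘ₗ δ =
      (CoalgebraStruct.comul (R := R) (A := A)).lTensor E ∘ₗ δ)
    (hcu : (CoalgebraStruct.counit (R := R) (A := A)).lTensor E ∘ₗ δ = (TensorProduct.mk R E R).flip 1)

include hco hcu in
theorem act_sm_mul_inv
    (g : VecGrp.pt R B ⟶ (Spec (CommRingCat.of A)).asOver (Spec (CommRingCat.of R))) :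
    act δ (sm g) ∘ₗ act δ (sm g⁻¹) = LinearMap.id := by
  rw [← act_mul δ hco, ← sm_mul, mul_inv_cancel, sm_one, act_one δ hcu]

include hco hcu in
theorem act_sm_inv_mul
    (g : VecGrp.pt R B ⟶ (Spec (CommRingCat.of A)).asOver (Spec (CommRingCat.of R))) :
    act δ (sm g⁻¹) ∘ₗ act δ (sm g) = LinearMap.id := by
  rw [← act_mul δ hco, ← sm_mul, inv_mul_cancel, sm_one, act_one δ hcu]

/-- The `G`-module structure attached to a comodule structure. -/
noncomputable def gmodOfComod :
    VecGrp.GMod ((Spec (CommRingCat.of A)).asOver (Spec (CommRingCat.of R))) E where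
  ρ B _ _ := MonoidHom.mk' (fun g => LinearEquiv.ofLinearMap (act δ (sm g)) (act δ (sm g⁻¹))
      (act_sm_mul_inv δ hco hcu g) (act_sm_inv_mul δ hco hcu g)) (by
    intro g g'
    apply LinearEquiv.ext
    intro w
    show act δ (sm (g * g')) w = act δ (sm g) (act δ (sm g') w)
    rw [sm_mul, act_mul δ hco]
    rfl)
  naturality φ g x := by
    show VecGrp.Wmap φ (act δ (sm g) x) = act δ (sm (VecGrp.ptMap φ ≫ g)) (VecGrp.Wmap φ x)
    rw [sm_ptMap_comp, act_natural]

theorem gmodOfComod_apply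
    (g : VecGrp.pt R B ⟶ (Spec (CommRingCat.of A)).asOver (Spec (CommRingCat.of R))) (w : B ⊗[R] E) :
    (gmodOfComod δ hco hcu).ρ B g w = act δ (sm g) w := rfl

theorem gmod_ext {G : Over (Spec (CommRingCat.of R))} [GrpObj G] {m m' : VecGrp.GMod G E}
    (h : ∀ (B : Type u) [CommRing B] [Algebra R B] (g : VecGrp.pt R B ⟶ G) (w : B ⊗[R] E),
      m.ρ B g w = m'.ρ B g w) : m = m' := by
  obtain ⟨ρ, n⟩ := m
  obtain ⟨ρ', n'⟩ := m'
  have : ρ = ρ' := by
    funext B i1 i2
    apply MonoidHom.ext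
    intro g
    apply LinearEquiv.ext
    intro w
    exact h B g w
  subst this
  rfl

section Conv

variable (m : VecGrp.GMod ((Spec (CommRingCat.of A)).asOver (Spec (CommRingCat.of R))) E)

/-- The coaction attached to a `G`-module structure: the action of the universal point. -/
noncomputable def coactOf : E →ₗ[R] E ⊗[R] A :=
  (TensorProduct.comm R E A).symm.toLinearMap ∘ₗ
    ((m.ρ A (ptOf (AlgHom.id R A))).toLinearMap.restrictScalars R) ∘ₗ (TensorProduct.mk R A E 1)

theorem coactOf_apply (x : E) :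
    coactOf m x = (TensorProduct.comm R E A).symm (m.ρ A (ptOf (AlgHom.id R A)) ((1 : A) ⊗ₜ[R] x)) :=
  rfl

theorem rTensor_comm (φ : A →ₐ[R] B) (z : E ⊗[R] A) :
    VecGrp.Wmap (M := E) φ (TensorProduct.comm R E A z) =
      TensorProduct.comm R E B (LinearMap.lTensor E φ.toLinearMap z) := by
  induction z using TensorProduct.induction_on with
  | zero => simp
  | tmul e a => simp
  | add x y hx hy => simp only [map_add, hx, hy]

theorem rho_one_tmul
    (g : VecGrp.pt R B ⟶ (Spec (CommRingCat.of A)).asOver (Spec (CommRingCat.of R))) (x : E) :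
    m.ρ B g ((1 : B) ⊗ₜ[R] x) =
      TensorProduct.comm R E B (LinearMap.lTensor E (sm g).toLinearMap (coactOf m x)) := by
  have h1 := m.naturality (sm g) (ptOf (AlgHom.id R A)) ((1 : A) ⊗ₜ[R] x)
  have h2 : VecGrp.ptMap (sm g) ≫ ptOf (R := R) (AlgHom.id R A) = g := by
    rw [ptMap_comp_ptOf, AlgHom.comp_id, ptOf_sm]
  rw [h2, VecGrp.Wmap_tmul, map_one] at h1
  rw [← h1, ← rTensor_comm, coactOf_apply, LinearEquiv.apply_symm_apply]

theorem rho_eq_act
    (g : VecGrp.pt R B ⟶ (Spec (CommRingCat.of A)).asOver (Spec (CommRingCat.of R))) (w : B ⊗[R] E) :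
    m.ρ B g w = act (coactOf m) (sm g) w := by
  have : (m.ρ B g).toLinearMap = act (coactOf m) (sm g) := by
    apply ext_one_tmul
    intro x
    rw [act_one_tmul]
    exact rho_one_tmul m g x
  exact LinearMap.congr_fun this w

theorem incl_mul_incl :
    (WithConv.toConv (Algebra.TensorProduct.includeLeft : A →ₐ[R] A ⊗[R] A) *
      WithConv.toConv (Algebra.TensorProduct.includeRight : A →ₐ[R] A ⊗[R] A)).ofConv.toLinearMap =
      (CoalgebraStruct.comul (R := R) (A := A)) := by
  have h1 : (WithConv.toConv (Algebra.TensorProduct.includeLeft : A →ₐ[R] A ⊗[R] A) *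
      WithConv.toConv (Algebra.TensorProduct.includeRight : A →ₐ[R] A ⊗[R] A)).ofConv.toLinearMap =
      ((LinearMap.mul' R (A ⊗[R] A)) ∘ₗ TensorProduct.map
        (Algebra.TensorProduct.includeLeft : A →ₐ[R] A ⊗[R] A).toLinearMap
        (Algebra.TensorProduct.includeRight : A →ₐ[R] A ⊗[R] A).toLinearMap) ∘ₗ
        (CoalgebraStruct.comul (R := R) (A := A)) := rfl
  have h2 : (LinearMap.mul' R (A ⊗[R] A)) ∘ₗ TensorProduct.map
        (Algebra.TensorProduct.includeLeft : A →ₐ[R] A ⊗[R] A).toLinearMap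
        (Algebra.TensorProduct.includeRight : A →ₐ[R] A ⊗[R] A).toLinearMap = LinearMap.id := by
    apply TensorProduct.ext'
    intro a b
    simp
  rw [h1, h2, LinearMap.id_comp]

theorem coactOf_coassoc :
    (TensorProduct.assoc R E A A).toLinearMap ∘ₗ (coactOf m).rTensor A ∘ₗ coactOf m =
      (CoalgebraStruct.comul (R := R) (A := A)).lTensor E ∘ₗ coactOf m := by
  apply LinearMap.ext
  intro x
  simp only [LinearMap.comp_apply, LinearEquiv.coe_coe]
  apply (TensorProduct.comm R E (A ⊗[R] A)).injective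
  set g₁ : VecGrp.pt R (A ⊗[R] A) ⟶ (Spec (CommRingCat.of A)).asOver (Spec (CommRingCat.of R)) :=
    ptOf (Algebra.TensorProduct.includeLeft : A →ₐ[R] A ⊗[R] A) with hg₁
  set g₂ : VecGrp.pt R (A ⊗[R] A) ⟶ (Spec (CommRingCat.of A)).asOver (Spec (CommRingCat.of R)) :=
    ptOf (Algebra.TensorProduct.includeRight : A →ₐ[R] A ⊗[R] A) with hg₂
  have h1 : m.ρ (A ⊗[R] A) (g₁ * g₂) ((1 : A ⊗[R] A) ⊗ₜ[R] x) =
      m.ρ (A ⊗[R] A) g₁ (m.ρ (A ⊗[R] A) g₂ ((1 : A ⊗[R] A) ⊗ₜ[R] x)) := by
    rw [map_mul]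
    rfl
  rw [rho_one_tmul m (g₁ * g₂), rho_one_tmul m g₂, rho_eq_act m g₁, act_comm_lTensor, sm_mul,
    hg₁, hg₂, sm_ptOf, sm_ptOf, incl_mul_incl] at h1
  have h2 : (LinearMap.mul' R (A ⊗[R] A)) ∘ₗ TensorProduct.map
        (Algebra.TensorProduct.includeLeft : A →ₐ[R] A ⊗[R] A).toLinearMap
        (Algebra.TensorProduct.includeRight : A →ₐ[R] A ⊗[R] A).toLinearMap = LinearMap.id := by
    apply TensorProduct.ext'
    intro a b
    simp
  rw [h2, LinearMap.lTensor_id, LinearMap.id_apply] at h1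
  exact h1.symm

theorem coactOf_counit :
    (CoalgebraStruct.counit (R := R) (A := A)).lTensor E ∘ₗ coactOf m = (TensorProduct.mk R E R).flip 1 := by
  apply LinearMap.ext
  intro x
  simp only [LinearMap.comp_apply, LinearMap.flip_apply, TensorProduct.mk_apply]
  apply (TensorProduct.comm R E R).injective
  have h1 := rho_one_tmul m
    (1 : VecGrp.pt R R ⟶ (Spec (CommRingCat.of A)).asOver (Spec (CommRingCat.of R))) x
  rw [map_one, sm_one] at h1
  have h2 : (1 : WithConv (A →ₐ[R] R)).ofConv.toLinearMap =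
      (CoalgebraStruct.counit (R := R) (A := A)) := by
    apply LinearMap.ext
    intro a
    rfl
  rw [h2] at h1
  rw [← h1, TensorProduct.comm_tmul]
  rfl

end Conv

end Geo

end Groth.Agent.Lib.Helper23.GModComod
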