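import Mathlib
import Groth.Agent.Lib.Helper16.FinHopfConvHom
import Groth.Agent.Lib.Helper75.KerHopf

/-!
# The augmentation span of a Hopf algebra map and the Galois isomorphism (helper23)

For a bialgebra map `ψ : R → B` of commutative Hopf algebras over `k`:
* `augSpan ψ`: the ideal of `B` generated by the image of the augmentation ideal of `R`; it is a
  Hopf ideal;
* for every commutative `B`-algebra `Λ`, the Galois map `Λ ⊗[R] B → Λ ⊗[k] (B ⧸ augSpan ψ)`,
  `λ ⊗ b ↦ λ b₁ ⊗ [b₂]` is an isomorphism.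
-/

set_option autoImplicit false
set_option linter.unusedSectionVars false

namespace Groth.Agent.Lib.Helper23.HopfFlat

open TensorProduct WithConv Groth.Agent.Lib.Helper16.FinHopf

universe u v w x

section AugSpan

variable {k : Type u} [CommRing k] {R : Type v} [CommRing R] [HopfAlgebra k R]
  {B : Type w} [CommRing B] [HopfAlgebra k B]

/-- The ideal of `B` generated by the image of the augmentation ideal of `R`. -/
def augSpan (ψ : R →ₐc[k] B) : Ideal B :=
  Ideal.map (ψ : R →+* B) (RingHom.ker (Bialgebra.counitAlgHom k R))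

theorem sub_counit_mem_ker (r : R) :
    r - algebraMap k R (Coalgebra.counit (R := k) r) ∈ RingHom.ker (Bialgebra.counitAlgHom k R) := by
  rw [RingHom.mem_ker, map_sub]
  simp

theorem mk_augSpan_apply (ψ : R →ₐc[k] B) (r : R) :
    Ideal.Quotient.mk (augSpan ψ) (ψ r) =
      algebraMap k (B ⧸ augSpan ψ) (Coalgebra.counit (R := k) r) := by
  have h1 : (ψ : R →+* B) (r - algebraMap k R (Coalgebra.counit (R := k) r)) ∈ augSpan ψ :=
    Ideal.mem_map_of_mem _ (sub_counit_mem_ker r)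
  rw [← Ideal.Quotient.eq_zero_iff_mem, map_sub, map_sub, sub_eq_zero] at h1
  have h2 : (ψ : R →+* B) (algebraMap k R (Coalgebra.counit (R := k) r)) =
      algebraMap k B (Coalgebra.counit (R := k) r) := by
    show ψ (algebraMap k R _) = _
    exact AlgHomClass.commutes ψ _
  rw [h2] at h1
  exact h1

theorem augSpan_le_ker_counit (ψ : R →ₐc[k] B) :
    augSpan ψ ≤ RingHom.ker (Bialgebra.counitAlgHom k B) := by
  rw [augSpan, Ideal.map_le_iff_le_comap]
  intro r hr
  rw [Ideal.mem_comap, RingHom.mem_ker]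
  rw [RingHom.mem_ker] at hr
  show Coalgebra.counit (R := k) (ψ r) = 0
  have := CoalgHomClass.counit_comp_apply ψ r
  rw [this]
  exact hr

theorem map_counit_counit_comul (r : R) :
    TensorProduct.map (Coalgebra.counit (R := k) (A := R)) (Coalgebra.counit (R := k) (A := R))
      (Coalgebra.comul (R := k) r) = (1 : k) ⊗ₜ[k] Coalgebra.counit (R := k) r := by
  have h1 : TensorProduct.map (Coalgebra.counit (R := k) (A := R)) (Coalgebra.counit (R := k) (A := R)) =
      (Coalgebra.counit (R := k) (A := R)).lTensor k ∘ₗ (Coalgebra.counit (R := k) (A := R)).rTensor R := by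
    rw [LinearMap.lTensor_comp_rTensor]
  rw [h1, LinearMap.comp_apply, Coalgebra.rTensor_counit_comul, LinearMap.lTensor_tmul]

theorem isCoideal_augSpan (ψ : R →ₐc[k] B) : ((augSpan ψ).restrictScalars k).IsCoideal where
  counit_eq_zero := by
    intro x hx
    have := augSpan_le_ker_counit ψ hx
    exact this
  map_mkQ_comul_eq_zero := by
    intro x hx
    let D : B →ₐ[k] (B ⧸ augSpan ψ) ⊗[k] (B ⧸ augSpan ψ) :=
      (Algebra.TensorProduct.map (Ideal.Quotient.mkₐ k (augSpan ψ))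
        (Ideal.Quotient.mkₐ k (augSpan ψ))).comp (Bialgebra.comulAlgHom k B)
    have hle : augSpan ψ ≤ RingHom.ker D := by
      refine Ideal.map_le_iff_le_comap.2 ?_
      intro r hr
      rw [Ideal.mem_comap, RingHom.mem_ker]
      rw [RingHom.mem_ker] at hr
      have hr' : Coalgebra.counit (R := k) r = 0 := hr
      show TensorProduct.map (Ideal.Quotient.mkₐ k (augSpan ψ)).toLinearMap
        (Ideal.Quotient.mkₐ k (augSpan ψ)).toLinearMap (Coalgebra.comul (R := k) (ψ r)) = 0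
      rw [← CoalgHomClass.map_comp_comul_apply ψ r]
      have h2 : (Ideal.Quotient.mkₐ k (augSpan ψ)).toLinearMap ∘ₗ (ψ : R →ₗ[k] B) =
          (Algebra.linearMap k (B ⧸ augSpan ψ)) ∘ₗ (Coalgebra.counit (R := k) (A := R)) := by
        ext r'
        exact mk_augSpan_apply ψ r'
      have h3 : TensorProduct.map (Ideal.Quotient.mkₐ k (augSpan ψ)).toLinearMap
          (Ideal.Quotient.mkₐ k (augSpan ψ)).toLinearMap
          (TensorProduct.map (ψ : R →ₗ[k] B) (ψ : R →ₗ[k] B) (Coalgebra.comul (R := k) r)) =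
          TensorProduct.map (Algebra.linearMap k (B ⧸ augSpan ψ)) (Algebra.linearMap k (B ⧸ augSpan ψ))
            (TensorProduct.map (Coalgebra.counit (R := k) (A := R)) (Coalgebra.counit (R := k) (A := R))
              (Coalgebra.comul (R := k) r)) := by
        rw [← LinearMap.comp_apply, ← TensorProduct.map_comp, h2, TensorProduct.map_comp,
          LinearMap.comp_apply]
      rw [h3, map_counit_counit_comul, hr']
      simp
    exact hle hx

instance isHopfIdeal_augSpan (ψ : R →ₐc[k] B) : (augSpan ψ).IsHopfIdeal k :=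
  { isCoideal_augSpan ψ with
    antipode_mem := by
      intro x hx
      have hle : augSpan ψ ≤ (augSpan ψ).comap (HopfAlgebra.antipodeAlgHom k B) := by
        refine Ideal.map_le_iff_le_comap.2 ?_
        intro r hr
        rw [Ideal.mem_comap, Ideal.mem_comap]
        have h1 : HopfAlgebra.antipodeAlgHom k B (ψ r) = ψ (HopfAlgebraStruct.antipode (R := k) r) := by
          have := congrArg (fun f => f r) (Groth.Agent.Lib.Helper75.KerHopf.comp_antipode ψ)
          exact this.symm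
        show HopfAlgebra.antipodeAlgHom k B (ψ r) ∈ _
        rw [h1]
        refine Ideal.mem_map_of_mem _ ?_
        rw [RingHom.mem_ker] at hr ⊢
        show Coalgebra.counit (R := k) (HopfAlgebraStruct.antipode (R := k) r) = 0
        rw [HopfAlgebra.counit_antipode]
        exact hr
      exact hle hx }

end AugSpan

section ConvInv

variable {k : Type u} [CommRing k] {B : Type w} [CommRing B] [HopfAlgebra k B]
  {C : Type x} [CommRing C] [Algebra k C]

/-- The convolution inverse `f ∘ S` of a point `f`. -/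
noncomputable def cinv (f : WithConv (B →ₐ[k] C)) : WithConv (B →ₐ[k] C) :=
  toConv (f.ofConv.comp (HopfAlgebra.antipodeAlgHom k B))

theorem cinv_mul (f : WithConv (B →ₐ[k] C)) : cinv f * f = 1 := by
  have h := inv_mul_cancel (toConv (AlgHom.id k B))
  have h2 := congrArg (postComp (A := B) f.ofConv) h
  rw [map_mul, map_one] at h2
  have e1 : cinv f = (postComp f.ofConv) (toConv (AlgHom.id k B))⁻¹ := rfl
  have e2 : f = (postComp f.ofConv) (toConv (AlgHom.id k B)) := by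
    apply WithConv.ofConv_injective
    rfl
  rw [e1]
  nth_rewrite 2 [e2]
  exact h2

theorem mul_cinv (f : WithConv (B →ₐ[k] C)) : f * cinv f = 1 := by
  have h := mul_inv_cancel (toConv (AlgHom.id k B))
  have h2 := congrArg (postComp (A := B) f.ofConv) h
  rw [map_mul, map_one] at h2
  have e1 : cinv f = (postComp f.ofConv) (toConv (AlgHom.id k B))⁻¹ := rfl
  have e2 : f = (postComp f.ofConv) (toConv (AlgHom.id k B)) := by
    apply WithConv.ofConv_injective
    rfl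
  rw [e1]
  nth_rewrite 1 [e2]
  exact h2

theorem postComp_cinv {C' : Type*} [CommRing C'] [Algebra k C'] (g : C →ₐ[k] C')
    (f : WithConv (B →ₐ[k] C)) : postComp g (cinv f) = cinv (postComp g f) := rfl

theorem preComp_cinv {R : Type v} [CommRing R] [HopfAlgebra k R] (ψ : R →ₐc[k] B)
    (f : WithConv (B →ₐ[k] C)) : preComp ψ (cinv f) = cinv (preComp ψ f) := by
  have h1 : preComp ψ (cinv f) * preComp ψ f = 1 := by
    rw [← map_mul, cinv_mul, map_one]
  exact left_inv_eq_right_inv h1 (mul_cinv (preComp ψ f))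

theorem cinv_mul_cancel_left (f g : WithConv (B →ₐ[k] C)) : cinv f * (f * g) = g := by
  rw [← mul_assoc, cinv_mul, one_mul]

theorem mul_cinv_cancel_left (f g : WithConv (B →ₐ[k] C)) : f * (cinv f * g) = g := by
  rw [← mul_assoc, mul_cinv, one_mul]

end ConvInv

section Galois

variable {k : Type u} [CommRing k] {R : Type v} [CommRing R] [HopfAlgebra k R]
  {B : Type w} [CommRing B] [HopfAlgebra k B] (ψ : R →ₐc[k] B)
  (Λ : Type x) [CommRing Λ] [Algebra k Λ] [Algebra R B] [Algebra B Λ] [Algebra R Λ]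
  [IsScalarTower k R B] [IsScalarTower R B Λ] [IsScalarTower k B Λ] [IsScalarTower k R Λ]

/-- The point `b ↦ b ⊗ 1` of `Λ ⊗[k] (B ⧸ augSpan ψ)`. -/
noncomputable def ptΛ : WithConv (B →ₐ[k] Λ ⊗[k] (B ⧸ augSpan ψ)) :=
  toConv ((Algebra.TensorProduct.includeLeft : Λ →ₐ[k] Λ ⊗[k] (B ⧸ augSpan ψ)).comp
    (IsScalarTower.toAlgHom k B Λ))

/-- The point `b ↦ 1 ⊗ [b]` of `Λ ⊗[k] (B ⧸ augSpan ψ)`. -/
noncomputable def ptQ : WithConv (B →ₐ[k] Λ ⊗[k] (B ⧸ augSpan ψ)) :=
  toConv ((Algebra.TensorProduct.includeRight : (B ⧸ augSpan ψ) →ₐ[k] Λ ⊗[k] (B ⧸ augSpan ψ)).comp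
    (Ideal.Quotient.mkₐ k (augSpan ψ)))

/-- `b ↦ b₁ ⊗ [b₂]`. -/
noncomputable def thetaK : B →ₐ[k] Λ ⊗[k] (B ⧸ augSpan ψ) := (ptΛ ψ Λ * ptQ ψ Λ).ofConv

omit [Algebra R B] [Algebra B Λ] [Algebra R Λ] [IsScalarTower k R B] [IsScalarTower R B Λ]
  [IsScalarTower k B Λ] [IsScalarTower k R Λ] in
theorem preComp_ptQ : preComp ψ (ptQ ψ Λ) = 1 := by
  apply WithConv.ofConv_injective
  apply AlgHom.ext
  intro r
  show (1 : Λ) ⊗ₜ[k] (Ideal.Quotient.mk (augSpan ψ) (ψ r)) = _
  rw [mk_augSpan_apply]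
  simp only [Algebra.algebraMap_eq_smul_one, AlgHom.convOne_apply]
  rw [Algebra.TensorProduct.one_def, TensorProduct.tmul_smul]

variable (hψ : ∀ r, algebraMap R B r = ψ r)
include hψ

theorem thetaK_algebraMap (r : R) :
    thetaK ψ Λ (algebraMap R B r) = algebraMap R (Λ ⊗[k] (B ⧸ augSpan ψ)) r := by
  rw [hψ]
  have h1 : preComp ψ (ptΛ ψ Λ * ptQ ψ Λ) = preComp ψ (ptΛ ψ Λ) := by
    rw [map_mul, preComp_ptQ]
    exact mul_one (preComp ψ (ptΛ ψ Λ))
  have h2 := congrArg (fun f => f.ofConv r) h1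
  simp only [preComp_apply, WithConv.ofConv_toConv, AlgHom.comp_apply] at h2
  show (ptΛ ψ Λ * ptQ ψ Λ).ofConv (ψ r) = _
  refine h2.trans ?_
  show (algebraMap B Λ (ψ r)) ⊗ₜ[k] (1 : B ⧸ augSpan ψ) = _
  rw [← hψ, ← IsScalarTower.algebraMap_apply R B Λ]
  rfl

/-- `thetaK` as an `R`-algebra map. -/
noncomputable def thetaR : B →ₐ[R] Λ ⊗[k] (B ⧸ augSpan ψ) :=
  { (thetaK ψ Λ).toRingHom with
    commutes' := thetaK_algebraMap ψ Λ hψ }

/-- The Galois map `Λ ⊗[R] B → Λ ⊗[k] (B ⧸ augSpan ψ)`, `λ ⊗ b ↦ λ b₁ ⊗ [b₂]`. -/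
noncomputable def galoisF : Λ ⊗[R] B →ₐ[Λ] Λ ⊗[k] (B ⧸ augSpan ψ) :=
  Algebra.TensorProduct.lift (Algebra.ofId Λ _) (thetaR ψ Λ hψ) (fun _ _ => Commute.all _ _)

/-- The point `b ↦ b ⊗ 1` of `Λ ⊗[R] B`. -/
noncomputable def qtΛ : WithConv (B →ₐ[k] Λ ⊗[R] B) :=
  toConv ((Algebra.TensorProduct.includeLeft : Λ →ₐ[k] Λ ⊗[R] B).comp
    (IsScalarTower.toAlgHom k B Λ))

/-- The point `b ↦ 1 ⊗ b` of `Λ ⊗[R] B`. -/
noncomputable def qtB : WithConv (B →ₐ[k] Λ ⊗[R] B) :=
  toConv ((Algebra.TensorProduct.includeRight : B →ₐ[R] Λ ⊗[R] B).restrictScalars k)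

/-- `b ↦ S(b₁) ⊗ b₂`. -/
noncomputable def gammaK : B →ₐ[k] Λ ⊗[R] B := (cinv (qtΛ (R := R) Λ) * qtB Λ).ofConv

theorem preComp_qtB : preComp ψ (qtB (k := k) (R := R) Λ) = preComp ψ (qtΛ (k := k) (R := R) Λ) := by
  apply WithConv.ofConv_injective
  apply AlgHom.ext
  intro r
  show (1 : Λ) ⊗ₜ[R] (ψ r) = (algebraMap B Λ (ψ r)) ⊗ₜ[R] (1 : B)
  rw [← hψ, ← IsScalarTower.algebraMap_apply R B Λ, Algebra.algebraMap_eq_smul_one,
    Algebra.algebraMap_eq_smul_one, TensorProduct.smul_tmul]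

theorem gammaK_mem (b : B) (hb : b ∈ augSpan ψ) : gammaK (k := k) (R := R) Λ b = 0 := by
  have hle : augSpan ψ ≤ RingHom.ker (gammaK (k := k) (R := R) Λ) := by
    refine Ideal.map_le_iff_le_comap.2 ?_
    intro r hr
    rw [Ideal.mem_comap, RingHom.mem_ker]
    have h1 : preComp ψ (cinv (qtΛ (k := k) (R := R) Λ) * qtB Λ) = 1 := by
      rw [map_mul, preComp_qtB ψ Λ hψ, preComp_cinv]
      exact cinv_mul (preComp ψ (qtΛ (k := k) (R := R) Λ))
    have h2 := congrArg (fun f => f.ofConv r) h1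
    simp only [preComp_apply, WithConv.ofConv_toConv, AlgHom.comp_apply] at h2
    refine h2.trans ?_
    rw [RingHom.mem_ker] at hr
    show algebraMap k _ (Coalgebra.counit (R := k) r) = 0
    have hr' : Coalgebra.counit (R := k) r = 0 := hr
    rw [hr', map_zero]
  exact hle hb

/-- `gammaK` descended to the quotient. -/
noncomputable def gammaQ : (B ⧸ augSpan ψ) →ₐ[k] Λ ⊗[R] B :=
  Ideal.Quotient.liftₐ (augSpan ψ) (gammaK (k := k) (R := R) Λ) (gammaK_mem ψ Λ hψ)

/-- The inverse Galois map. -/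
noncomputable def galoisG : Λ ⊗[k] (B ⧸ augSpan ψ) →ₐ[Λ] Λ ⊗[R] B :=
  Algebra.TensorProduct.lift (Algebra.ofId Λ _) (gammaQ ψ Λ hψ) (fun _ _ => Commute.all _ _)

theorem galoisF_tmul (l : Λ) (b : B) :
    galoisF ψ Λ hψ (l ⊗ₜ[R] b) = (l ⊗ₜ[k] (1 : B ⧸ augSpan ψ)) * thetaK ψ Λ b := by
  simp [galoisF, thetaR, Algebra.ofId_apply, Algebra.TensorProduct.algebraMap_apply]

theorem galoisG_tmul (l : Λ) (b : B) :
    galoisG ψ Λ hψ (l ⊗ₜ[k] (Ideal.Quotient.mk (augSpan ψ) b)) =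
      (l ⊗ₜ[R] (1 : B)) * gammaK (k := k) (R := R) Λ b := by
  simp only [galoisG, gammaQ, Algebra.TensorProduct.lift_tmul, Algebra.ofId_apply,
    Algebra.TensorProduct.algebraMap_apply, Algebra.algebraMap_self, RingHom.id_apply]
  congr 1

theorem postComp_galoisG :
    postComp ((galoisG ψ Λ hψ).restrictScalars k) (ptΛ ψ Λ * ptQ ψ Λ) = qtB (k := k) (R := R) Λ := by
  have h1 : postComp ((galoisG ψ Λ hψ).restrictScalars k) (ptΛ ψ Λ) = qtΛ (k := k) (R := R) Λ := by
    apply WithConv.ofConv_injective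
    apply AlgHom.ext
    intro b
    show galoisG ψ Λ hψ ((algebraMap B Λ b) ⊗ₜ[k] (1 : B ⧸ augSpan ψ)) = (algebraMap B Λ b) ⊗ₜ[R] (1 : B)
    rw [← map_one (Ideal.Quotient.mk (augSpan ψ)), galoisG_tmul, map_one, mul_one]
  have h2 : postComp ((galoisG ψ Λ hψ).restrictScalars k) (ptQ ψ Λ) =
      cinv (qtΛ (k := k) (R := R) Λ) * qtB Λ := by
    apply WithConv.ofConv_injective
    apply AlgHom.ext
    intro b
    show galoisG ψ Λ hψ ((1 : Λ) ⊗ₜ[k] (Ideal.Quotient.mk (augSpan ψ) b)) = gammaK (k := k) (R := R) Λ b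
    rw [galoisG_tmul, ← Algebra.TensorProduct.one_def, one_mul]
  rw [map_mul, h1, h2, mul_cinv_cancel_left]

theorem postComp_galoisF :
    postComp ((galoisF ψ Λ hψ).restrictScalars k) (cinv (qtΛ (k := k) (R := R) Λ) * qtB Λ) =
      ptQ ψ Λ := by
  have h1 : postComp ((galoisF ψ Λ hψ).restrictScalars k) (qtΛ (k := k) (R := R) Λ) = ptΛ ψ Λ := by
    apply WithConv.ofConv_injective
    apply AlgHom.ext
    intro b
    show galoisF ψ Λ hψ ((algebraMap B Λ b) ⊗ₜ[R] (1 : B)) = (algebraMap B Λ b) ⊗ₜ[k] (1 : B ⧸ augSpan ψ)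
    rw [galoisF_tmul, map_one, mul_one]
  have h2 : postComp ((galoisF ψ Λ hψ).restrictScalars k) (qtB (k := k) (R := R) Λ) =
      ptΛ ψ Λ * ptQ ψ Λ := by
    apply WithConv.ofConv_injective
    apply AlgHom.ext
    intro b
    show galoisF ψ Λ hψ ((1 : Λ) ⊗ₜ[R] b) = thetaK ψ Λ b
    rw [galoisF_tmul, ← Algebra.TensorProduct.one_def, one_mul]
  rw [map_mul, postComp_cinv, h1, h2, cinv_mul_cancel_left]

theorem galoisG_galoisF (t : Λ ⊗[R] B) : galoisG ψ Λ hψ (galoisF ψ Λ hψ t) = t := by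
  induction t using TensorProduct.induction_on with
  | zero => simp
  | add x y hx hy => rw [map_add, map_add, hx, hy]
  | tmul l b =>
    rw [galoisF_tmul, map_mul]
    have h1 : galoisG ψ Λ hψ (l ⊗ₜ[k] (1 : B ⧸ augSpan ψ)) = l ⊗ₜ[R] (1 : B) := by
      rw [← map_one (Ideal.Quotient.mk (augSpan ψ)), galoisG_tmul, map_one, mul_one]
    have h2 : galoisG ψ Λ hψ (thetaK ψ Λ b) = (1 : Λ) ⊗ₜ[R] b := by
      have := congrArg (fun f => f.ofConv b) (postComp_galoisG ψ Λ hψ)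
      exact this
    rw [h1, h2, Algebra.TensorProduct.tmul_mul_tmul, mul_one, one_mul]

theorem galoisF_galoisG (t : Λ ⊗[k] (B ⧸ augSpan ψ)) : galoisF ψ Λ hψ (galoisG ψ Λ hψ t) = t := by
  induction t using TensorProduct.induction_on with
  | zero => simp
  | add x y hx hy => rw [map_add, map_add, hx, hy]
  | tmul l b =>
    obtain ⟨b, rfl⟩ := Ideal.Quotient.mk_surjective b
    rw [galoisG_tmul, map_mul]
    have h1 : galoisF ψ Λ hψ (l ⊗ₜ[R] (1 : B)) = l ⊗ₜ[k] (1 : B ⧸ augSpan ψ) := by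
      rw [galoisF_tmul, map_one, mul_one]
    have h2 : galoisF ψ Λ hψ (gammaK (k := k) (R := R) Λ b) =
        (1 : Λ) ⊗ₜ[k] (Ideal.Quotient.mk (augSpan ψ) b) := by
      have := congrArg (fun f => f.ofConv b) (postComp_galoisF ψ Λ hψ)
      exact this
    rw [h1, h2, Algebra.TensorProduct.tmul_mul_tmul, mul_one, one_mul]

/-- The Galois isomorphism `Λ ⊗[R] B ≃ Λ ⊗[k] (B ⧸ augSpan ψ)`. -/
noncomputable def galoisEquiv : (Λ ⊗[R] B) ≃ₐ[Λ] Λ ⊗[k] (B ⧸ augSpan ψ) :=
  AlgEquiv.ofAlgHom (galoisF ψ Λ hψ) (galoisG ψ Λ hψ)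
    (AlgHom.ext (galoisF_galoisG ψ Λ hψ)) (AlgHom.ext (galoisG_galoisF ψ Λ hψ))

end Galois

end Groth.Agent.Lib.Helper23.HopfFlat
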