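import Mathlib
import Groth.Agent.Lib.Helper23.HopfFlatGalois

/-!
# Hopf algebra structures on a polynomial algebra (helper23)

* `shearEquiv` : the shear automorphism `a ⊗ b ↦ (a ⊗ 1) Δ(b)` of `A ⊗ A`, linear over the left factor.
* `algEquiv_X_eq` : an automorphism of `B[X]` over a domain `B` sends `X` to `a X + b` with `a` a unit.
* `comul_eq_of_polynomial` : if a commutative Hopf algebra `A` over a field is a polynomial algebra on
  `t`, then `Δ t = t ⊗ 1 + 1 ⊗ t - ε(t)`.
-/

set_option autoImplicit false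

namespace Groth.Agent.Lib.Helper23.PolyHopf

open TensorProduct WithConv Groth.Agent.Lib.Helper16.FinHopf Groth.Agent.Lib.Helper23.HopfFlat
open Polynomial

universe u v

section Shear

variable {k : Type u} [CommRing k] {A : Type v} [CommRing A] [HopfAlgebra k A]

/-- the two coordinate points of `A ⊗ A` -/
noncomputable def p₁ : WithConv (A →ₐ[k] A ⊗[k] A) := toConv Algebra.TensorProduct.includeLeft

noncomputable def p₂ : WithConv (A →ₐ[k] A ⊗[k] A) := toConv Algebra.TensorProduct.includeRight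

theorem p₁_mul_p₂ : (p₁ * p₂ : WithConv (A →ₐ[k] A ⊗[k] A)) = toConv (Bialgebra.comulAlgHom k A) := by
  apply WithConv.ofConv_injective
  rw [AlgHom.convMul_def]
  show (Algebra.TensorProduct.lmul' k).comp
    ((Algebra.TensorProduct.map Algebra.TensorProduct.includeLeft
      Algebra.TensorProduct.includeRight).comp (Bialgebra.comulAlgHom k A)) = _
  have : (Algebra.TensorProduct.lmul' k).comp
      (Algebra.TensorProduct.map (Algebra.TensorProduct.includeLeft : A →ₐ[k] A ⊗[k] A)
        (Algebra.TensorProduct.includeRight : A →ₐ[k] A ⊗[k] A)) = AlgHom.id k (A ⊗[k] A) := by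
    apply Algebra.TensorProduct.ext'
    intro a b
    simp
  rw [← AlgHom.comp_assoc, this, AlgHom.id_comp]

/-- `a ⊗ b ↦ (a ⊗ 1) * g b` for a point `g`. -/
noncomputable def shearOf (g : WithConv (A →ₐ[k] A ⊗[k] A)) : A ⊗[k] A →ₐ[A] A ⊗[k] A :=
  Algebra.TensorProduct.lift (Algebra.ofId A (A ⊗[k] A)) g.ofConv (fun _ _ => Commute.all _ _)

theorem shearOf_tmul (g : WithConv (A →ₐ[k] A ⊗[k] A)) (a b : A) :
    shearOf g (a ⊗ₜ[k] b) = (a ⊗ₜ[k] (1 : A)) * g.ofConv b := by
  unfold shearOf
  rw [Algebra.TensorProduct.lift_tmul]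
  rfl

theorem postComp_shearOf_p₁ (g : WithConv (A →ₐ[k] A ⊗[k] A)) :
    postComp (A := A) ((shearOf g).restrictScalars k) p₁ = p₁ := by
  apply WithConv.ofConv_injective
  apply AlgHom.ext
  intro a
  show shearOf g (a ⊗ₜ[k] (1 : A)) = a ⊗ₜ[k] (1 : A)
  rw [shearOf_tmul, map_one, mul_one]

theorem postComp_shearOf_p₂ (g : WithConv (A →ₐ[k] A ⊗[k] A)) :
    postComp (A := A) ((shearOf g).restrictScalars k) p₂ = g := by
  apply WithConv.ofConv_injective
  apply AlgHom.ext
  intro a
  show shearOf g ((1 : A) ⊗ₜ[k] a) = g.ofConv a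
  rw [shearOf_tmul]
  show (1 : A ⊗[k] A) * _ = _
  rw [one_mul]

theorem shearOf_comp (g h : WithConv (A →ₐ[k] A ⊗[k] A))
    (hgh : postComp (A := A) ((shearOf g).restrictScalars k) h = p₂) (t : A ⊗[k] A) :
    shearOf g (shearOf h t) = t := by
  induction t using TensorProduct.induction_on with
  | zero => simp
  | add x y hx hy => rw [map_add, map_add, hx, hy]
  | tmul a b =>
    rw [shearOf_tmul, map_mul]
    have h1 : shearOf g (a ⊗ₜ[k] (1 : A)) = a ⊗ₜ[k] (1 : A) := by
      rw [shearOf_tmul, map_one, mul_one]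
    have h2 : shearOf g (h.ofConv b) = (1 : A) ⊗ₜ[k] b := by
      have := congrArg (fun f => f.ofConv b) hgh
      exact this
    rw [h1, h2, Algebra.TensorProduct.tmul_mul_tmul, mul_one, one_mul]

/-- The shear automorphism `a ⊗ b ↦ (a ⊗ 1) Δ(b)`. -/
noncomputable def shearEquiv : (A ⊗[k] A) ≃ₐ[A] (A ⊗[k] A) :=
  AlgEquiv.ofAlgHom (shearOf (p₁ * p₂)) (shearOf (cinv p₁ * p₂))
    (by
      apply AlgHom.ext
      intro t
      refine shearOf_comp _ _ ?_ t
      rw [map_mul, postComp_cinv, postComp_shearOf_p₁, postComp_shearOf_p₂,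
        cinv_mul_cancel_left])
    (by
      apply AlgHom.ext
      intro t
      refine shearOf_comp _ _ ?_ t
      rw [map_mul, postComp_shearOf_p₁, postComp_shearOf_p₂, mul_cinv_cancel_left])

theorem shearEquiv_one_tmul (b : A) :
    shearEquiv (k := k) ((1 : A) ⊗ₜ[k] b) = Coalgebra.comul (R := k) b := by
  show shearOf (p₁ * p₂) ((1 : A) ⊗ₜ[k] b) = _
  rw [shearOf_tmul, p₁_mul_p₂]
  show (1 : A ⊗[k] A) * _ = _
  rw [one_mul]
  rfl

end Shear

section Degree

variable {B : Type u} [CommRing B] [IsDomain B]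

theorem algEquiv_X_eq (σ : B[X] ≃ₐ[B] B[X]) :
    ∃ a b : B, IsUnit a ∧ σ X = C a * X + C b := by
  set p := σ X with hp
  set q := σ.symm X with hq
  have hcomp : ∀ r : B[X], σ r = r.comp p := by
    intro r
    have : (σ : B[X] →ₐ[B] B[X]) = aeval p := by
      apply Polynomial.algHom_ext
      simp [hp]
    have h2 := congrArg (fun f => f r) this
    simpa [Polynomial.comp, Polynomial.aeval_def] using h2
  have hcomp' : ∀ r : B[X], σ.symm r = r.comp q := by
    intro r
    have : (σ.symm : B[X] →ₐ[B] B[X]) = aeval q := by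
      apply Polynomial.algHom_ext
      simp [hq]
    have h2 := congrArg (fun f => f r) this
    simpa [Polynomial.comp, Polynomial.aeval_def] using h2
  have h1 : q.comp p = X := by
    rw [← hcomp q, hq, AlgEquiv.apply_symm_apply]
  have h1' : p.comp q = X := by
    rw [← hcomp' p, hp, AlgEquiv.symm_apply_apply]
  have hdeg : q.natDegree * p.natDegree = 1 := by
    rw [← Polynomial.natDegree_comp, h1, Polynomial.natDegree_X]
  have hpd : p.natDegree = 1 := Nat.eq_one_of_mul_eq_one_left hdeg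
  have hqd : q.natDegree = 1 := Nat.eq_one_of_mul_eq_one_right hdeg
  obtain ⟨a, b, hab⟩ : ∃ a b : B, p = C a * X + C b :=
    ⟨p.coeff 1, p.coeff 0, Polynomial.eq_X_add_C_of_natDegree_le_one (le_of_eq hpd)⟩
  obtain ⟨c, d, hcd⟩ : ∃ c d : B, q = C c * X + C d :=
    ⟨q.coeff 1, q.coeff 0, Polynomial.eq_X_add_C_of_natDegree_le_one (le_of_eq hqd)⟩
  refine ⟨a, b, ?_, hab⟩
  have h3 := congrArg (fun r => r.coeff 1) h1
  simp only [hcd, hab, Polynomial.add_comp, Polynomial.mul_comp, Polynomial.C_comp,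
    Polynomial.X_comp] at h3
  have h4 : (C c * (C a * X + C b) + C d : B[X]) = C (c * a) * X + C (c * b + d) := by
    simp only [map_mul, map_add]; ring
  rw [h4] at h3
  simp at h3
  exact IsUnit.of_mul_eq_one c (by rw [mul_comm]; exact h3)

end Degree

section Main

variable {k : Type u} [Field k] {A : Type v} [CommRing A] [HopfAlgebra k A]

/-- `A[X] ≃ A ⊗ A` over the left factor, `X ↦ 1 ⊗ φ X`. -/
noncomputable def polyTensor (φ : k[X] ≃ₐ[k] A) : A[X] ≃ₐ[A] A ⊗[k] A :=
  (polyEquivTensor' k A).trans (Algebra.TensorProduct.congr (AlgEquiv.refl : A ≃ₐ[A] A) φ)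

theorem polyTensor_X (φ : k[X] ≃ₐ[k] A) : polyTensor φ X = (1 : A) ⊗ₜ[k] φ X := by
  unfold polyTensor
  rw [AlgEquiv.trans_apply]
  simp

theorem polyTensor_C (φ : k[X] ≃ₐ[k] A) (a : A) : polyTensor φ (C a) = a ⊗ₜ[k] (1 : A) := by
  have := (polyTensor φ).commutes a
  exact this

theorem isUnit_of_polynomial (φ : k[X] ≃ₐ[k] A) (a : A) (ha : IsUnit a) :
    ∃ c : k, a = algebraMap k A c := by
  have h1 : IsUnit (φ.symm a) := ha.map φ.symm
  obtain ⟨r, -, hr⟩ := Polynomial.isUnit_iff.1 h1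
  refine ⟨r, ?_⟩
  have : a = φ (C r) := by rw [hr, AlgEquiv.apply_symm_apply]
  rw [this]
  exact (φ.commutes r)

theorem comul_eq_of_polynomial (φ : k[X] ≃ₐ[k] A) :
    Coalgebra.comul (R := k) (φ X) = φ X ⊗ₜ[k] (1 : A) + (1 : A) ⊗ₜ[k] φ X
      - algebraMap k (A ⊗[k] A) (Coalgebra.counit (R := k) (φ X)) := by
  have _ : IsDomain A := (MulEquiv.isDomain_iff φ.toMulEquiv).1 inferInstance
  set t := φ X with ht
  let σ : A[X] ≃ₐ[A] A[X] := (polyTensor φ).trans ((shearEquiv (k := k)).trans (polyTensor φ).symm)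
  obtain ⟨a, b, ha, hσ⟩ := algEquiv_X_eq σ
  obtain ⟨c, rfl⟩ := isUnit_of_polynomial φ a ha
  have hΔ : Coalgebra.comul (R := k) t = (algebraMap k A c) ⊗ₜ[k] t + b ⊗ₜ[k] (1 : A) := by
    have h1 : σ X = (polyTensor φ).symm (Coalgebra.comul (R := k) t) := by
      show (polyTensor φ).symm (shearEquiv (k := k) (polyTensor φ X)) = _
      rw [polyTensor_X, shearEquiv_one_tmul]
    have h2 : polyTensor φ (σ X) = Coalgebra.comul (R := k) t := by
      rw [h1, AlgEquiv.apply_symm_apply]
    rw [← h2, hσ, map_add, map_mul, polyTensor_C, polyTensor_C, polyTensor_X,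
      Algebra.TensorProduct.tmul_mul_tmul, mul_one, one_mul]
  -- counit axioms
  have hr := Coalgebra.rTensor_counit_comul (R := k) t
  have hl := Coalgebra.lTensor_counit_comul (R := k) t
  rw [hΔ, map_add, LinearMap.rTensor_tmul, LinearMap.rTensor_tmul] at hr
  rw [hΔ, map_add, LinearMap.lTensor_tmul, LinearMap.lTensor_tmul] at hl
  have hr' := congrArg (TensorProduct.lid k A) hr
  have hl' := congrArg (TensorProduct.rid k A) hl
  simp only [map_add, TensorProduct.lid_tmul, TensorProduct.rid_tmul] at hr' hl'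
  have hεc : Coalgebra.counit (R := k) (algebraMap k A c) = c := by
    rw [Algebra.algebraMap_eq_smul_one, map_smul, Bialgebra.counit_one, smul_eq_mul, mul_one]
  rw [hεc, one_smul] at hr'
  rw [Bialgebra.counit_one, one_smul, one_smul] at hl'
  -- hr' : c • t + ε b • 1 = t ; hl' : ε t • algebraMap c + b = t
  have h3 : (c - 1) • (X : k[X]) + C (Coalgebra.counit (R := k) b) = 0 := by
    apply φ.injective
    rw [map_add, map_smul, map_zero, ← ht, sub_smul, one_smul]
    have : φ (C (Coalgebra.counit (R := k) b)) = Coalgebra.counit (R := k) b • (1 : A) := by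
      rw [← Algebra.algebraMap_eq_smul_one]
      exact φ.commutes _
    rw [this, sub_add_eq_add_sub, hr', sub_self]
  have hc : c = 1 := by
    have := congrArg (fun p => p.coeff 1) h3
    simp at this
    exact sub_eq_zero.1 this
  subst hc
  have hb : b = t - Coalgebra.counit (R := k) t • (1 : A) := by
    rw [map_one] at hl'
    exact eq_sub_of_add_eq' hl'
  rw [hΔ, hb, map_one, Algebra.algebraMap_eq_smul_one (A := A ⊗[k] A), sub_tmul,
    Algebra.TensorProduct.one_def, smul_tmul']
  ring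

end Main

end Groth.Agent.Lib.Helper23.PolyHopf
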