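import Mathlib
import Groth.Agent.Lib.Helper23.PolyHopf
import Groth.Agent.Lib.Helper23.GaPoly

/-!
# Uniqueness of the group law on the affine line with a given unit (helper23)

Transport lemmas for monoid object structures, and the formula for the comultiplication of a group
structure on `op k[X]` in `(CommAlgCat k)ᵒᵖ`.
-/

set_option autoImplicit false

namespace Groth.Agent.Lib.Helper23.GrpLawUnique

universe u v u' v'
open CategoryTheory MonoidalCategory CartesianMonoidalCategory MonObj GrpObj Opposite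

section T1
variable {C : Type u} [Category.{v} C] [CartesianMonoidalCategory C] {G X : C}

theorem mul_eq_of_ofIso_mul_eq (h₁ h₂ : GrpObj G) (e : G ≅ X)
    (h : (@GrpObj.ofIso C _ _ G X h₁ e).mul = (@GrpObj.ofIso C _ _ G X h₂ e).mul) :
    h₁.mul = h₂.mul := by
  have h' : (e.inv ⊗ₘ e.inv) ≫ h₁.mul ≫ e.hom = (e.inv ⊗ₘ e.inv) ≫ h₂.mul ≫ e.hom := h
  have _ : IsIso (e.inv ⊗ₘ e.inv) := inferInstance
  rw [cancel_epi, cancel_mono] at h'
  exact h'

theorem ofIso_one_eq (h₁ h₂ : GrpObj G) (e : G ≅ X) (h : h₁.one = h₂.one) :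
    (@GrpObj.ofIso C _ _ G X h₁ e).one = (@GrpObj.ofIso C _ _ G X h₂ e).one := by
  show h₁.one ≫ e.hom = h₂.one ≫ e.hom
  rw [h]
end T1

section T2
variable {C : Type u} [Category.{v} C] [CartesianMonoidalCategory C] {D : Type u'} [Category.{v'} D]
  [CartesianMonoidalCategory D] (F : C ⥤ D) [F.Monoidal] (hF : F.FullyFaithful) (X : C)

theorem mul_eq_of_grpObj_mul_eq (g₁ g₂ : GrpObj (F.obj X))
    (h : (@Functor.FullyFaithful.grpObj C _ _ D _ _ F _ hF X g₁).mul =
      (@Functor.FullyFaithful.grpObj C _ _ D _ _ F _ hF X g₂).mul) : g₁.mul = g₂.mul := by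
  have h' : hF.preimage (Functor.OplaxMonoidal.δ F X X ≫ g₁.mul) =
      hF.preimage (Functor.OplaxMonoidal.δ F X X ≫ g₂.mul) := h
  have h2 := congrArg F.map h'
  rw [hF.map_preimage, hF.map_preimage] at h2
  exact (cancel_epi _).1 h2

theorem grpObj_one_eq (g₁ g₂ : GrpObj (F.obj X)) (h : g₁.one = g₂.one) :
    (@Functor.FullyFaithful.grpObj C _ _ D _ _ F _ hF X g₁).one =
      (@Functor.FullyFaithful.grpObj C _ _ D _ _ F _ hF X g₂).one := by
  show hF.preimage (Functor.OplaxMonoidal.η F ≫ g₁.one) =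
    hF.preimage (Functor.OplaxMonoidal.η F ≫ g₂.one)
  rw [h]
end T2

section Poly
open Polynomial TensorProduct

variable (k : Type u) [Field k]

/-- The polynomial algebra as an object of `(CommAlgCat k)ᵒᵖ`. -/
noncomputable abbrev Yk : (CommAlgCat (CommRingCat.of k))ᵒᵖ :=
  op (CommAlgCat.of (CommRingCat.of k) k[X])

theorem mul_unop_X (m : GrpObj (Yk k)) :
    (μ[Yk k]).unop.hom (X : k[X]) = (X : k[X]) ⊗ₜ[k] (1 : k[X]) + (1 : k[X]) ⊗ₜ[k] (X : k[X])
      - algebraMap k (k[X] ⊗[k] k[X]) ((η[Yk k]).unop.hom (X : k[X])) := by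
  let _ : HopfAlgebra k k[X] := instHopfAlgebraCarrierUnopCommAlgCatOfGrpObjOpposite (Yk k)
  exact Groth.Agent.Lib.Helper23.PolyHopf.comul_eq_of_polynomial (k := k) (A := k[X]) AlgEquiv.refl

theorem mul_eq_of_one_eq (m₁ m₂ : GrpObj (Yk k)) (h : m₁.one = m₂.one) : m₁.mul = m₂.mul := by
  apply Quiver.Hom.unop_inj
  apply CommAlgCat.hom_ext
  apply Polynomial.algHom_ext
  have h1 := mul_unop_X k m₁
  have h2 := mul_unop_X k m₂
  have h3 : (@MonObj.one _ _ _ (Yk k) m₁.toMonObj).unop.hom (X : k[X]) =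
      (@MonObj.one _ _ _ (Yk k) m₂.toMonObj).unop.hom (X : k[X]) := by
    have : @MonObj.one _ _ _ (Yk k) m₁.toMonObj = @MonObj.one _ _ _ (Yk k) m₂.toMonObj := h
    rw [this]
  rw [h3] at h1
  exact h1.trans h2.symm

end Poly

end Groth.Agent.Lib.Helper23.GrpLawUnique
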