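import Mathlib

/-!
# Subalgebras of `k[X]` stable under the Hasse derivatives (helper23)

A subalgebra `S ⊆ k[X]` stable under all Hasse derivatives (equivalently: a sub-bialgebra for the
additive comultiplication) and not reduced to the constants is generated by one polynomial (an
additive polynomial of minimal degree).
-/

set_option autoImplicit false

namespace Groth.Agent.Lib.Helper23.HopfSubPoly

open Polynomial

variable {k : Type*} [Field k]

theorem natDegree_hasseDeriv_eq (s : k[X]) (j : ℕ) (hj : j ≤ s.natDegree)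
    (hc : ((s.natDegree.choose j : ℕ) : k) ≠ 0) :
    (hasseDeriv j s).natDegree = s.natDegree - j := by
  by_cases hs : s = 0
  · subst hs; simp
  apply le_antisymm (natDegree_hasseDeriv_le s j)
  apply le_natDegree_of_ne_zero
  rw [hasseDeriv_coeff, Nat.sub_add_cancel hj]
  exact mul_ne_zero hc (by simpa using hs)

theorem exists_pow_choose_ne_zero (p : ℕ) [hp : ExpChar k p] (n : ℕ) (hn : 0 < n) :
    ∃ a : ℕ, p ^ a ∣ n ∧ ((n.choose (n - p ^ a) : ℕ) : k) ≠ 0 := by
  cases hp with
  | zero =>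
    refine ⟨0, by simp, ?_⟩
    rw [pow_zero, Nat.choose_symm (by omega), Nat.choose_one_right]
    exact Nat.cast_ne_zero.2 hn.ne'
  | prime hpp =>
    have : Fact p.Prime := ⟨hpp⟩
    obtain ⟨a, m, hm, rfl⟩ := Nat.exists_eq_pow_mul_and_not_dvd hn.ne' p hpp.ne_one
    refine ⟨a, Dvd.intro _ rfl, ?_⟩
    have hm1 : 1 ≤ m := by
      rcases Nat.eq_zero_or_pos m with h | h
      · subst h; simp at hm
      · exact h
    have hle : p ^ a ≤ p ^ a * m := Nat.le_mul_of_pos_right _ hm1
    rw [Nat.choose_symm hle]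
    have h1 : (p ^ a * m).choose (p ^ a * 1) ≡ m.choose 1 [MOD p] :=
      Choose.choose_pow_mul_pow_mul_modEq_choose_nat
    rw [mul_one, Nat.choose_one_right] at h1
    intro h0
    rw [CharP.cast_eq_zero_iff k p] at h0
    exact hm ((h1.dvd_iff dvd_rfl).1 h0)

variable (S : Subalgebra k k[X])

theorem exists_generator (hS : ∀ j, ∀ s ∈ S, hasseDeriv j s ∈ S)
    (hne : ∃ s ∈ S, 0 < s.natDegree) :
    ∃ P ∈ S, 0 < P.natDegree ∧ ∀ s ∈ S, s ∈ Algebra.adjoin k {P} := by
  classical
  -- minimal positive degree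
  have hne' : ∃ d : ℕ, 0 < d ∧ ∃ s ∈ S, s.natDegree = d := by
    obtain ⟨s, hs, h⟩ := hne
    exact ⟨_, h, s, hs, rfl⟩
  set d := Nat.find hne' with hd
  obtain ⟨hd0, P, hPS, hPd⟩ := Nat.find_spec hne'
  have hmin : ∀ s ∈ S, 0 < s.natDegree → d ≤ s.natDegree := fun s hs h =>
    Nat.find_min' hne' ⟨h, s, hs, rfl⟩
  refine ⟨P, hPS, by rw [hPd]; exact hd0, ?_⟩
  set p := ringExpChar k with hp
  have _ : ExpChar k p := ringExpChar.expChar k
  have hp1 : 1 ≤ p := expChar_pos k p
  -- for each element of positive degree, a `p`-power degree occurs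
  have key : ∀ s ∈ S, 0 < s.natDegree → ∃ a : ℕ, p ^ a ∣ s.natDegree ∧ d ≤ p ^ a := by
    intro s hs h
    obtain ⟨a, ha, hc⟩ := exists_pow_choose_ne_zero (k := k) p s.natDegree h
    refine ⟨a, ha, ?_⟩
    have hle : p ^ a ≤ s.natDegree := Nat.le_of_dvd h ha
    have h1 := natDegree_hasseDeriv_eq s (s.natDegree - p ^ a) (Nat.sub_le _ _) hc
    have h2 : s.natDegree - (s.natDegree - p ^ a) = p ^ a := by omega
    rw [h2] at h1
    have h3 := hmin _ (hS (s.natDegree - p ^ a) s hs) (by rw [h1]; positivity)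
    rwa [h1] at h3
  -- `d` is a `p`-power
  obtain ⟨a₀, ha₀, hda₀⟩ := key P hPS (by rw [hPd]; exact hd0)
  rw [hPd] at ha₀
  have hd_eq : d = p ^ a₀ := le_antisymm hda₀ (Nat.le_of_dvd hd0 ha₀)
  -- divisibility of all degrees
  have hdvd : ∀ s ∈ S, d ∣ s.natDegree := by
    intro s hs
    rcases Nat.eq_zero_or_pos s.natDegree with h | h
    · rw [h]; exact dvd_zero _
    obtain ⟨a, ha, hda⟩ := key s hs h
    refine dvd_trans ?_ ha
    rw [hd_eq]
    rcases Nat.lt_or_ge 1 p with hp2 | hp2
    · rw [hd_eq] at hda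
      exact pow_dvd_pow _ ((Nat.pow_le_pow_iff_right hp2).1 hda)
    · have : p = 1 := le_antisymm hp2 hp1
      rw [this]; simp
  -- induction on the degree
  have hPne : P ≠ 0 := by
    rintro rfl
    rw [natDegree_zero] at hPd
    omega
  have hind : ∀ n : ℕ, ∀ s ∈ S, s.natDegree = n → s ∈ Algebra.adjoin k {P} := by
    intro n
    induction n using Nat.strong_induction_on with
    | _ n ih =>
      intro s hs hn
      rcases Nat.eq_zero_or_pos n with h0 | h0
      · rw [h0] at hn
        rw [eq_C_of_natDegree_eq_zero hn]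
        exact Subalgebra.algebraMap_mem _ _
      obtain ⟨m, hm⟩ := hdvd s hs
      set c : k := s.leadingCoeff / P.leadingCoeff ^ m with hc
      set q : k[X] := C c * P ^ m with hq
      have hqS : q ∈ S := S.mul_mem (Subalgebra.algebraMap_mem S c) (S.pow_mem hPS m)
      have hqA : q ∈ Algebra.adjoin k {P} :=
        Subalgebra.mul_mem _ (Subalgebra.algebraMap_mem _ c)
          (Subalgebra.pow_mem _ (Algebra.subset_adjoin (Set.mem_singleton P)) m)
      have hsne : s ≠ 0 := by
        rintro rfl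
        rw [natDegree_zero] at hn
        omega
      have hcne : c ≠ 0 := by
        rw [hc]
        exact div_ne_zero (leadingCoeff_ne_zero.2 hsne) (pow_ne_zero _ (leadingCoeff_ne_zero.2 hPne))
      have hqdeg : q.natDegree = s.natDegree := by
        rw [hq, natDegree_C_mul hcne, natDegree_pow, hPd, hm, mul_comm]
      have hqlc : q.leadingCoeff = s.leadingCoeff := by
        rw [hq, leadingCoeff_mul, leadingCoeff_C, leadingCoeff_pow, hc,
          div_mul_cancel₀ _ (pow_ne_zero _ (leadingCoeff_ne_zero.2 hPne))]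
      have hqne : q ≠ 0 := by
        rw [hq]
        exact mul_ne_zero (C_ne_zero.2 hcne) (pow_ne_zero _ hPne)
      have hdeg : s.degree = q.degree := by
        rw [degree_eq_natDegree hsne, degree_eq_natDegree hqne, hqdeg]
      have hlt : (s - q).degree < s.degree := degree_sub_lt_left hdeg hsne hqlc.symm
      have hmem : s - q ∈ Algebra.adjoin k {P} := by
        by_cases hz : s - q = 0
        · rw [hz]; exact Subalgebra.zero_mem _
        · have hlt' : (s - q).natDegree < s.natDegree := natDegree_lt_natDegree hz hlt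
          exact ih _ (by rw [← hn]; exact hlt') (s - q) (S.sub_mem hs hqS) rfl
      have : s = (s - q) + q := by ring
      rw [this]
      exact Subalgebra.add_mem _ hmem hqA
  exact fun s hs => hind _ s hs rfl

/-- A non-constant polynomial generates a polynomial subalgebra. -/
theorem aeval_injective_of_natDegree_pos (P : k[X]) (hP : 0 < P.natDegree) :
    Function.Injective (aeval P : k[X] →ₐ[k] k[X]) := by
  rw [injective_iff_map_eq_zero]
  intro q hq
  have h1 : q.comp P = 0 := by
    rw [← hq]; rfl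
  have h2 := congrArg natDegree h1
  rw [natDegree_comp, natDegree_zero] at h2
  have h3 : q.natDegree = 0 := by
    rcases Nat.eq_zero_or_pos q.natDegree with h | h
    · exact h
    · exact absurd h2 (Nat.mul_pos h hP).ne'
  rw [eq_C_of_natDegree_eq_zero h3] at h1 ⊢
  rw [C_comp] at h1
  exact h1


section Bialg
open TensorProduct

variable {A B : Type*} [CommRing A] [Bialgebra k A] [CommRing B] [Bialgebra k B]

/-- The coefficient functional transported along `ψ`. -/
noncomputable def lam (ψ : k[X] ≃ₐ[k] A) (j : ℕ) : A →ₗ[k] k :=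
  (lcoeff k j) ∘ₗ ψ.symm.toLinearMap

/-- The operator `a ↦ Σ a₁ l(a₂)`. -/
noncomputable def Lop {C : Type*} [CommRing C] [Bialgebra k C] (l : C →ₗ[k] k) : C →ₗ[k] C :=
  (TensorProduct.rid k C).toLinearMap ∘ₗ (LinearMap.lTensor C l) ∘ₗ Coalgebra.comul

theorem Lop_map (φ : B →ₐc[k] A) (l : A →ₗ[k] k) (b : B) :
    Lop l (φ b) = φ (Lop (l ∘ₗ (φ : B →ₗ[k] A)) b) := by
  have hgen : ∀ x : B ⊗[k] B,
      (TensorProduct.rid k A) ((LinearMap.lTensor A l) (TensorProduct.map (φ : B →ₗ[k] A)
        (φ : B →ₗ[k] A) x)) =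
      φ ((TensorProduct.rid k B) ((LinearMap.lTensor B (l ∘ₗ (φ : B →ₗ[k] A))) x)) := by
    intro x
    induction x using TensorProduct.induction_on with
    | zero => simp
    | tmul b₁ b₂ =>
      simp only [TensorProduct.map_tmul, LinearMap.lTensor_tmul, TensorProduct.rid_tmul,
        LinearMap.comp_apply, map_smul]
      rfl
    | add x y hx hy => simp only [map_add, hx, hy]
  show (TensorProduct.rid k A) ((LinearMap.lTensor A l) (Coalgebra.comul (R := k) (φ b))) = _
  rw [← CoalgHomClass.map_comp_comul_apply φ b]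
  exact hgen _

theorem Lop_lam (ψ : k[X] ≃ₐ[k] A)
    (hprim : Coalgebra.comul (R := k) (ψ X) = ψ X ⊗ₜ[k] (1 : A) + (1 : A) ⊗ₜ[k] ψ X)
    (j : ℕ) (f : k[X]) : Lop (lam ψ j) (ψ f) = ψ (hasseDeriv j f) := by
  have hlin : (Lop (lam ψ j)) ∘ₗ ψ.toLinearMap = ψ.toLinearMap ∘ₗ (hasseDeriv j) := by
    apply Polynomial.lhom_ext'
    intro n
    apply LinearMap.ext_ring
    simp only [LinearMap.comp_apply, AlgEquiv.toLinearMap_apply]
    rw [hasseDeriv_monomial, mul_one, ← C_mul_X_pow_eq_monomial, ← C_mul_X_pow_eq_monomial,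
      C_1, one_mul]
    set t := ψ X with ht
    show (TensorProduct.rid k A) ((LinearMap.lTensor A (lam ψ j))
      (Coalgebra.comul (R := k) (ψ (X ^ n)))) = _
    rw [map_pow, Bialgebra.comul_pow, hprim, add_pow, map_sum, map_sum]
    have hterm : ∀ m ∈ Finset.range (n + 1),
        (TensorProduct.rid k A) ((LinearMap.lTensor A (lam ψ j))
          ((t ⊗ₜ[k] (1 : A)) ^ m * ((1 : A) ⊗ₜ[k] t) ^ (n - m) * ((n.choose m : ℕ) : A ⊗[k] A))) =
        if n - m = j then ((n.choose m : ℕ) : k) • t ^ m else 0 := by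
      intro m hm
      rw [Algebra.TensorProduct.tmul_pow, Algebra.TensorProduct.tmul_pow, one_pow, one_pow,
        Algebra.TensorProduct.tmul_mul_tmul, mul_one, one_mul, ← nsmul_eq_mul', map_nsmul,
        map_nsmul, LinearMap.lTensor_tmul, TensorProduct.rid_tmul]
      have : lam ψ j (t ^ (n - m)) = if n - m = j then 1 else 0 := by
        show (ψ.symm (t ^ (n - m))).coeff j = _
        rw [map_pow, ht, AlgEquiv.symm_apply_apply, coeff_X_pow]
        simp only [eq_comm]
      rw [this]
      split_ifs with h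
      · rw [one_smul, Nat.cast_smul_eq_nsmul]
      · rw [zero_smul, smul_zero]
    rw [Finset.sum_congr rfl hterm]
    by_cases hjn : j ≤ n
    · rw [Finset.sum_eq_single (n - j)]
      · rw [if_pos (by omega), Nat.choose_symm hjn, map_mul, map_pow, ← ht]
        rw [Algebra.smul_def]
        congr 1
        exact (ψ.commutes _).symm
      · intro m hm hne
        rw [if_neg]
        have := Finset.mem_range.1 hm
        omega
      · intro h
        exact absurd (Finset.mem_range.2 (by omega)) h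
    · rw [Finset.sum_eq_zero, Nat.choose_eq_zero_of_lt (by omega)]
      · simp
      · intro m hm
        rw [if_neg]
        omega
  exact LinearMap.congr_fun hlin f

/-- A bialgebra mapping injectively and non-constantly into a polynomial bialgebra with primitive
variable is itself a polynomial algebra. -/
theorem nonempty_algEquiv_polynomial (ψ : k[X] ≃ₐ[k] A)
    (hprim : Coalgebra.comul (R := k) (ψ X) = ψ X ⊗ₜ[k] (1 : A) + (1 : A) ⊗ₜ[k] ψ X)
    (φ : B →ₐc[k] A) (hφ : Function.Injective φ)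
    (hne : ∃ b : B, φ b ∉ Set.range (algebraMap k A)) :
    Nonempty (k[X] ≃ₐ[k] B) := by
  let S : Subalgebra k k[X] := (AlgHom.range (φ : B →ₐ[k] A)).comap (ψ : k[X] →ₐ[k] A)
  have hmem : ∀ f : k[X], f ∈ S ↔ ∃ b : B, φ b = ψ f := by
    intro f
    show ψ f ∈ AlgHom.range (φ : B →ₐ[k] A) ↔ _
    rw [AlgHom.mem_range]
    rfl
  have hS : ∀ j, ∀ s ∈ S, hasseDeriv j s ∈ S := by
    intro j s hs
    obtain ⟨b, hb⟩ := (hmem s).1 hs
    refine (hmem _).2 ⟨Lop ((lam ψ j) ∘ₗ (φ : B →ₗ[k] A)) b, ?_⟩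
    rw [← Lop_map, hb, Lop_lam ψ hprim]
  have hne' : ∃ s ∈ S, 0 < s.natDegree := by
    obtain ⟨b, hb⟩ := hne
    refine ⟨ψ.symm (φ b), (hmem _).2 ⟨b, by rw [AlgEquiv.apply_symm_apply]⟩, ?_⟩
    by_contra h0
    have h0' : (ψ.symm (φ b)).natDegree = 0 := by omega
    apply hb
    have h1 := eq_C_of_natDegree_eq_zero h0'
    have h2 : φ b = ψ (C ((ψ.symm (φ b)).coeff 0)) := by
      rw [← h1, AlgEquiv.apply_symm_apply]
    exact ⟨(ψ.symm (φ b)).coeff 0, ((ψ.commutes _).symm.trans h2.symm)⟩
  obtain ⟨P, hPS, hPd, hgen⟩ := exists_generator S hS hne'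
  obtain ⟨b₀, hb₀⟩ := (hmem P).1 hPS
  let χ : k[X] →ₐ[k] B := aeval b₀
  have hχ : ∀ q : k[X], φ (χ q) = ψ (aeval P q) := by
    have : ((φ : B →ₐ[k] A).comp χ) = ((ψ : k[X] →ₐ[k] A).comp (aeval P)) := by
      apply Polynomial.algHom_ext
      show φ (aeval b₀ X) = ψ (aeval P X)
      rw [aeval_X, aeval_X, hb₀]
    exact fun q => AlgHom.congr_fun this q
  have hinj : Function.Injective χ := by
    intro q₁ q₂ h
    have h1 : ψ (aeval P q₁) = ψ (aeval P q₂) := by rw [← hχ, ← hχ, h]
    exact aeval_injective_of_natDegree_pos P hPd (ψ.injective h1)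
  have hsurj : Function.Surjective χ := by
    intro b
    have h1 : ψ.symm (φ b) ∈ S := (hmem _).2 ⟨b, by rw [AlgEquiv.apply_symm_apply]⟩
    have h2 := hgen _ h1
    rw [Algebra.adjoin_singleton_eq_range_aeval, AlgHom.mem_range] at h2
    obtain ⟨q, hq⟩ := h2
    refine ⟨q, hφ ?_⟩
    rw [hχ, hq, AlgEquiv.apply_symm_apply]
  exact ⟨AlgEquiv.ofBijective χ ⟨hinj, hsurj⟩⟩

end Bialg

end Groth.Agent.Lib.Helper23.HopfSubPoly
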