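import Mathlib
import Groth.Agent.Lib.Helper23.GaPoly
import Groth.Agent.Lib.Helper23.GrpLawUnique
import Groth.Agent.Lib.Helper23.AffGrpHopf
import Groth.Agent.Lib.Helper23.HopfSubPoly

/-!
# Group schemes whose underlying scheme is the affine line (helper23)

* `exists_transl` : translations of a group object move any point to the unit;
* `ga_mul_eq_of_one_eq` : uniqueness of the group law on `𝔾_a` with given unit;
* `nonempty_grpIso_ga_of_iso` : a group scheme whose underlying scheme is isomorphic to `𝔾_a` is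
  isomorphic to `𝔾_a` as a group scheme;
* `algEquivOfSpecIso` : algebra isomorphisms from isomorphisms of spectra.
-/

set_option autoImplicit false

namespace Groth.Agent.Lib.Helper23.GaIsog

universe u
open CategoryTheory MonoidalCategory CartesianMonoidalCategory MonObj GrpObj AlgebraicGeometry
  Opposite Polynomial
open AlgGrp

section Transl

variable {C : Type*} [Category C] [CartesianMonoidalCategory C]

theorem exists_transl (G : C) [GrpObj G] (g : 𝟙_ C ⟶ G) : ∃ τ : G ≅ G, g ≫ τ.hom = η[G] := by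
  have h1 : ∀ t : G ⟶ G, t ≫ toUnit G = toUnit G := fun t => toUnit_unique _ _
  refine ⟨⟨𝟙 G * (toUnit G ≫ g⁻¹), 𝟙 G * (toUnit G ≫ g), ?_, ?_⟩, ?_⟩
  · rw [MonObj.comp_mul, Category.comp_id, ← Category.assoc, h1, _root_.mul_assoc, ← MonObj.comp_mul,
      inv_mul_cancel, MonObj.comp_one, _root_.mul_one]
  · rw [MonObj.comp_mul, Category.comp_id, ← Category.assoc, h1, _root_.mul_assoc, ← MonObj.comp_mul,
      mul_inv_cancel, MonObj.comp_one, _root_.mul_one]
  · show g ≫ (𝟙 G * (toUnit G ≫ g⁻¹)) = η[G]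
    rw [MonObj.comp_mul, Category.comp_id, ← Category.assoc]
    have : g ≫ toUnit G = 𝟙 _ := toUnit_unique _ _
    rw [this, Category.id_comp, mul_inv_cancel, MonObj.one_eq_one]

end Transl

section Ga

variable (k : Type u) [Field k]

theorem ga_mul_eq_of_one_eq
    (h₁ h₂ : GrpObj (Red.Ga (Spec (CommRingCat.of k)))) (e : h₁.one = h₂.one) : h₁.mul = h₂.mul := by
  open Groth.Agent.Lib.Helper23.GrpLawUnique Groth.Agent.Lib.Helper23.GaPoly in
  let instM : (algSpec (CommRingCat.of k)).Monoidal :=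
    (braidedAlgSpec (R := CommRingCat.of k)).toMonoidal
  let e₀ : Red.Ga (Spec (CommRingCat.of k)) ≅ (algSpec (CommRingCat.of k)).obj (Yk k) :=
    (gaPolyIso k).symm
  let g₁ : GrpObj ((algSpec (CommRingCat.of k)).obj (Yk k)) :=
    @GrpObj.ofIso _ _ _ _ _ h₁ e₀
  let g₂ : GrpObj ((algSpec (CommRingCat.of k)).obj (Yk k)) :=
    @GrpObj.ofIso _ _ _ _ _ h₂ e₀
  let m₁ : GrpObj (Yk k) :=
    @Functor.FullyFaithful.grpObj _ _ _ _ _ _ (algSpec (CommRingCat.of k)) _
      algSpec.fullyFaithful (Yk k) g₁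
  let m₂ : GrpObj (Yk k) :=
    @Functor.FullyFaithful.grpObj _ _ _ _ _ _ (algSpec (CommRingCat.of k)) _
      algSpec.fullyFaithful (Yk k) g₂
  have hg1 : g₁.one = g₂.one := ofIso_one_eq h₁ h₂ e₀ e
  have hm1 : m₁.one = m₂.one :=
    grpObj_one_eq (algSpec (CommRingCat.of k)) algSpec.fullyFaithful (Yk k) g₁ g₂ hg1
  have hm : m₁.mul = m₂.mul := mul_eq_of_one_eq k m₁ m₂ hm1
  have hg : g₁.mul = g₂.mul :=
    mul_eq_of_grpObj_mul_eq (algSpec (CommRingCat.of k)) algSpec.fullyFaithful (Yk k) g₁ g₂ hm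
  exact mul_eq_of_ofIso_mul_eq h₁ h₂ e₀ hg

theorem isMonHom_of_one (H : Over (Spec (CommRingCat.of k))) [hH : GrpObj H]
    (E : H ≅ Red.Ga (Spec (CommRingCat.of k)))
    (hone : η[H] ≫ E.hom = η[Red.Ga (Spec (CommRingCat.of k))]) : IsMonHom E.hom := by
  have hmul := ga_mul_eq_of_one_eq k (@GrpObj.ofIso _ _ _ H _ hH E) inferInstance hone
  have h3 : (E.inv ⊗ₘ E.inv) ≫ μ[H] ≫ E.hom = μ[Red.Ga (Spec (CommRingCat.of k))] := hmul
  refine ⟨hone, ?_⟩
  rw [← h3, tensorHom_comp_tensorHom_assoc, E.hom_inv_id, tensorHom_id, id_whiskerRight,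
    Category.id_comp]

theorem nonempty_grpIso_ga_of_iso (H : Over (Spec (CommRingCat.of k))) [hH : GrpObj H]
    (e : H ≅ Red.Ga (Spec (CommRingCat.of k))) :
    Nonempty (Grp.mk H ≅ Grp.mk (Red.Ga (Spec (CommRingCat.of k)))) := by
  obtain ⟨τ, hτ⟩ := exists_transl (Red.Ga (Spec (CommRingCat.of k))) (η[H] ≫ e.hom)
  have hE : IsMonHom (e ≪≫ τ).hom := by
    apply isMonHom_of_one
    show η[H] ≫ (e.hom ≫ τ.hom) = _
    rw [← Category.assoc]
    exact hτ
  exact ⟨Grp.mkIso' (e ≪≫ τ)⟩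

end Ga

section Alg

variable {R : CommRingCat.{u}} {A B : Type u} [CommRing A] [CommRing B] [Algebra R A] [Algebra R B]

/-- An isomorphism of spectra over `Spec R` gives an algebra isomorphism. -/
theorem exists_algEquiv_of_specIso (e : Spec (CommRingCat.of A) ≅ Spec (CommRingCat.of B))
    (he : e.hom ≫ Spec.map (CommRingCat.ofHom (algebraMap R B)) =
      Spec.map (CommRingCat.ofHom (algebraMap R A))) :
    ∃ ψ : B ≃ₐ[R] A, Spec.map (CommRingCat.ofHom (ψ : B →+* A)) = e.hom := by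
  have he' : e.inv ≫ Spec.map (CommRingCat.ofHom (algebraMap R A)) =
      Spec.map (CommRingCat.ofHom (algebraMap R B)) := by
    rw [← he, Iso.inv_hom_id_assoc]
  let u : CommRingCat.of B ⟶ CommRingCat.of A := Spec.preimage e.hom
  let v : CommRingCat.of A ⟶ CommRingCat.of B := Spec.preimage e.inv
  have hu : Spec.map u = e.hom := Spec.map_preimage _
  have hv : Spec.map v = e.inv := Spec.map_preimage _
  have huv : u ≫ v = 𝟙 _ := by
    apply Spec.map_injective
    rw [Spec.map_comp, hu, hv, Spec.map_id, e.inv_hom_id]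
  have hvu : v ≫ u = 𝟙 _ := by
    apply Spec.map_injective
    rw [Spec.map_comp, hu, hv, Spec.map_id, e.hom_inv_id]
  have hcu : CommRingCat.ofHom (algebraMap R B) ≫ u = CommRingCat.ofHom (algebraMap R A) := by
    apply Spec.map_injective
    rw [Spec.map_comp, hu, he]
  have hcv : CommRingCat.ofHom (algebraMap R A) ≫ v = CommRingCat.ofHom (algebraMap R B) := by
    apply Spec.map_injective
    rw [Spec.map_comp, hv, he']
  let f : B →ₐ[R] A := ⟨u.hom, fun r => congr($hcu r)⟩
  let g : A →ₐ[R] B := ⟨v.hom, fun r => congr($hcv r)⟩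
  refine ⟨AlgEquiv.ofAlgHom f g ?_ ?_, ?_⟩
  · ext a
    exact congr($hvu a)
  · ext b
    exact congr($huv b)
  · exact hu

end Alg

end Groth.Agent.Lib.Helper23.GaIsog
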