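import Mathlib
import Groth.Agent.Lib.Helper23.GrpLawUnique
import Groth.Agent.Lib.Helper23.LaurentHopf
import Groth.Agent.Lib.Helper23.GmPoly

/-!
# Uniqueness of the group law on the punctured affine line with a given unit (helper23)
-/

set_option autoImplicit false

namespace Groth.Agent.Lib.Helper23.GrpLawUnique

universe u
open CategoryTheory MonoidalCategory CartesianMonoidalCategory MonObj GrpObj Opposite
open LaurentPolynomial TensorProduct

variable (k : Type u) [Field k]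

/-- The Laurent polynomial algebra as an object of `(CommAlgCat k)ᵒᵖ`. -/
noncomputable abbrev YkL : (CommAlgCat (CommRingCat.of k))ᵒᵖ :=
  op (CommAlgCat.of (CommRingCat.of k) k[T;T⁻¹])

theorem mul_unop_T (m : GrpObj (YkL k)) :
    (@MonObj.mul _ _ _ (YkL k) m.toMonObj).unop.hom (T 1 : k[T;T⁻¹]) =
      ((@MonObj.one _ _ _ (YkL k) m.toMonObj).unop.hom (T 1 : k[T;T⁻¹]))⁻¹ •
        ((T 1 : k[T;T⁻¹]) ⊗ₜ[k] (T 1 : k[T;T⁻¹])) := by
  let H : HopfAlgebra k k[T;T⁻¹] :=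
    @instHopfAlgebraCarrierUnopCommAlgCatOfGrpObjOpposite _ _ (YkL k) m
  exact @Groth.Agent.Lib.Helper23.LaurentHopf.comul_eq_of_laurent k _ k[T;T⁻¹] _ H.toBialgebra
    AlgEquiv.refl

theorem laurent_algHom_ext {S : Type*} [CommRing S] [Algebra k S] (f g : k[T;T⁻¹] →ₐ[k] S)
    (h : f (T 1) = g (T 1)) : f = g := by
  apply AlgHom.coe_ringHom_injective
  apply Groth.Agent.Lib.Helper23.LaurentHopf.laurent_ringHom_ext
  · intro r
    show f (C r) = g (C r)
    rw [LaurentPolynomial.C_eq_algebraMap, f.commutes, g.commutes]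
  · exact h

theorem mul_eq_of_one_eq_L (m₁ m₂ : GrpObj (YkL k)) (h : m₁.one = m₂.one) : m₁.mul = m₂.mul := by
  apply Quiver.Hom.unop_inj
  apply CommAlgCat.hom_ext
  apply laurent_algHom_ext
  have h1 := mul_unop_T k m₁
  have h2 := mul_unop_T k m₂
  have h3 : (@MonObj.one _ _ _ (YkL k) m₁.toMonObj).unop.hom (T 1 : k[T;T⁻¹]) =
      (@MonObj.one _ _ _ (YkL k) m₂.toMonObj).unop.hom (T 1 : k[T;T⁻¹]) := by
    have : @MonObj.one _ _ _ (YkL k) m₁.toMonObj = @MonObj.one _ _ _ (YkL k) m₂.toMonObj := h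
    rw [this]
  exact h1.trans ((congrArg (fun c : k => c⁻¹ • ((T 1 : k[T;T⁻¹]) ⊗ₜ[k] (T 1 : k[T;T⁻¹]))) h3).trans
    h2.symm)

end Groth.Agent.Lib.Helper23.GrpLawUnique
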