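import Mathlib
import Groth.Agent.Lib.Helper23.GrpLawUniqueGm

/-!
# Group laws on the punctured line in coordinates (helper23)
-/

set_option autoImplicit false
universe u
open CategoryTheory MonoidalCategory CartesianMonoidalCategory MonObj GrpObj AlgebraicGeometry CategoryTheory.Limits
open Groth.Agent.Lib.Helper23.GrpLawUnique LaurentPolynomial TensorProduct

namespace Groth.Agent.Lib.Helper23.GmCoord

variable (k : Type u) [Field k]

/-- coordinate function -/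
noncomputable def coord {A : Type u} [CommRing A] {X : Scheme.{u}} (f : X ⟶ Spec (CommRingCat.of A)) (a : A) : Γ(X, ⊤) :=
  f.appTop.hom ((Scheme.ΓSpecIso (CommRingCat.of A)).inv.hom a)

theorem coord_comp {A : Type u} [CommRing A] {X Y : Scheme.{u}} (g : Y ⟶ X) (f : X ⟶ Spec (CommRingCat.of A)) (a : A) :
    coord (g ≫ f) a = g.appTop.hom (coord f a) := by
  unfold coord
  rw [Scheme.Hom.comp_appTop]
  rfl

theorem coord_comp_specMap {A B : Type u} [CommRing A] [CommRing B] {X : Scheme.{u}}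
    (f : X ⟶ Spec (CommRingCat.of B)) (φ : A →+* B) (a : A) :
    coord (f ≫ Spec.map (CommRingCat.ofHom φ)) a = coord f (φ a) := by
  unfold coord
  rw [Scheme.Hom.comp_appTop]
  have := Scheme.ΓSpecIso_inv_naturality (CommRingCat.ofHom φ)
  have h2 := congrArg (fun t => t.hom a) this
  simp only [CommRingCat.hom_comp, RingHom.coe_comp, Function.comp_apply, CommRingCat.hom_ofHom] at h2
  rw [CommRingCat.hom_comp, RingHom.coe_comp, Function.comp_apply, ← h2]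

theorem coord_mul {A : Type u} [CommRing A] {X : Scheme.{u}} (f : X ⟶ Spec (CommRingCat.of A)) (a b : A) :
    coord f (a * b) = coord f a * coord f b := by
  unfold coord
  rw [map_mul, map_mul]

theorem coord_specMap_injective {A B : Type u} [CommRing A] [CommRing B] (φ : A →+* B) (a : A) :
    coord (Spec.map (CommRingCat.ofHom φ)) a = (Scheme.ΓSpecIso (CommRingCat.of B)).inv.hom (φ a) := by
  have := coord_comp_specMap (𝟙 (Spec (CommRingCat.of B))) φ a
  rw [Category.id_comp] at this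
  rw [this]
  unfold coord
  simp

theorem key
    (G : Over (Spec (CommRingCat.of k))) [GrpObj G]
    (e : G.left ≅ Spec (CommRingCat.of (LaurentPolynomial k)))
    (he : e.hom ≫ Spec.map (CommRingCat.ofHom (algebraMap k (LaurentPolynomial k))) = G.hom)
    (hunit : coord ((η[G]).left ≫ e.hom) (T 1 : k[T;T⁻¹]) = 1)
    (S : Over (Spec (CommRingCat.of k))) (g h : S ⟶ G) :
    coord ((g * h).left ≫ e.hom) (T 1 : k[T;T⁻¹]) =
      coord (g.left ≫ e.hom) (T 1 : k[T;T⁻¹]) * coord (h.left ≫ e.hom) (T 1 : k[T;T⁻¹]) := by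
  let F := algSpec (CommRingCat.of k)
  let instM : F.Monoidal := (braidedAlgSpec (R := CommRingCat.of k)).toMonoidal
  let Y := YkL k
  let e₀ : G ≅ F.obj Y := Over.isoMk e he
  let g₁ : GrpObj (F.obj Y) := @GrpObj.ofIso _ _ _ _ _ ‹GrpObj G› e₀
  let m₁ : GrpObj Y := @Functor.FullyFaithful.grpObj _ _ _ _ _ _ F _ algSpec.fullyFaithful Y g₁
  have hT := mul_unop_T k m₁
  have honeF : F.map (@MonObj.one _ _ _ Y m₁.toMonObj) = Functor.OplaxMonoidal.η F ≫ (η[G] ≫ e₀.hom) :=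
    algSpec.fullyFaithful.map_preimage _
  have hmulF : F.map (@MonObj.mul _ _ _ Y m₁.toMonObj) = Functor.OplaxMonoidal.δ F Y Y ≫ ((e₀.inv ⊗ₘ e₀.inv) ≫ μ[G] ≫ e₀.hom) :=
    algSpec.fullyFaithful.map_preimage _
  -- the unit
  have hone : (@MonObj.one _ _ _ Y m₁.toMonObj).unop.hom (T 1 : k[T;T⁻¹]) = (1 : k) := by
    have h1 := congrArg (fun t => t.left) honeF
    have h2 : Spec.map (CommRingCat.ofHom
        ((@MonObj.one _ _ _ Y m₁.toMonObj).unop.hom : k[T;T⁻¹] →+* k)) = (η[G]).left ≫ e.hom := by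
      refine Eq.trans ?_ (h1.trans ?_)
      · rfl
      · show 𝟙 _ ≫ ((η[G]).left ≫ e.hom) = _
        rw [Category.id_comp]
    rw [← h2, coord_specMap_injective] at hunit
    have hinj : Function.Injective (Scheme.ΓSpecIso (CommRingCat.of k)).inv.hom :=
      ((ConcreteCategory.isIso_iff_bijective (Scheme.ΓSpecIso (CommRingCat.of k)).inv).1
        inferInstance).1
    apply hinj
    exact hunit.trans (map_one _).symm
  rw [hone, inv_one, one_smul] at hT
  -- the multiplication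
  have hμ : μ[G] ≫ e₀.hom = (e₀.hom ⊗ₘ e₀.hom) ≫ Functor.LaxMonoidal.μ F Y Y ≫
      F.map (@MonObj.mul _ _ _ Y m₁.toMonObj) := by
    rw [hmulF, Functor.Monoidal.μ_δ_assoc, ← Category.assoc, ← Category.assoc,
      tensorHom_comp_tensorHom, Iso.hom_inv_id, tensorHom_id, id_whiskerRight, Category.id_comp]
  let g' : S ⟶ F.obj Y := g ≫ e₀.hom
  let h' : S ⟶ F.obj Y := h ≫ e₀.hom
  let A : S ⟶ F.obj (Y ⊗ Y) := lift g' h' ≫ Functor.LaxMonoidal.μ F Y Y
  have hgh : (g * h) ≫ e₀.hom = A ≫ F.map (@MonObj.mul _ _ _ Y m₁.toMonObj) := by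
    show (lift g h ≫ μ[G]) ≫ e₀.hom = _
    rw [Category.assoc, hμ, ← Category.assoc, lift_map, Category.assoc]
  have hA1 : A ≫ F.map (fst Y Y) = g' := by
    show (lift g' h' ≫ Functor.LaxMonoidal.μ F Y Y) ≫ F.map (fst Y Y) = g'
    rw [Category.assoc, Functor.Monoidal.μ_fst, lift_fst]
  have hA2 : A ≫ F.map (snd Y Y) = h' := by
    show (lift g' h' ≫ Functor.LaxMonoidal.μ F Y Y) ≫ F.map (snd Y Y) = h'
    rw [Category.assoc, Functor.Monoidal.μ_snd, lift_snd]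
  obtain ⟨A', hA'⟩ : ∃ A' : S.left ⟶ Spec (CommRingCat.of (k[T;T⁻¹] ⊗[k] k[T;T⁻¹])), A' = A.left :=
    ⟨_, rfl⟩
  have e1 : (g * h).left ≫ e.hom = A' ≫ Spec.map (CommRingCat.ofHom
      ((@MonObj.mul _ _ _ Y m₁.toMonObj).unop.hom : k[T;T⁻¹] →+* k[T;T⁻¹] ⊗[k] k[T;T⁻¹])) :=
    hA' ▸ congrArg (fun t => t.left) hgh
  have e2 : g.left ≫ e.hom = A' ≫ Spec.map (CommRingCat.ofHom
      ((Algebra.TensorProduct.includeLeft : k[T;T⁻¹] →ₐ[k] k[T;T⁻¹] ⊗[k] k[T;T⁻¹]) : k[T;T⁻¹] →+* k[T;T⁻¹] ⊗[k] k[T;T⁻¹])) :=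
    hA' ▸ (congrArg (fun t => t.left) hA1).symm
  have e3 : h.left ≫ e.hom = A' ≫ Spec.map (CommRingCat.ofHom
      ((Algebra.TensorProduct.includeRight : k[T;T⁻¹] →ₐ[k] k[T;T⁻¹] ⊗[k] k[T;T⁻¹]) : k[T;T⁻¹] →+* k[T;T⁻¹] ⊗[k] k[T;T⁻¹])) :=
    hA' ▸ (congrArg (fun t => t.left) hA2).symm
  rw [e1, e2, e3, coord_comp_specMap, coord_comp_specMap, coord_comp_specMap, ← coord_mul]
  congr 1
  refine Eq.trans hT ?_
  show _ = (T 1 : k[T;T⁻¹]) ⊗ₜ[k] (1 : k[T;T⁻¹]) * (1 : k[T;T⁻¹]) ⊗ₜ[k] (T 1 : k[T;T⁻¹])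
  rw [Algebra.TensorProduct.tmul_mul_tmul, _root_.mul_one, _root_.one_mul]

end Groth.Agent.Lib.Helper23.GmCoord
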