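import Groth.Agent.Lib.Helper23.GITAffine

/-!
# Linear coactions on polynomial rings: grading, Hilbert's finiteness theorem (helper23)
-/

set_option autoImplicit false
universe u v w w'

open TensorProduct Groth.Agent.Lib.Helper75 Groth.Agent.Lib.Helper23.Reynolds
  Groth.Agent.Lib.Helper23.GITAffine

namespace Groth.Agent.Lib.Helper23.GradedInv

attribute [local instance] comodModule

section Products

variable {K : Type u} [Field K] {A : Type v} [CommRing A] [Bialgebra K A]
variable {R : Type w} [CommRing R] [Algebra K R]

/-- `W ⊗ A` inside `R ⊗ A` -/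
def tens (A : Type v) [CommRing A] [Bialgebra K A] (W : Submodule K R) : Submodule K (R ⊗[K] A) :=
  LinearMap.range (W.subtype.rTensor A)

theorem tmul_mem_tens {W : Submodule K R} {w : R} (hw : w ∈ W) (a : A) :
    w ⊗ₜ[K] a ∈ tens A W := ⟨(⟨w, hw⟩ : W) ⊗ₜ[K] a, by simp⟩

theorem tens_mono {W W' : Submodule K R} (h : W ≤ W') : tens A W ≤ tens A W' := by
  rintro _ ⟨x, rfl⟩
  induction x using TensorProduct.induction_on with
  | zero => simp
  | tmul w a => simpa using tmul_mem_tens (h w.2) a
  | add x y hx hy => rw [map_add]; exact Submodule.add_mem _ hx hy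

theorem mul_mem_tens {W W' : Submodule K R} {x y : R ⊗[K] A} (hx : x ∈ tens A W)
    (hy : y ∈ tens A W') : x * y ∈ tens A (W * W') := by
  obtain ⟨x', rfl⟩ := hx
  obtain ⟨y', rfl⟩ := hy
  induction x' using TensorProduct.induction_on with
  | zero => simp
  | tmul w a =>
    induction y' using TensorProduct.induction_on with
    | zero => simp
    | tmul w' b =>
      simp only [LinearMap.rTensor_tmul, Submodule.subtype_apply,
        Algebra.TensorProduct.tmul_mul_tmul]
      exact tmul_mem_tens (Submodule.mul_mem_mul w.2 w'.2) _
    | add y₁ y₂ h₁ h₂ => rw [map_add, mul_add]; exact Submodule.add_mem _ h₁ h₂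
  | add x₁ x₂ h₁ h₂ => rw [map_add, add_mul]; exact Submodule.add_mem _ h₁ h₂

variable [HopfRep.Comod K A R]

theorem isSubcomod_iff_tens (W : Submodule K R) :
    HopfRep.IsSubcomod (k := K) (A := A) W ↔
      ∀ w ∈ W, HopfRep.Comod.coact (k := K) (A := A) w ∈ tens A W := Iff.rfl

/-- the product of two subcomodules of a comodule algebra is a subcomodule -/
theorem isSubcomod_mul
    (hmul : ∀ f g : R, HopfRep.Comod.coact (k := K) (A := A) (f * g) =
      HopfRep.Comod.coact (k := K) (A := A) f * HopfRep.Comod.coact (k := K) (A := A) g)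
    {W W' : Submodule K R} (hW : HopfRep.IsSubcomod (k := K) (A := A) W)
    (hW' : HopfRep.IsSubcomod (k := K) (A := A) W') :
    HopfRep.IsSubcomod (k := K) (A := A) (W * W') := by
  intro x hx
  change HopfRep.Comod.coact (k := K) (A := A) x ∈ tens A (W * W')
  induction hx using Submodule.mul_induction_on' with
  | mem_mul_mem w hw w' hw' =>
    rw [hmul]
    exact mul_mem_tens (hW w hw) (hW' w' hw')
  | add x _ y _ hx hy => rw [map_add]; exact Submodule.add_mem _ hx hy

theorem isSubcomod_one
    (hone : HopfRep.Comod.coact (k := K) (A := A) (1 : R) = 1) :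
    HopfRep.IsSubcomod (k := K) (A := A) (1 : Submodule K R) := by
  intro x hx
  change HopfRep.Comod.coact (k := K) (A := A) x ∈ tens A (1 : Submodule K R)
  obtain ⟨c, rfl⟩ := Submodule.mem_one.mp hx
  rw [Algebra.algebraMap_eq_smul_one, map_smul, hone, Algebra.TensorProduct.one_def]
  exact Submodule.smul_mem _ _ (tmul_mem_tens (Submodule.one_le.mp le_rfl) 1)

theorem isSubcomod_pow
    (hmul : ∀ f g : R, HopfRep.Comod.coact (k := K) (A := A) (f * g) =
      HopfRep.Comod.coact (k := K) (A := A) f * HopfRep.Comod.coact (k := K) (A := A) g)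
    (hone : HopfRep.Comod.coact (k := K) (A := A) (1 : R) = 1)
    {W : Submodule K R} (hW : HopfRep.IsSubcomod (k := K) (A := A) W) (n : ℕ) :
    HopfRep.IsSubcomod (k := K) (A := A) (W ^ n) := by
  induction n with
  | zero => rw [pow_zero]; exact isSubcomod_one hone
  | succ n ih => rw [pow_succ]; exact isSubcomod_mul hmul ih hW

theorem isSubcomod_span {S : Set R}
    (h : ∀ x ∈ S, HopfRep.Comod.coact (k := K) (A := A) x ∈ tens A (Submodule.span K S)) :
    HopfRep.IsSubcomod (k := K) (A := A) (Submodule.span K S) := by
  intro x hx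
  change HopfRep.Comod.coact (k := K) (A := A) x ∈ tens A (Submodule.span K S)
  induction hx using Submodule.span_induction with
  | mem x hx => exact h x hx
  | zero => rw [map_zero]; exact Submodule.zero_mem _
  | add x y _ _ hx hy => rw [map_add]; exact Submodule.add_mem _ hx hy
  | smul c x _ hx => rw [map_smul]; exact Submodule.smul_mem _ _ hx

end Products

section Poly

variable {K : Type u} [Field K] {A : Type v} [CommRing A] [Bialgebra K A]
variable {σ : Type w} [HopfRep.Comod K A (MvPolynomial σ K)]

/-- the linearity hypothesis: each variable is sent into `(linear forms) ⊗ A` -/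
def IsLin (K : Type u) [Field K] (A : Type v) [CommRing A] [Bialgebra K A] (σ : Type w)
    [HopfRep.Comod K A (MvPolynomial σ K)] : Prop :=
  ∀ i : σ, HopfRep.Comod.coact (k := K) (A := A) (MvPolynomial.X i : MvPolynomial σ K) ∈
    tens A (MvPolynomial.homogeneousSubmodule σ K 1)

variable (hmul : ∀ f g : MvPolynomial σ K, HopfRep.Comod.coact (k := K) (A := A) (f * g) =
      HopfRep.Comod.coact (k := K) (A := A) f * HopfRep.Comod.coact (k := K) (A := A) g)
  (hone : HopfRep.Comod.coact (k := K) (A := A) (1 : MvPolynomial σ K) = 1)
  (hlin : IsLin K A σ)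

include hmul hone hlin

/-- homogeneous polynomials of degree `d` form a subcomodule -/
theorem isSubcomod_homogeneousSubmodule (d : ℕ) :
    HopfRep.IsSubcomod (k := K) (A := A) (MvPolynomial.homogeneousSubmodule σ K d) := by
  rw [← MvPolynomial.homogeneousSubmodule_one_pow]
  apply isSubcomod_pow hmul hone
  rw [MvPolynomial.homogeneousSubmodule_one_eq_span_X]
  apply isSubcomod_span
  rintro _ ⟨i, rfl⟩
  rw [← MvPolynomial.homogeneousSubmodule_one_eq_span_X]
  exact hlin i

/-- taking the homogeneous component of degree `d` commutes with the action of functionals -/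
theorem homogeneousComponent_act (d : ℕ) (f : A →ₗ[K] K) (p : MvPolynomial σ K) :
    MvPolynomial.homogeneousComponent d (act f p) =
      act f (MvPolynomial.homogeneousComponent d p) := by
  have hsub := fun e => (isSubcomod_iff (MvPolynomial.homogeneousSubmodule σ K e)).1
    (isSubcomod_homogeneousSubmodule hmul hone hlin e) f
  conv_lhs => rw [← MvPolynomial.sum_homogeneousComponent p, map_sum, map_sum]
  have hterm : ∀ e ∈ Finset.range (p.totalDegree + 1),
      MvPolynomial.homogeneousComponent d (act f (MvPolynomial.homogeneousComponent e p)) =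
        if d = e then act f (MvPolynomial.homogeneousComponent e p) else 0 := by
    intro e _
    exact MvPolynomial.homogeneousComponent_of_mem
      (hsub e _ (MvPolynomial.homogeneousComponent_mem e p))
  rw [Finset.sum_congr rfl hterm, Finset.sum_ite_eq]
  split_ifs with h
  · rfl
  · have : MvPolynomial.homogeneousComponent d p = 0 := by
      apply MvPolynomial.homogeneousComponent_eq_zero
      rw [Finset.mem_range, not_lt] at h
      omega
    rw [this, map_zero]

/-- the homogeneous component maps, as comodule maps -/
theorem isComodHom_homogeneousComponent (d : ℕ) :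
    Hoch.IsComodHom A (MvPolynomial.homogeneousComponent d :
      MvPolynomial σ K →ₗ[K] MvPolynomial σ K) := by
  rw [isComodHom_iff]
  intro f p
  exact homogeneousComponent_act hmul hone hlin d f p

/-- homogeneous components of invariants are invariant -/
theorem homogeneousComponent_mem_fixedPts (d : ℕ) {p : MvPolynomial σ K}
    (hp : p ∈ HopfRep.fixedPts K A (MvPolynomial σ K)) :
    MvPolynomial.homogeneousComponent d p ∈ HopfRep.fixedPts K A (MvPolynomial σ K) :=
  map_mem_fixedPts (toDualLinearMap _ (isComodHom_homogeneousComponent hmul hone hlin d)) hp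

end Poly

section Hilbert

variable {K : Type u} [Field K] {σ : Type w}

theorem homogeneousComponent_mul_of_isHomogeneous (c y : MvPolynomial σ K) {e : ℕ}
    (hy : y.IsHomogeneous e) (d : ℕ) :
    MvPolynomial.homogeneousComponent d (c * y) =
      (if e ≤ d then MvPolynomial.homogeneousComponent (d - e) c else 0) * y := by
  conv_lhs => rw [← MvPolynomial.sum_homogeneousComponent c, Finset.sum_mul, map_sum]
  have hterm : ∀ j ∈ Finset.range (c.totalDegree + 1),
      MvPolynomial.homogeneousComponent d (MvPolynomial.homogeneousComponent j c * y) =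
        if d = j + e then MvPolynomial.homogeneousComponent j c * y else 0 := by
    intro j _
    exact MvPolynomial.homogeneousComponent_of_mem
      ((MvPolynomial.homogeneousComponent_isHomogeneous j c).mul hy)
  rw [Finset.sum_congr rfl hterm]
  split_ifs with h
  · have : ∀ j, (d = j + e) ↔ (d - e = j) := by intro j; omega
    simp_rw [this]
    rw [Finset.sum_ite_eq]
    split_ifs with h2
    · rfl
    · have : MvPolynomial.homogeneousComponent (d - e) c = 0 := by
        apply MvPolynomial.homogeneousComponent_eq_zero
        rw [Finset.mem_range, not_lt] at h2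
        omega
      rw [this, zero_mul]
  · rw [zero_mul]
    apply Finset.sum_eq_zero
    intro j _
    rw [if_neg]
    omega

variable {A : Type v} [CommRing A] [Bialgebra K A] [HopfRep.Comod K A (MvPolynomial σ K)]

/-- **Hilbert's finiteness theorem** for a linear coaction of a linearly reductive bialgebra on a
polynomial ring in finitely many variables. -/
theorem exists_finset_generators [Finite σ]
    [IsSemisimpleModule (DualAlg K A) (MvPolynomial σ K)]
    (hmul : ∀ f g : MvPolynomial σ K, HopfRep.Comod.coact (k := K) (A := A) (f * g) =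
      HopfRep.Comod.coact (k := K) (A := A) f * HopfRep.Comod.coact (k := K) (A := A) g)
    (hone : HopfRep.Comod.coact (k := K) (A := A) (1 : MvPolynomial σ K) = 1)
    (hlin : IsLin K A σ) :
    ∃ s : Finset (MvPolynomial σ K),
      (∀ f ∈ s, f ∈ HopfRep.fixedPts K A (MvPolynomial σ K)) ∧
      ∀ f ∈ HopfRep.fixedPts K A (MvPolynomial σ K),
        f ∈ Algebra.adjoin K (s : Set (MvPolynomial σ K)) := by
  obtain ⟨E, hE⟩ := exists_isReynoldsK (K := K) (A := A) (V := MvPolynomial σ K)
  -- homogeneous invariants of positive degree
  let S : Set (MvPolynomial σ K) :=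
    {F | F ∈ HopfRep.fixedPts K A (MvPolynomial σ K) ∧ ∃ d : ℕ, 0 < d ∧ F.IsHomogeneous d}
  have hfg : (Ideal.span S).FG := IsNoetherian.noetherian _
  obtain ⟨s, hsS, hspan⟩ := (Submodule.fg_span_iff_fg_span_finset_subset _).mp hfg
  refine ⟨s, fun f hf => (hsS hf).1, ?_⟩
  -- homogeneous invariants
  have key : ∀ d : ℕ, ∀ F ∈ HopfRep.fixedPts K A (MvPolynomial σ K), F.IsHomogeneous d →
      F ∈ Algebra.adjoin K (s : Set (MvPolynomial σ K)) := by
    intro d
    induction d using Nat.strong_induction_on with
    | _ d ih =>
      intro F hF hFd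
      rcases Nat.eq_zero_or_pos d with rfl | hd
      · have : F = MvPolynomial.C (MvPolynomial.coeff 0 F) := by
          have := (MvPolynomial.totalDegree_zero_iff_isHomogeneous σ).mpr hFd
          exact (MvPolynomial.totalDegree_eq_zero_iff_eq_C).mp this
        rw [this]
        exact Subalgebra.algebraMap_mem _ _
      · have hFS : F ∈ Ideal.span S := Ideal.subset_span ⟨hF, d, hd, hFd⟩
        have hFs : F ∈ Submodule.span (MvPolynomial σ K) (s : Set (MvPolynomial σ K)) := by
          rw [← hspan]; exact hFS
        obtain ⟨c, -, hc⟩ := Submodule.mem_span_finset.mp hFs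
        have h1 : E (MvPolynomial.homogeneousComponent d F) = F := by
          rw [MvPolynomial.homogeneousComponent_eq_self hFd]
          exact hE.apply_of_mem hF
        rw [← h1, ← hc, map_sum, map_sum]
        refine Subalgebra.sum_mem _ fun y hy => ?_
        obtain ⟨hyinv, e, he, hye⟩ := hsS hy
        rw [smul_eq_mul, homogeneousComponent_mul_of_isHomogeneous _ _ hye,
          reynolds_mul hmul hE _ hyinv]
        refine Subalgebra.mul_mem _ ?_ (Algebra.subset_adjoin hy)
        split_ifs with hle
        · refine ih (d - e) (by omega) _ (hE.apply_mem _) ?_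
          exact hE.apply_mem_of_mem _ (isSubcomod_homogeneousSubmodule hmul hone hlin (d - e))
            (MvPolynomial.homogeneousComponent_mem _ _)
        · rw [map_zero]; exact Subalgebra.zero_mem _
  intro F hF
  rw [← MvPolynomial.sum_homogeneousComponent F]
  refine Subalgebra.sum_mem _ fun d _ => ?_
  exact key d _ (homogeneousComponent_mem_fixedPts hmul hone hlin d hF)
    (MvPolynomial.homogeneousComponent_isHomogeneous d F)

end Hilbert

end Groth.Agent.Lib.Helper23.GradedInv
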