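import Groth.Agent.Lib.Helper23.GradedInv

/-!
# Graded coactions on polynomial rings over a coefficient algebra: relative Hilbert finiteness
(helper23)
-/

set_option autoImplicit false
universe u v w w'

open TensorProduct Groth.Agent.Lib.Helper75 Groth.Agent.Lib.Helper23.Reynolds
  Groth.Agent.Lib.Helper23.GITAffine Groth.Agent.Lib.Helper23.GradedInv

namespace Groth.Agent.Lib.Helper23.GradedInvB

attribute [local instance] comodModule

section Poly

variable {K : Type u} [Field K] {A : Type v} [CommRing A] [Bialgebra K A]
variable {B : Type w'} [CommRing B] [Algebra K B]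
variable {σ : Type w}

/-- the `K`-submodule of homogeneous polynomials of degree `d` with coefficients in `B` -/
noncomputable def hsub (K : Type u) [Field K] (B : Type w') [CommRing B] [Algebra K B] (σ : Type w) (d : ℕ) :
    Submodule K (MvPolynomial σ B) :=
  (MvPolynomial.homogeneousSubmodule σ B d).restrictScalars K

theorem mem_hsub {d : ℕ} {p : MvPolynomial σ B} : p ∈ hsub K B σ d ↔ p.IsHomogeneous d := Iff.rfl

/-- the homogeneous component as a `K`-linear map -/
noncomputable def hc (K : Type u) [Field K] {B : Type w'} [CommRing B] [Algebra K B] {σ : Type w}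
    (d : ℕ) : MvPolynomial σ B →ₗ[K] MvPolynomial σ B :=
  (MvPolynomial.homogeneousComponent d : MvPolynomial σ B →ₗ[B] MvPolynomial σ B).restrictScalars K

@[simp] theorem hc_apply (d : ℕ) (p : MvPolynomial σ B) :
    hc K d p = MvPolynomial.homogeneousComponent d p := rfl

variable [HopfRep.Comod K A (MvPolynomial σ B)]

variable (hgr : ∀ d, HopfRep.IsSubcomod (k := K) (A := A) (hsub K B σ d))

include hgr

/-- taking the homogeneous component of degree `d` commutes with the action of functionals -/
theorem homogeneousComponent_act (d : ℕ) (f : A →ₗ[K] K) (p : MvPolynomial σ B) :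
    MvPolynomial.homogeneousComponent d (act f p) =
      act f (MvPolynomial.homogeneousComponent d p) := by
  have hsub' := fun e => (isSubcomod_iff (hsub K B σ e)).1 (hgr e) f
  conv_lhs => rw [← MvPolynomial.sum_homogeneousComponent p, map_sum, map_sum]
  have hterm : ∀ e ∈ Finset.range (p.totalDegree + 1),
      MvPolynomial.homogeneousComponent d (act f (MvPolynomial.homogeneousComponent e p)) =
        if d = e then act f (MvPolynomial.homogeneousComponent e p) else 0 := by
    intro e _
    exact MvPolynomial.homogeneousComponent_of_mem
      (hsub' e _ (MvPolynomial.homogeneousComponent_mem e p))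
  rw [Finset.sum_congr rfl hterm, Finset.sum_ite_eq]
  split_ifs with h
  · rfl
  · have : MvPolynomial.homogeneousComponent d p = 0 := by
      apply MvPolynomial.homogeneousComponent_eq_zero
      rw [Finset.mem_range, not_lt] at h
      omega
    rw [this, map_zero]

/-- the homogeneous component maps, as comodule maps -/
theorem isComodHom_hc (d : ℕ) :
    Hoch.IsComodHom A (hc K d : MvPolynomial σ B →ₗ[K] MvPolynomial σ B) := by
  rw [isComodHom_iff]
  intro f p
  exact homogeneousComponent_act hgr d f p

/-- homogeneous components of invariants are invariant -/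
theorem homogeneousComponent_mem_fixedPts (d : ℕ) {p : MvPolynomial σ B}
    (hp : p ∈ HopfRep.fixedPts K A (MvPolynomial σ B)) :
    MvPolynomial.homogeneousComponent d p ∈ HopfRep.fixedPts K A (MvPolynomial σ B) :=
  map_mem_fixedPts (toDualLinearMap _ (isComodHom_hc hgr d)) hp

end Poly

section Hilbert

variable {K : Type u} [Field K] {B : Type w'} [CommRing B] [Algebra K B] {σ : Type w}

theorem homogeneousComponent_mul_of_isHomogeneous (c y : MvPolynomial σ B) {e : ℕ}
    (hy : y.IsHomogeneous e) (d : ℕ) :
    MvPolynomial.homogeneousComponent d (c * y) =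
      (if e ≤ d then MvPolynomial.homogeneousComponent (d - e) c else 0) * y := by
  conv_lhs => rw [← MvPolynomial.sum_homogeneousComponent c, Finset.sum_mul, map_sum]
  have hterm : ∀ j ∈ Finset.range (c.totalDegree + 1),
      MvPolynomial.homogeneousComponent d (MvPolynomial.homogeneousComponent j c * y) =
        if d = j + e then MvPolynomial.homogeneousComponent j c * y else 0 := by
    intro j _
    exact MvPolynomial.homogeneousComponent_of_mem
      ((MvPolynomial.homogeneousComponent_isHomogeneous j c).mul hy)
  rw [Finset.sum_congr rfl hterm]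
  split_ifs with h
  · have : ∀ j, (d = j + e) ↔ (d - e = j) := by intro j; omega
    simp_rw [this]
    rw [Finset.sum_ite_eq]
    split_ifs with h2
    · rfl
    · have : MvPolynomial.homogeneousComponent (d - e) c = 0 := by
        apply MvPolynomial.homogeneousComponent_eq_zero
        rw [Finset.mem_range, not_lt] at h2
        omega
      rw [this, zero_mul]
  · rw [zero_mul]
    apply Finset.sum_eq_zero
    intro j _
    rw [if_neg]
    omega

variable {A : Type v} [CommRing A] [Bialgebra K A] [HopfRep.Comod K A (MvPolynomial σ B)]

/-- **Relative Hilbert finiteness**: for a graded coaction of a linearly reductive bialgebra on a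
polynomial ring in finitely many variables over a Noetherian coefficient ring, the invariants are
generated by the invariants of degree `0` and finitely many more invariants. -/
theorem exists_finset_generators [Finite σ] [IsNoetherianRing B]
    [IsSemisimpleModule (DualAlg K A) (MvPolynomial σ B)]
    (hmul : ∀ f g : MvPolynomial σ B, HopfRep.Comod.coact (k := K) (A := A) (f * g) =
      HopfRep.Comod.coact (k := K) (A := A) f * HopfRep.Comod.coact (k := K) (A := A) g)
    (hgr : ∀ d, HopfRep.IsSubcomod (k := K) (A := A) (hsub K B σ d)) :
    ∃ s : Finset (MvPolynomial σ B),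
      (∀ f ∈ s, f ∈ HopfRep.fixedPts K A (MvPolynomial σ B)) ∧
      ∀ f ∈ HopfRep.fixedPts K A (MvPolynomial σ B),
        f ∈ Algebra.adjoin K
          ({F | F ∈ HopfRep.fixedPts K A (MvPolynomial σ B) ∧ F.IsHomogeneous 0} ∪
            (s : Set (MvPolynomial σ B))) := by
  obtain ⟨E, hE⟩ := exists_isReynoldsK (K := K) (A := A) (V := MvPolynomial σ B)
  -- homogeneous invariants of positive degree
  let S : Set (MvPolynomial σ B) :=
    {F | F ∈ HopfRep.fixedPts K A (MvPolynomial σ B) ∧ ∃ d : ℕ, 0 < d ∧ F.IsHomogeneous d}
  have hfg : (Ideal.span S).FG := IsNoetherian.noetherian _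
  obtain ⟨s, hsS, hspan⟩ := (Submodule.fg_span_iff_fg_span_finset_subset _).mp hfg
  refine ⟨s, fun f hf => (hsS hf).1, ?_⟩
  -- homogeneous invariants
  have key : ∀ d : ℕ, ∀ F ∈ HopfRep.fixedPts K A (MvPolynomial σ B), F.IsHomogeneous d →
      F ∈ Algebra.adjoin K
          ({F | F ∈ HopfRep.fixedPts K A (MvPolynomial σ B) ∧ F.IsHomogeneous 0} ∪
            (s : Set (MvPolynomial σ B))) := by
    intro d
    induction d using Nat.strong_induction_on with
    | _ d ih =>
      intro F hF hFd
      rcases Nat.eq_zero_or_pos d with rfl | hd
      · exact Algebra.subset_adjoin (Or.inl ⟨hF, hFd⟩)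
      · have hFS : F ∈ Ideal.span S := Ideal.subset_span ⟨hF, d, hd, hFd⟩
        have hFs : F ∈ Submodule.span (MvPolynomial σ B) (s : Set (MvPolynomial σ B)) := by
          rw [← hspan]; exact hFS
        obtain ⟨c, -, hc⟩ := Submodule.mem_span_finset.mp hFs
        have h1 : E (MvPolynomial.homogeneousComponent d F) = F := by
          rw [MvPolynomial.homogeneousComponent_eq_self hFd]
          exact hE.apply_of_mem hF
        rw [← h1, ← hc, map_sum, map_sum]
        refine Subalgebra.sum_mem _ fun y hy => ?_
        obtain ⟨hyinv, e, he, hye⟩ := hsS hy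
        rw [smul_eq_mul, homogeneousComponent_mul_of_isHomogeneous _ _ hye,
          reynolds_mul hmul hE _ hyinv]
        refine Subalgebra.mul_mem _ ?_ (Algebra.subset_adjoin (Or.inr hy))
        split_ifs with hle
        · refine ih (d - e) (by omega) _ (hE.apply_mem _) ?_
          exact hE.apply_mem_of_mem _ (hgr (d - e))
            (MvPolynomial.homogeneousComponent_mem _ _)
        · rw [map_zero]; exact Subalgebra.zero_mem _
  intro F hF
  rw [← MvPolynomial.sum_homogeneousComponent F]
  refine Subalgebra.sum_mem _ fun d _ => ?_
  exact key d _ (homogeneousComponent_mem_fixedPts hgr d hF)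
    (MvPolynomial.homogeneousComponent_isHomogeneous d F)

end Hilbert

end Groth.Agent.Lib.Helper23.GradedInvB
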