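import Mathlib
import Groth.Agent.S5354

/-!
# Quasi-compact dominant homomorphisms of group schemes over a field are surjective (helper23)

No finiteness assumption on the group schemes.
-/

set_option autoImplicit false
set_option linter.unusedSectionVars false

namespace Groth.Agent.Lib.Helper23.GrpDominant

universe u
open CategoryTheory MonoidalCategory CartesianMonoidalCategory MonObj AlgebraicGeometry Limits

section Scheme

/-- affine case -/
theorem affine_case {R S : CommRingCat.{u}} (φ : R ⟶ S) (hf : DenseRange (Spec.map φ))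
    (ξ : Spec R) (hξ : ∀ y : Spec R, y ⤳ ξ → y = ξ) : ξ ∈ Set.range (Spec.map φ) := by
  have hd : DenseRange (PrimeSpectrum.comap φ.hom) := hf
  rw [PrimeSpectrum.denseRange_comap_iff_minimalPrimes] at hd
  have hmin : ξ.asIdeal ∈ minimalPrimes R := by
    refine ⟨⟨ξ.isPrime, bot_le⟩, ?_⟩
    rintro q ⟨hq, -⟩ hle
    have h1 : (⟨q, hq⟩ : PrimeSpectrum R) ⤳ ξ := (PrimeSpectrum.le_iff_specializes _ _).mp hle
    have h2 := hξ _ h1
    rw [← h2]
  exact hd _ hmin

/-- A quasi-compact dominant morphism hits every maximal point (point without proper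
generization) of the target. -/
theorem mem_range_of_isMaxPt {X Y : Scheme.{u}} (f : X ⟶ Y) [QuasiCompact f] (hf : DenseRange f)
    (ξ : Y) (hξ : ∀ y : Y, y ⤳ ξ → y = ξ) : ξ ∈ Set.range f := by
  wlog hY : ∃ R, Y = Spec R
  · let 𝒰 := Y.affineCover
    obtain ⟨i, v, rfl⟩ := 𝒰.exists_eq ξ
    have key := this (pullback.snd f (𝒰.f i)) ?_ v ?_ ⟨_, rfl⟩
    · obtain ⟨z, hz⟩ := key
      refine ⟨(pullback.fst f (𝒰.f i)) z, ?_⟩
      rw [← hz, ← Scheme.Hom.comp_apply, ← Scheme.Hom.comp_apply, pullback.condition]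
    · rw [DenseRange, dense_iff_inter_open]
      intro W hW hne
      have hW' : IsOpen ((𝒰.f i) '' W) := (𝒰.f i).isOpenEmbedding.isOpenMap W hW
      obtain ⟨y, hy1, x, rfl⟩ := hf.inter_open_nonempty _ hW' (hne.image _)
      obtain ⟨w, hw, hw2⟩ := hy1
      obtain ⟨z, hz1, hz2⟩ := Scheme.Pullback.exists_preimage_pullback x w hw2.symm
      exact ⟨w, hw, z, hz2⟩
    · intro w hw
      have h1 : (𝒰.f i) w ⤳ (𝒰.f i) v := hw.map (𝒰.f i).continuous
      exact (𝒰.f i).isOpenEmbedding.injective (hξ _ h1)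
  obtain ⟨R, rfl⟩ := hY
  wlog hX : ∃ S, X = Spec S
  · have _ : CompactSpace X := QuasiCompact.compactSpace_of_compactSpace f
    let 𝒰 := X.affineCover.finiteSubcover
    let p : ∐ (fun i : 𝒰.I₀ ↦ 𝒰.X i) ⟶ X := Sigma.desc (fun i ↦ 𝒰.f i)
    have hp : Surjective p := inferInstance
    let e := (∐ (fun i : 𝒰.I₀ ↦ 𝒰.X i)).isoSpec
    have key := this (f := e.inv ≫ p ≫ f) R ?_ ξ hξ ⟨_, rfl⟩
    · obtain ⟨z, hz⟩ := key
      exact ⟨p (e.inv z), hz⟩
    · have hs : Function.Surjective (e.inv ≫ p) := by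
        rw [Scheme.Hom.comp_base, TopCat.coe_comp]
        exact hp.surj.comp e.inv.surjective
      have : (e.inv ≫ p ≫ f : _ → _) = f ∘ (e.inv ≫ p) := by
        ext z; simp
      rw [this]
      exact hf.comp hs.denseRange f.continuous
  obtain ⟨S, rfl⟩ := hX
  obtain ⟨φ, rfl⟩ := Spec.map_surjective f
  exact affine_case φ hf ξ hξ

/-- Generic points of irreducible components have no proper generization. -/
theorem isMaxPt_of_mem_irreducibleComponents {Y : Scheme.{u}} (ξ : Y)
    (hξ : closure {ξ} ∈ irreducibleComponents ↥Y) (y : Y) (hy : y ⤳ ξ) : y = ξ := by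
  have h1 : closure ({ξ} : Set Y) ⊆ closure {y} :=
    (isClosed_closure.closure_subset_iff).mpr
      (Set.singleton_subset_iff.mpr (specializes_iff_mem_closure.mp hy))
  have h2 : closure ({y} : Set Y) ⊆ closure {ξ} := hξ.2 isIrreducible_singleton.closure h1
  have h3 : ξ ⤳ y := specializes_iff_mem_closure.mpr (h2 (subset_closure rfl))
  exact (hy.antisymm h3).eq

theorem exists_preimage_of_isPullback {P X Y Z : Scheme.{u}} {fst : P ⟶ X} {snd : P ⟶ Y}
    {f : X ⟶ Z} {g : Y ⟶ Z} (h : IsPullback fst snd f g) (x : X) (y : Y) (hxy : f x = g y) :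
    ∃ p : P, fst p = x ∧ snd p = y := by
  obtain ⟨q, hq1, hq2⟩ := Scheme.Pullback.exists_preimage_pullback x y hxy
  refine ⟨h.isoPullback.inv q, ?_, ?_⟩
  · rw [← Scheme.Hom.comp_apply, h.isoPullback_inv_fst, hq1]
  · rw [← Scheme.Hom.comp_apply, h.isoPullback_inv_snd, hq2]

end Scheme

section Cat

variable {C : Type*} [Category C] [CartesianMonoidalCategory C]

theorem isPullback_whiskerLeft_snd (G : C) {X Y : C} (f : X ⟶ Y) :
    IsPullback (G ◁ f) (snd G X) (snd G Y) f := by
  refine ⟨⟨whiskerLeft_snd _ _⟩, ⟨PullbackCone.IsLimit.mk _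
    (fun s => lift (s.fst ≫ fst G Y) s.snd) ?_ ?_ ?_⟩⟩
  · intro s
    ext
    · simp
    · simpa using s.condition.symm
  · intro s
    simp
  · intro s m h1 h2
    ext
    · have := congrArg (fun t => t ≫ fst G Y) h1
      simpa using this
    · simpa using h2

theorem isPullback_whiskerRight_fst (G : C) {X Y : C} (f : X ⟶ Y) :
    IsPullback (f ▷ G) (fst X G) (fst Y G) f := by
  refine ⟨⟨whiskerRight_fst _ _⟩, ⟨PullbackCone.IsLimit.mk _
    (fun s => lift s.snd (s.fst ≫ snd Y G)) ?_ ?_ ?_⟩⟩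
  · intro s
    ext
    · simpa using s.condition.symm
    · simp
  · intro s
    simp
  · intro s m h1 h2
    ext
    · simpa using h2
    · have := congrArg (fun t => t ≫ snd Y G) h1
      simpa using this

end Cat

section Grp

variable {k : Type u} [Field k] {G H : Over (Spec (CommRingCat.of k))} [GrpObj G] [GrpObj H]

/-- A quasi-compact dominant homomorphism of group schemes over a field is surjective. -/
theorem surjective_of_dominant (f : G ⟶ H) [IsMonHom f] [QuasiCompact f.left]
    (hf : DenseRange f.left.base) : Surjective f.left := by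
  refine ⟨fun x => ?_⟩
  obtain ⟨z, hz, h1, h2⟩ := Groth.Agent.S5354.result k H x
  obtain ⟨g₁, hg₁⟩ := mem_range_of_isMaxPt f.left hf _
    (isMaxPt_of_mem_irreducibleComponents _ h1)
  obtain ⟨g₂, hg₂⟩ := mem_range_of_isMaxPt f.left hf _
    (isMaxPt_of_mem_irreducibleComponents _ h2)
  have sq1 := (isPullback_whiskerRight_fst H f).map (Over.forget _)
  have sq2 := (isPullback_whiskerLeft_snd G f).map (Over.forget _)
  obtain ⟨z', hz'1, hz'2⟩ := exists_preimage_of_isPullback sq1 z g₁ hg₁.symm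
  have h3 : (snd G H).left.base z' = f.left.base g₂ := by
    rw [hg₂]
    have e : (f ▷ H) ≫ snd H H = snd G H := whiskerRight_snd _ _
    have e2 : (snd H H).left.base ((f ▷ H).left.base z') = (snd G H).left.base z' :=
      congrArg (fun t => t.left.base z') e
    rw [← e2]
    exact congrArg (snd H H).left.base hz'1
  obtain ⟨w, hw1, hw2⟩ := exists_preimage_of_isPullback sq2 z' g₂ h3
  refine ⟨μ[G].left.base w, ?_⟩
  have e : μ[G] ≫ f = ((G ◁ f) ≫ (f ▷ H)) ≫ μ[H] := by
    rw [IsMonHom.mul_hom, tensorHom_def']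
  have e2 : f.left.base (μ[G].left.base w) =
      μ[H].left.base ((f ▷ H).left.base ((G ◁ f).left.base w)) :=
    congrArg (fun t => t.left.base w) e
  refine e2.trans ?_
  rw [← hz]
  have e3 : (f ▷ H).left.base ((G ◁ f).left.base w) = z :=
    (congrArg (f ▷ H).left.base hw1).trans hz'1
  rw [e3]

end Grp

end Groth.Agent.Lib.Helper23.GrpDominant
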