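import Mathlib
import Groth.Agent.Lib.Helper23.GrpDominant
import Groth.Agent.Lib.Helper67.FlatAtBC

/-!
# Quasi-compact dominant homomorphisms to reduced group schemes over a field are flat (helper23)

No finiteness assumption on the group schemes.
-/

set_option autoImplicit false
set_option linter.unusedSectionVars false
set_option linter.style.haveILetI false
set_option linter.unusedSimpArgs false

namespace Groth.Agent.Lib.Helper23.GrpDominantFlat

universe u
open CategoryTheory MonoidalCategory CartesianMonoidalCategory MonObj AlgebraicGeometry Limits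
open Groth.Agent.Lib.Helper23.GrpDominant

section Cat

variable {C : Type*} [Category C] [CartesianMonoidalCategory C]

/-- The shear isomorphism `(a, b) ↦ (a, φ(a) b)`. -/
def shearIso {A B : C} [GrpObj B] (φ : A ⟶ B) : A ⊗ B ≅ A ⊗ B where
  hom := lift (fst A B) ((fst A B ≫ φ) * snd A B)
  inv := lift (fst A B) ((fst A B ≫ φ)⁻¹ * snd A B)
  hom_inv_id := by
    apply CartesianMonoidalCategory.hom_ext
    · simp
    · simp only [Category.assoc, lift_snd, MonObj.comp_mul, GrpObj.comp_inv, lift_fst_assoc,
        Category.id_comp]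
      simp
  inv_hom_id := by
    apply CartesianMonoidalCategory.hom_ext
    · simp
    · simp only [Category.assoc, lift_snd, MonObj.comp_mul, GrpObj.comp_inv, lift_fst_assoc,
        Category.id_comp]
      simp

theorem shearIso_hom_snd {A B : C} [GrpObj B] (φ : A ⟶ B) :
    (shearIso φ).hom ≫ snd A B = (fst A B ≫ φ) * snd A B := lift_snd _ _

/-- The anti-shear isomorphism `(b, t) ↦ (b⁻¹ x(t), t)`. -/
def invShearIso {B T : C} [GrpObj B] (x : T ⟶ B) : B ⊗ T ≅ B ⊗ T where
  hom := lift ((fst B T)⁻¹ * (snd B T ≫ x)) (snd B T)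
  inv := lift ((snd B T ≫ x) * (fst B T)⁻¹) (snd B T)
  hom_inv_id := by
    apply CartesianMonoidalCategory.hom_ext
    · simp only [Category.assoc, lift_fst, Category.id_comp, MonObj.comp_mul,
        GrpObj.comp_inv, lift_snd_assoc, lift_fst, _root_.mul_inv_rev, _root_.inv_inv]
      simp
    · simp
  inv_hom_id := by
    apply CartesianMonoidalCategory.hom_ext
    · simp only [Category.assoc, lift_fst, Category.id_comp, MonObj.comp_mul,
        GrpObj.comp_inv, lift_snd_assoc, lift_fst, _root_.mul_inv_rev, _root_.inv_inv]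
      simp
    · simp

theorem invShearIso_hom_fst {B T : C} [GrpObj B] (x : T ⟶ B) :
    (invShearIso x).hom ≫ fst B T = (fst B T)⁻¹ * (snd B T ≫ x) := lift_fst _ _

end Cat

section Scheme

/-- Descent of flatness at a point along a flat morphism. -/
theorem flat_stalkMap_of_comp {X' X Y : Scheme.{u}} (g : X' ⟶ X) (f : X ⟶ Y) [Flat g]
    (hgf : Flat (g ≫ f)) (x' : X') : (f.stalkMap (g x')).hom.Flat := by
  let φ := (f.stalkMap (g x')).hom
  let ψ := (g.stalkMap x').hom
  have hcomp : ((g ≫ f).stalkMap x').hom = ψ.comp φ := by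
    rw [Scheme.Hom.stalkMap_comp]; rfl
  have h1 : (ψ.comp φ).Flat := hcomp ▸ Flat.stalkMap (g ≫ f) x'
  have h2 : ψ.Flat := Flat.stalkMap g x'
  letI := φ.toAlgebra
  letI := ψ.toAlgebra
  letI := (ψ.comp φ).toAlgebra
  haveI : IsScalarTower (Y.presheaf.stalk (f (g x'))) (X.presheaf.stalk (g x'))
      (X'.presheaf.stalk x') := IsScalarTower.of_algebraMap_eq' rfl
  haveI : Module.Flat (Y.presheaf.stalk (f (g x'))) (X'.presheaf.stalk x') := h1
  haveI : Module.Flat (X.presheaf.stalk (g x')) (X'.presheaf.stalk x') := h2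
  haveI : IsLocalHom (algebraMap (X.presheaf.stalk (g x')) (X'.presheaf.stalk x')) :=
    (inferInstance : IsLocalHom (g.stalkMap x').hom)
  haveI : Module.FaithfullyFlat (X.presheaf.stalk (g x')) (X'.presheaf.stalk x') :=
    Module.FaithfullyFlat.of_flat_of_isLocalHom
  exact Groth.Agent.Lib.Helper67.FlatAtBC.flat_of_faithfullyFlat_of_flat
    (Y.presheaf.stalk (f (g x'))) (X.presheaf.stalk (g x')) (X'.presheaf.stalk x')

theorem subsingleton_spec_stalk {Y : Scheme.{u}} (ξ : Y) (hξ : ∀ y : Y, y ⤳ ξ → y = ξ) :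
    Subsingleton ↥(Spec (Y.presheaf.stalk ξ)) := by
  refine ⟨fun a b => ?_⟩
  have ha : (Y.fromSpecStalk ξ) a ∈ Set.range (Y.fromSpecStalk ξ) := ⟨a, rfl⟩
  have hb : (Y.fromSpecStalk ξ) b ∈ Set.range (Y.fromSpecStalk ξ) := ⟨b, rfl⟩
  rw [Scheme.range_fromSpecStalk] at ha hb
  have e : (Y.fromSpecStalk ξ) a = (Y.fromSpecStalk ξ) b := (hξ _ ha).trans (hξ _ hb).symm
  exact (Y.fromSpecStalk ξ).isEmbedding.injective e

/-- Every morphism to the spectrum of the local ring of a reduced scheme at a maximal point is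
flat. -/
theorem flat_of_isMaxPt {Y : Scheme.{u}} [IsReduced Y] (ξ : Y) (hξ : ∀ y : Y, y ⤳ ξ → y = ξ)
    {X : Scheme.{u}} (f : X ⟶ Spec (Y.presheaf.stalk ξ)) : Flat f := by
  have h1 := subsingleton_spec_stalk ξ hξ
  have h2 : IrreducibleSpace ↥(Spec (Y.presheaf.stalk ξ)) := by
    have : PreirreducibleSpace ↥(Spec (Y.presheaf.stalk ξ)) :=
      ⟨(Set.subsingleton_of_subsingleton).isPreirreducible⟩
    exact ⟨inferInstance⟩
  have h3 : IsIntegral (Spec (Y.presheaf.stalk ξ)) := isIntegral_of_irreducibleSpace_of_isReduced _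
  infer_instance

end Scheme

section Grp

variable {k : Type u} [Field k]

theorem flat_whiskerLeft (A : Over (Spec (CommRingCat.of k))) {X Y : Over (Spec (CommRingCat.of k))}
    (p : X ⟶ Y) (hp : Flat p.left) : Flat (A ◁ p).left :=
  MorphismProperty.of_isPullback (P := @Flat)
    ((isPullback_whiskerLeft_snd A p).map (Over.forget _)).flip hp

theorem flat_fst (A B : Over (Spec (CommRingCat.of k))) : Flat (fst A B).left :=
  inferInstanceAs (Flat (pullback.fst A.hom B.hom))

theorem flat_snd (A B : Over (Spec (CommRingCat.of k))) : Flat (snd A B).left :=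
  inferInstanceAs (Flat (pullback.snd A.hom B.hom))

theorem flat_of_isIso_over {A B : Over (Spec (CommRingCat.of k))} (e : A ≅ B) : Flat e.hom.left := by
  have : IsIso e.hom.left := inferInstanceAs (IsIso ((Over.forget _).map e.hom))
  infer_instance

variable {G H : Over (Spec (CommRingCat.of k))} [GrpObj G] [GrpObj H]

/-- A quasi-compact dominant homomorphism to a reduced group scheme over a field is flat. -/
theorem flat_of_dominant (f : G ⟶ H) [IsMonHom f] [QuasiCompact f.left]
    (hf : DenseRange f.left.base) [IsReduced H.left] : Flat f.left := by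
  have hsurj : Surjective f.left := surjective_of_dominant f hf
  rw [Flat.iff_flat_stalkMap]
  intro g
  let T : Over (Spec (CommRingCat.of k)) := Over.mk (G.left.fromSpecResidueField g ≫ G.hom)
  let xT : T ⟶ G := Over.homMk (G.left.fromSpecResidueField g) rfl
  have hneT : Nonempty T.left := inferInstanceAs (Nonempty (Spec (G.left.residueField g)))
  obtain ⟨t0⟩ := hneT
  let q0 : (H ⊗ T).left := (lift (toUnit T ≫ η[H]) (𝟙 T)).left.base t0
  obtain ⟨q, hq⟩ := QuasiSober.sober (isIrreducible_irreducibleComponent (x := q0))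
    isClosed_irreducibleComponent
  have hqmax : closure {q} ∈ irreducibleComponents ↥(H ⊗ T).left := by
    rw [hq.def]
    exact irreducibleComponent_mem_irreducibleComponents q0
  let βH : H ⊗ T ⟶ H := (fst H T)⁻¹ * (snd H T ≫ xT ≫ f)
  have hβHflat : Flat βH.left := by
    have e : βH = (invShearIso (xT ≫ f)).hom ≫ fst H T := (invShearIso_hom_fst _).symm
    rw [e, Over.comp_left]
    have h1 := flat_of_isIso_over (invShearIso (xT ≫ f))
    have h2 := flat_fst H T
    infer_instance
  let ξ : H.left := βH.left.base q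
  have hξmax : ∀ y : H.left, y ⤳ ξ → y = ξ :=
    isMaxPt_of_mem_irreducibleComponents _
      (Groth.Agent.S5354.closure_image_mem _ (Flat.generalizingMap _) q hqmax)
  have hs2 : Surjective (f ▷ T).left :=
    MorphismProperty.of_isPullback (P := @Surjective)
      ((isPullback_whiskerRight_fst T f).map (Over.forget _)).flip hsurj
  obtain ⟨p, hp⟩ := hs2.surj q
  let β : G ⊗ T ⟶ G := (fst G T)⁻¹ * (snd G T ≫ xT)
  have hβf : β ≫ f = (f ▷ T) ≫ βH := by
    simp only [β, βH, MonObj.mul_comp, GrpObj.inv_comp, MonObj.comp_mul, GrpObj.comp_inv,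
      Category.assoc, whiskerRight_fst, whiskerRight_snd_assoc]
  let b : G.left := β.left.base p
  have hfb : f.left.base b = ξ := by
    have e2 : f.left.base (β.left.base p) = βH.left.base ((f ▷ T).left.base p) :=
      congrArg (fun t => t.left.base p) hβf
    rw [e2, hp]
  let w₀ : (G ⊗ G).left := (lift (fst G T) β).left.base p
  have hw₀μ : μ[G].left.base w₀ = g := by
    have h1 : lift (fst G T) β ≫ μ[G] = snd G T ≫ xT := by
      show fst G T * β = _
      simp [β]
    have h2 : μ[G].left.base ((lift (fst G T) β).left.base p) = (snd G T ≫ xT).left.base p :=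
      congrArg (fun t => t.left.base p) h1
    refine h2.trans ?_
    show (G.left.fromSpecResidueField g).base ((snd G T).left.base p) = g
    exact Scheme.fromSpecResidueField_apply _ _
  have hw₀snd : (snd G G).left.base w₀ = b := by
    have h1 : lift (fst G T) β ≫ snd G G = β := lift_snd _ _
    exact congrArg (fun t => t.left.base p) h1
  -- the local scheme at `ξ`
  let Hξ : Over (Spec (CommRingCat.of k)) := Over.mk (H.left.fromSpecStalk ξ ≫ H.hom)
  let jH : Hξ ⟶ H := Over.homMk (H.left.fromSpecStalk ξ) rfl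
  have hjflat : Flat jH.left := Groth.Agent.S4366.flat_fromSpecStalk H.left ξ
  let p₁ : pullback f jH ⟶ G := pullback.fst f jH
  let p₂ : pullback f jH ⟶ Hξ := pullback.snd f jH
  have hp₂ : Flat p₂.left := flat_of_isMaxPt ξ hξmax p₂.left
  have sqξ : IsPullback p₁.left p₂.left f.left jH.left :=
    (IsPullback.of_hasPullback f jH).map (Over.forget _)
  have hp₁ : Flat p₁.left := MorphismProperty.of_isPullback (P := @Flat) sqξ.flip hjflat
  let M : G ⊗ pullback f jH ⟶ G := (G ◁ p₁) ≫ μ[G]
  have hμ : μ[G] = (shearIso (𝟙 G)).hom ≫ snd G G := by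
    rw [shearIso_hom_snd, Category.comp_id, Hom.mul_def, lift_fst_snd, Category.id_comp]
  have hMflat : Flat M.left := by
    have h1 := flat_whiskerLeft G p₁ hp₁
    have h2 := flat_of_isIso_over (shearIso (𝟙 G))
    have h3 := flat_snd G G
    show Flat ((G ◁ p₁) ≫ μ[G]).left
    rw [hμ]
    simp only [Over.comp_left]
    infer_instance
  have hMf : M ≫ f = (G ◁ p₂) ≫ (G ◁ jH) ≫ (shearIso f).hom ≫ snd G H := by
    show ((G ◁ p₁) ≫ μ[G]) ≫ f = _
    rw [hμ, shearIso_hom_snd, shearIso_hom_snd]
    simp only [Category.comp_id, MonObj.comp_mul, MonObj.mul_comp, Category.assoc,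
      whiskerLeft_fst_assoc, whiskerLeft_snd_assoc, whiskerLeft_fst, whiskerLeft_snd]
    have hc : p₁ ≫ f = p₂ ≫ jH := pullback.condition
    rw [hc]
  have hMfflat : Flat (M.left ≫ f.left) := by
    have h1 := flat_whiskerLeft G p₂ hp₂
    have h2 := flat_whiskerLeft G jH hjflat
    have h3 := flat_of_isIso_over (shearIso f)
    have h4 := flat_snd G H
    have e : M.left ≫ f.left = (M ≫ f).left := rfl
    rw [e, hMf]
    simp only [Over.comp_left]
    infer_instance
  -- the point `u`
  have hc : f.left.base b = jH.left.base (IsLocalRing.closedPoint _) := by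
    rw [hfb]
    exact (Scheme.fromSpecStalk_closedPoint).symm
  obtain ⟨b', hb'1, -⟩ := exists_preimage_of_isPullback sqξ b _ hc
  have sqG := (isPullback_whiskerLeft_snd G p₁).map (Over.forget _)
  obtain ⟨u, hu1, -⟩ := exists_preimage_of_isPullback sqG w₀ b' (hw₀snd.trans hb'1.symm)
  have hMu : M.left.base u = g := by
    show μ[G].left.base ((G ◁ p₁).left.base u) = g
    have : (G ◁ p₁).left.base u = w₀ := hu1
    rw [this, hw₀μ]
  have key := @flat_stalkMap_of_comp _ _ _ M.left f.left hMflat hMfflat u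
  exact hMu ▸ key

end Grp

end Groth.Agent.Lib.Helper23.GrpDominantFlat
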