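import Mathlib
import Groth.Agent.Lib.Helper23.GrpDominantFlat

/-!
# The scheme-theoretic image of a quasi-compact homomorphism of group schemes over a field
is a closed subgroup scheme (helper23)
-/

set_option autoImplicit false
set_option linter.unusedSectionVars false

namespace Groth.Agent.Lib.Helper23.GrpImage

universe u
open CategoryTheory MonoidalCategory CartesianMonoidalCategory MonObj AlgebraicGeometry Limits
open Groth.Agent.Lib.Helper23.GrpDominant Groth.Agent.Lib.Helper23.GrpDominantFlat

section Cat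

variable {C : Type*} [Category C] [CartesianMonoidalCategory C]

/-- A group structure on a subobject stable under the group operations. -/
@[reducible] def grpObjOfMono {K G : C} [GrpObj G] (i : K ⟶ G) [Mono i] (e : 𝟙_ C ⟶ K)
    (m : K ⊗ K ⟶ K) (v : K ⟶ K) (he : e ≫ i = η[G]) (hm : m ≫ i = (i ⊗ₘ i) ≫ μ[G])
    (hv : v ≫ i = i ≫ ι[G]) : GrpObj K where
  one := e
  mul := m
  one_mul := by
    rw [← cancel_mono i, Category.assoc, hm, MonoidalCategory.tensorHom_def, Category.assoc,
      ← comp_whiskerRight_assoc, he,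
      ← whisker_exchange_assoc, MonObj.one_mul, leftUnitor_naturality]
  mul_one := by
    rw [← cancel_mono i, Category.assoc, hm, MonoidalCategory.tensorHom_def', Category.assoc,
      ← whiskerLeft_comp_assoc, he,
      whisker_exchange_assoc, MonObj.mul_one, rightUnitor_naturality]
  mul_assoc := by
    rw [← cancel_mono i]
    simp only [Category.assoc, hm]
    have h1 : (m ▷ K) ≫ (i ⊗ₘ i) = ((i ⊗ₘ i) ⊗ₘ i) ≫ (μ[G] ▷ G) := by
      rw [← tensorHom_id, ← tensorHom_id, tensorHom_comp_tensorHom, tensorHom_comp_tensorHom, hm,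
        Category.id_comp, Category.comp_id]
    have h2 : (K ◁ m) ≫ (i ⊗ₘ i) = (i ⊗ₘ (i ⊗ₘ i)) ≫ (G ◁ μ[G]) := by
      rw [← id_tensorHom, ← id_tensorHom, tensorHom_comp_tensorHom, tensorHom_comp_tensorHom, hm,
        Category.id_comp, Category.comp_id]
    rw [reassoc_of% h1, reassoc_of% h2, MonObj.mul_assoc, associator_naturality_assoc]
  inv := v
  left_inv := by
    rw [← cancel_mono i, Category.assoc, hm, Category.assoc, he]
    have : lift v (𝟙 K) ≫ (i ⊗ₘ i) = i ≫ lift ι[G] (𝟙 G) := by
      apply CartesianMonoidalCategory.hom_ext <;> simp [hv]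
    rw [reassoc_of% this, GrpObj.left_inv, ← Category.assoc]
    congr 1
    exact toUnit_unique _ _
  right_inv := by
    rw [← cancel_mono i, Category.assoc, hm, Category.assoc, he]
    have : lift (𝟙 K) v ≫ (i ⊗ₘ i) = i ≫ lift (𝟙 G) ι[G] := by
      apply CartesianMonoidalCategory.hom_ext <;> simp [hv]
    rw [reassoc_of% this, GrpObj.right_inv, ← Category.assoc]
    congr 1
    exact toUnit_unique _ _

end Cat

section Scheme

theorem ker_toImage {X Y : Scheme.{u}} (f : X ⟶ Y) [QuasiCompact f] : f.toImage.ker = ⊥ := by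
  refine Scheme.IdealSheafData.ext_of_iSup_eq_top
    (fun U : Y.affineOpens ↦ ⟨f.imageι ⁻¹ᵁ U.1, U.2.preimage f.imageι⟩) ?_ ?_
  · have h := iSup_affineOpens_eq_top Y
    have h2 : f.imageι ⁻¹ᵁ (⨆ U : Y.affineOpens, U.1) = ⊤ := by rw [h]; rfl
    rw [← h2]
    ext x
    simp
  · intro U
    rw [Scheme.Hom.ker_apply]
    simp only [Scheme.IdealSheafData.ideal_bot, Pi.bot_apply]
    exact (RingHom.injective_iff_ker_eq_bot _).mp (f.toImage_app_injective U)

theorem isIso_of_factor {A B Z : Scheme.{u}} (φ : A ⟶ B) [IsSchemeTheoreticallyDominant φ]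
    (c : Z ⟶ B) [IsClosedImmersion c] (ψ : A ⟶ Z) (h : ψ ≫ c = φ) : IsIso c := by
  rw [IsClosedImmersion.isIso_iff_ker_eq_bot, eq_bot_iff, ← φ.ker_eq_bot, ← h]
  exact ψ.le_ker_comp c

/-- A morphism whose restriction along a scheme-theoretically dominant morphism factors through
a closed subscheme factors through it. -/
theorem exists_factor {S : Scheme.{u}} {A B K G : Over S} (φ : A ⟶ B)
    [IsSchemeTheoreticallyDominant φ.left] (ν : B ⟶ G) (i : K ⟶ G) [IsClosedImmersion i.left]
    (ψ : A ⟶ K) (h : φ ≫ ν = ψ ≫ i) : ∃ ν' : B ⟶ K, ν' ≫ i = ν := by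
  let c : pullback ν i ⟶ B := pullback.fst ν i
  have sq : IsPullback c.left (pullback.snd ν i).left ν.left i.left :=
    (IsPullback.of_hasPullback ν i).map (Over.forget _)
  have hc : IsClosedImmersion c.left :=
    MorphismProperty.of_isPullback (P := @IsClosedImmersion) sq.flip inferInstance
  let l : A ⟶ pullback ν i := pullback.lift φ ψ h
  have hl : l ≫ c = φ := pullback.lift_fst _ _ _
  have hiso : IsIso c.left :=
    isIso_of_factor φ.left c.left l.left (congrArg (fun t => t.left) hl)
  have : IsIso ((Over.forget _).map c) := hiso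
  have hciso : IsIso c := isIso_of_reflects_iso c (Over.forget _)
  refine ⟨inv c ≫ pullback.snd ν i, ?_⟩
  rw [Category.assoc, ← pullback.condition, IsIso.inv_hom_id_assoc]

end Scheme

section Grp

variable {k : Type u} [Field k] {H G K : Over (Spec (CommRingCat.of k))} [GrpObj H] [GrpObj G]

/-- The scheme-theoretic image of a quasi-compact homomorphism is a closed subgroup scheme. -/
theorem exists_grpObj (f : H ⟶ G) [IsMonHom f] [QuasiCompact f.left] (i : K ⟶ G)
    [IsClosedImmersion i.left] (g : H ⟶ K) (hgi : g ≫ i = f)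
    [IsSchemeTheoreticallyDominant g.left] : ∃ (_ : GrpObj K), IsMonHom i ∧ IsMonHom g := by
  have hmono : Mono i := Over.mono_of_mono_left i
  have hqc : QuasiCompact g.left := by
    have : QuasiCompact (g.left ≫ i.left) := by
      rw [← Over.comp_left, hgi]; infer_instance
    exact QuasiCompact.of_comp g.left i.left
  have hf1 := flat_fst K H
  have hf2 := flat_snd K K
  have i1 : IsSchemeTheoreticallyDominant ((Over.forget (Spec (CommRingCat.of k))).map g) :=
    ‹IsSchemeTheoreticallyDominant g.left›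
  have i2 : QuasiCompact ((Over.forget (Spec (CommRingCat.of k))).map g) := hqc
  have i3 : Flat ((Over.forget (Spec (CommRingCat.of k))).map (fst K H)) := hf1
  have i4 : Flat ((Over.forget (Spec (CommRingCat.of k))).map (snd K K)) := hf2
  have h1 : IsSchemeTheoreticallyDominant (g ▷ H).left :=
    @IsSchemeTheoreticallyDominant.of_isPullback _ _ _ _ _ _ _ _
      ((isPullback_whiskerRight_fst H g).map (Over.forget _)).flip i1 i2 i3
  have h2 : IsSchemeTheoreticallyDominant (K ◁ g).left :=
    @IsSchemeTheoreticallyDominant.of_isPullback _ _ _ _ _ _ _ _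
      ((isPullback_whiskerLeft_snd K g).map (Over.forget _)).flip i1 i2 i4
  have h3 : IsSchemeTheoreticallyDominant (g ⊗ₘ g).left := by
    rw [MonoidalCategory.tensorHom_def, Over.comp_left]
    infer_instance
  obtain ⟨m, hm⟩ := exists_factor (g ⊗ₘ g) ((i ⊗ₘ i) ≫ μ[G]) i (μ[H] ≫ g) (by
    rw [tensorHom_comp_tensorHom_assoc, hgi, Category.assoc, hgi, IsMonHom.mul_hom])
  obtain ⟨v, hv⟩ := exists_factor g (i ≫ ι[G]) i (ι[H] ≫ g) (by
    rw [← Category.assoc, hgi, Category.assoc, hgi, GrpObj.inv_hom])
  have he : (η[H] ≫ g) ≫ i = η[G] := by rw [Category.assoc, hgi, IsMonHom.one_hom]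
  let inst : GrpObj K := grpObjOfMono i (η[H] ≫ g) m v he hm hv
  refine ⟨inst, ⟨he, hm⟩, ⟨rfl, ?_⟩⟩
  rw [← cancel_mono i, Category.assoc, hgi, IsMonHom.mul_hom, Category.assoc]
  show _ = (g ⊗ₘ g) ≫ m ≫ i
  rw [hm, tensorHom_comp_tensorHom_assoc, hgi]

/-- Surjectivity onto the scheme-theoretic image. -/
theorem surjective_of_isSchemeTheoreticallyDominant (f : H ⟶ G) [IsMonHom f] [QuasiCompact f.left]
    (i : K ⟶ G) [IsClosedImmersion i.left] (g : H ⟶ K) (hgi : g ≫ i = f)
    [IsSchemeTheoreticallyDominant g.left] : Surjective g.left := by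
  obtain ⟨inst, hi, hg⟩ := exists_grpObj f i g hgi
  have hqc : QuasiCompact g.left := by
    have : QuasiCompact (g.left ≫ i.left) := by
      rw [← Over.comp_left, hgi]; infer_instance
    exact QuasiCompact.of_comp g.left i.left
  have hd : IsDominant g.left := inferInstance
  exact surjective_of_dominant g g.left.denseRange

end Grp

end Groth.Agent.Lib.Helper23.GrpImage
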