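import Mathlib
import Groth.Agent.Lib.Helper23.GrpDominantFlat
import Groth.Agent.Lib.Helper23.GrpImage
import Groth.Agent.S11936

/-!
# Homomorphisms with open image to reduced group schemes over a field are flat;
the reduced subgroup scheme over a perfect field (helper23)
-/

set_option autoImplicit false
set_option linter.unusedSectionVars false
set_option linter.style.haveILetI false
set_option linter.unusedSimpArgs false

namespace Groth.Agent.Lib.Helper23.GrpOpenFlat

universe u
open CategoryTheory MonoidalCategory CartesianMonoidalCategory MonObj AlgebraicGeometry Limits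
open Groth.Agent.Lib.Helper23.GrpDominant Groth.Agent.Lib.Helper23.GrpDominantFlat

section Grp

variable {k : Type u} [Field k]
variable {G H : Over (Spec (CommRingCat.of k))} [GrpObj G] [GrpObj H]

/-- A homomorphism with open image to a reduced group scheme over a field is flat
(no quasi-compactness). -/
theorem flat_of_isOpen_range (f : G ⟶ H) [IsMonHom f]
    (hfo : IsOpen (Set.range f.left.base)) [IsReduced H.left] : Flat f.left := by
  rw [Flat.iff_flat_stalkMap]
  intro g
  let T : Over (Spec (CommRingCat.of k)) := Over.mk (G.left.fromSpecResidueField g ≫ G.hom)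
  let xT : T ⟶ G := Over.homMk (G.left.fromSpecResidueField g) rfl
  have hneT : Nonempty T.left := inferInstanceAs (Nonempty (Spec (G.left.residueField g)))
  obtain ⟨t0⟩ := hneT
  let q0 : (H ⊗ T).left := (lift (toUnit T ≫ η[H]) (𝟙 T)).left.base t0
  obtain ⟨q, hq⟩ := QuasiSober.sober (isIrreducible_irreducibleComponent (x := q0))
    isClosed_irreducibleComponent
  have hqmax : closure {q} ∈ irreducibleComponents ↥(H ⊗ T).left := by
    rw [hq.def]
    exact irreducibleComponent_mem_irreducibleComponents q0
  let βH : H ⊗ T ⟶ H := (fst H T)⁻¹ * (snd H T ≫ xT ≫ f)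
  have hβHflat : Flat βH.left := by
    have e : βH = (invShearIso (xT ≫ f)).hom ≫ fst H T := (invShearIso_hom_fst _).symm
    rw [e, Over.comp_left]
    have h1 := flat_of_isIso_over (invShearIso (xT ≫ f))
    have h2 := flat_fst H T
    infer_instance
  let ξ : H.left := βH.left.base q
  have hξmax : ∀ y : H.left, y ⤳ ξ → y = ξ :=
    isMaxPt_of_mem_irreducibleComponents _
      (Groth.Agent.S5354.closure_image_mem _ (Flat.generalizingMap _) q hqmax)
  have sqT : IsPullback (f ▷ T).left (fst G T).left (fst H T).left f.left :=
    (isPullback_whiskerRight_fst T f).map (Over.forget _)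
  have hq0 : (fst H T).left.base q0 ∈ Set.range f.left.base := by
    refine ⟨η[G].left.base ((toUnit T).left.base t0), ?_⟩
    have h1 : lift (toUnit T ≫ η[H]) (𝟙 T) ≫ fst H T = toUnit T ≫ η[G] ≫ f := by
      rw [lift_fst, IsMonHom.one_hom]
    exact (congrArg (fun t => t.left.base t0) h1).symm
  have hqspec : q ⤳ q0 := by
    rw [specializes_iff_mem_closure, hq.def]
    exact mem_irreducibleComponent
  have hopenT : IsOpen ((fst H T).left.base ⁻¹' Set.range f.left.base) :=
    hfo.preimage (fst H T).left.continuous
  have hqmem : (fst H T).left.base q ∈ Set.range f.left.base :=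
    hqspec.mem_open hopenT hq0
  obtain ⟨g', hg'⟩ := hqmem
  obtain ⟨p, hp, -⟩ := exists_preimage_of_isPullback sqT q g' hg'.symm
  let β : G ⊗ T ⟶ G := (fst G T)⁻¹ * (snd G T ≫ xT)
  have hβf : β ≫ f = (f ▷ T) ≫ βH := by
    simp only [β, βH, MonObj.mul_comp, GrpObj.inv_comp, MonObj.comp_mul, GrpObj.comp_inv,
      Category.assoc, whiskerRight_fst, whiskerRight_snd_assoc]
  let b : G.left := β.left.base p
  have hfb : f.left.base b = ξ := by
    have e2 : f.left.base (β.left.base p) = βH.left.base ((f ▷ T).left.base p) :=
      congrArg (fun t => t.left.base p) hβf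
    rw [e2, hp]
  let w₀ : (G ⊗ G).left := (lift (fst G T) β).left.base p
  have hw₀μ : μ[G].left.base w₀ = g := by
    have h1 : lift (fst G T) β ≫ μ[G] = snd G T ≫ xT := by
      show fst G T * β = _
      simp [β]
    have h2 : μ[G].left.base ((lift (fst G T) β).left.base p) = (snd G T ≫ xT).left.base p :=
      congrArg (fun t => t.left.base p) h1
    refine h2.trans ?_
    show (G.left.fromSpecResidueField g).base ((snd G T).left.base p) = g
    exact Scheme.fromSpecResidueField_apply _ _
  have hw₀snd : (snd G G).left.base w₀ = b := by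
    have h1 : lift (fst G T) β ≫ snd G G = β := lift_snd _ _
    exact congrArg (fun t => t.left.base p) h1
  -- the local scheme at `ξ`
  let Hξ : Over (Spec (CommRingCat.of k)) := Over.mk (H.left.fromSpecStalk ξ ≫ H.hom)
  let jH : Hξ ⟶ H := Over.homMk (H.left.fromSpecStalk ξ) rfl
  have hjflat : Flat jH.left := Groth.Agent.S4366.flat_fromSpecStalk H.left ξ
  let p₁ : pullback f jH ⟶ G := pullback.fst f jH
  let p₂ : pullback f jH ⟶ Hξ := pullback.snd f jH
  have hp₂ : Flat p₂.left := flat_of_isMaxPt ξ hξmax p₂.left
  have sqξ : IsPullback p₁.left p₂.left f.left jH.left :=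
    (IsPullback.of_hasPullback f jH).map (Over.forget _)
  have hp₁ : Flat p₁.left := MorphismProperty.of_isPullback (P := @Flat) sqξ.flip hjflat
  let M : G ⊗ pullback f jH ⟶ G := (G ◁ p₁) ≫ μ[G]
  have hμ : μ[G] = (shearIso (𝟙 G)).hom ≫ snd G G := by
    rw [shearIso_hom_snd, Category.comp_id, Hom.mul_def, lift_fst_snd, Category.id_comp]
  have hMflat : Flat M.left := by
    have h1 := flat_whiskerLeft G p₁ hp₁
    have h2 := flat_of_isIso_over (shearIso (𝟙 G))
    have h3 := flat_snd G G
    show Flat ((G ◁ p₁) ≫ μ[G]).left
    rw [hμ]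
    simp only [Over.comp_left]
    infer_instance
  have hMf : M ≫ f = (G ◁ p₂) ≫ (G ◁ jH) ≫ (shearIso f).hom ≫ snd G H := by
    show ((G ◁ p₁) ≫ μ[G]) ≫ f = _
    rw [hμ, shearIso_hom_snd, shearIso_hom_snd]
    simp only [Category.comp_id, MonObj.comp_mul, MonObj.mul_comp, Category.assoc,
      whiskerLeft_fst_assoc, whiskerLeft_snd_assoc, whiskerLeft_fst, whiskerLeft_snd]
    have hc : p₁ ≫ f = p₂ ≫ jH := pullback.condition
    rw [hc]
  have hMfflat : Flat (M.left ≫ f.left) := by
    have h1 := flat_whiskerLeft G p₂ hp₂
    have h2 := flat_whiskerLeft G jH hjflat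
    have h3 := flat_of_isIso_over (shearIso f)
    have h4 := flat_snd G H
    have e : M.left ≫ f.left = (M ≫ f).left := rfl
    rw [e, hMf]
    simp only [Over.comp_left]
    infer_instance
  -- the point `u`
  have hc : f.left.base b = jH.left.base (IsLocalRing.closedPoint _) := by
    rw [hfb]
    exact (Scheme.fromSpecStalk_closedPoint).symm
  obtain ⟨b', hb'1, -⟩ := exists_preimage_of_isPullback sqξ b _ hc
  have sqG := (isPullback_whiskerLeft_snd G p₁).map (Over.forget _)
  obtain ⟨u, hu1, -⟩ := exists_preimage_of_isPullback sqG w₀ b' (hw₀snd.trans hb'1.symm)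
  have hMu : M.left.base u = g := by
    show μ[G].left.base ((G ◁ p₁).left.base u) = g
    have : (G ◁ p₁).left.base u = w₀ := hu1
    rw [this, hw₀μ]
  have key := @flat_stalkMap_of_comp _ _ _ M.left f.left hMflat hMfflat u
  exact hMu ▸ key

end Grp

section Red

variable (X : Scheme.{u})

/-- the reduced subscheme -/
noncomputable abbrev red : Scheme.{u} := X.nilradical.subscheme

/-- the closed immersion of the reduced subscheme -/
noncomputable abbrev redι : red X ⟶ X := X.nilradical.subschemeι

instance : IsReduced (red X) := by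
  have : ∀ i, IsReduced (X.nilradical.subschemeCover.openCover.X i) := by
    intro (U : X.affineOpens)
    change IsReduced (Spec (.of <| Γ(X, U.1) ⧸ X.nilradical.ideal U))
    have hrad : (X.nilradical.ideal U).IsRadical := by
      change ((⊥ : X.IdealSheafData).radical.ideal U).IsRadical
      rw [Scheme.IdealSheafData.radical_ideal]
      exact Ideal.radical_isRadical _
    have : _root_.IsReduced (Γ(X, U.1) ⧸ X.nilradical.ideal U) :=
      (Ideal.isRadical_iff_quotient_reduced _).mp hrad
    infer_instance
  exact IsReduced.of_openCover _ X.nilradical.subschemeCover.openCover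

instance : Surjective (redι X) := by
  constructor
  rw [← Set.range_eq_univ, Scheme.IdealSheafData.range_subschemeι, Scheme.support_nilradical]
  rfl

end Red

section RedGrp

variable {k : Type u} [Field k] [PerfectField k]
variable (G : Over (Spec (CommRingCat.of k))) [GrpObj G]

/-- the reduced subscheme as a `k`-scheme -/
noncomputable abbrev redOver : Over (Spec (CommRingCat.of k)) := Over.mk (redι G.left ≫ G.hom)

/-- the inclusion of the reduced subscheme -/
noncomputable abbrev redOverι : redOver G ⟶ G := Over.homMk (redι G.left) rfl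

/-- Over a perfect field the reduced subscheme of a group scheme is a subgroup scheme. -/
theorem exists_grpObj_red :
    ∃ (_ : GrpObj (redOver G)), IsMonHom (redOverι G) := by
  haveI : IsClosedImmersion (redOverι G).left := inferInstanceAs (IsClosedImmersion (redι G.left))
  haveI : Surjective (redOverι G).left := inferInstanceAs (Surjective (redι G.left))
  haveI : IsReduced (redOver G).left := inferInstanceAs (IsReduced (red G.left))
  haveI : Mono (redOverι G) := Over.mono_of_mono_left _
  obtain ⟨⟨m, hm⟩, ⟨v, hv⟩, ⟨e, he⟩⟩ := Groth.Agent.S11936.result k G (redOver G) (redOverι G)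
  let inst : GrpObj (redOver G) :=
    Groth.Agent.Lib.Helper23.GrpImage.grpObjOfMono (redOverι G) e m v he hm hv
  exact ⟨inst, ⟨he, hm⟩⟩

end RedGrp

end Groth.Agent.Lib.Helper23.GrpOpenFlat
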