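import Mathlib
import Groth.Agent.Lib.Helper23.GrpSmoothLocus
import Groth.Agent.Lib.Helper62.SmoothReg5

/-!
# A group scheme of finite type over a field which is regular at the unit is smooth (helper23)
-/

set_option autoImplicit false
set_option linter.unusedSectionVars false

namespace Groth.Agent.Lib.Helper23.GrpRegularUnit

universe u
open CategoryTheory MonoidalCategory CartesianMonoidalCategory MonObj GrpObj AlgebraicGeometry Limits
  Groth.Agent.Lib.Helper23.CartierSmooth Groth.Agent.Lib.Helper23.CartierChart
  Groth.Agent.Lib.Helper23.GrpSmoothLocus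

variable {K : Type u} [Field K] (G : Over (Spec (CommRingCat.of K))) [GrpObj G]
  [LocallyOfFiniteType G.hom]

/-- If the local ring at the unit point is regular, the unit point lies in the smooth locus. -/
theorem unit_mem_smoothLocus
    (hreg : IsRegularLocalRing (G.left.presheaf.stalk (η[G].left.base (IsLocalRing.closedPoint K)))) :
    η[G].left.base (IsLocalRing.closedPoint K) ∈ G.hom.smoothLocus := by
  obtain ⟨U, hU, heU, -⟩ := exists_isAffineOpen_mem_and_subset
    (x := η[G].left.base (IsLocalRing.closedPoint K)) (U := ⊤) trivial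
  let _ := chartAlgebra G U
  have hft : Algebra.FiniteType K Γ(G.left, U) := finiteType_chart G hU
  let j : Spec (CommRingCat.of Γ(G.left, U)) ⟶ G.left := hU.fromSpec
  have hjo : IsOpenImmersion j := inferInstanceAs (IsOpenImmersion hU.fromSpec)
  have hj : j ≫ G.hom = Spec.map (CommRingCat.ofHom (algebraMap K Γ(G.left, U))) := fromSpec_hom G hU
  have he : η[G].left.base (IsLocalRing.closedPoint K) ∈ Set.range j.base := by
    have : Set.range j.base = U := hU.range_fromSpec
    rw [this]
    exact heU
  obtain ⟨ε, hε⟩ := exists_tpt_eq G j hj (1 : VecGrp.pt K K ⟶ G) (range_one_subset G j he)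
  have hsurj : Function.Surjective ε := fun k => ⟨algebraMap K _ k, by rw [AlgHom.commutes]; rfl⟩
  have hmax : (RingHom.ker ε).IsMaximal := RingHom.ker_isMaximal_of_surjective _ hsurj
  let q : Ideal Γ(G.left, U) := RingHom.ker ε
  let y : ↥(Spec (CommRingCat.of Γ(G.left, U))) := (⟨q, hmax.isPrime⟩ : PrimeSpectrum Γ(G.left, U))
  -- the unit point is the image of `y`
  have hy : j.base y = η[G].left.base (IsLocalRing.closedPoint K) := by
    have h1 := congrArg (fun t => t.left.base (IsLocalRing.closedPoint K)) hε
    have h2 : (1 : VecGrp.pt K K ⟶ G).left.base (IsLocalRing.closedPoint K) =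
        η[G].left.base (IsLocalRing.closedPoint K) := by
      have h1' : (1 : VecGrp.pt K K ⟶ G) = toUnit _ ≫ η[G] := rfl
      have : (1 : VecGrp.pt K K ⟶ G).left.base (IsLocalRing.closedPoint K) =
          η[G].left.base ((toUnit (VecGrp.pt K K)).left.base (IsLocalRing.closedPoint K)) := by
        rw [h1']; rfl
      rw [this]
      congr 1
    rw [← h2, ← h1]
    show j.base y = j.base ((Spec.map (CommRingCat.ofHom ε.toRingHom)).base (IsLocalRing.closedPoint K))
    congr 1
    apply PrimeSpectrum.ext
    show q = Ideal.comap ε.toRingHom (IsLocalRing.maximalIdeal K)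
    rw [IsLocalRing.maximalIdeal_eq_bot]
    rfl
  have hyU : j.base y ∈ U := by rw [hy]; exact heU
  -- regularity of the localization
  have hloc := hU.isLocalization_stalk' y hyU
  let _ := TopCat.Presheaf.algebra_section_stalk G.left.presheaf ⟨j.base y, hyU⟩
  have hloc' : IsLocalization q.primeCompl (G.left.presheaf.stalk (j.base y)) := hloc
  have hreg' : IsRegularLocalRing (G.left.presheaf.stalk (j.base y)) := by rw [hy]; exact hreg
  have hreg'' : IsRegularLocalRing (Localization.AtPrime q) :=
    IsRegularLocalRing.of_ringEquiv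
      (IsLocalization.algEquiv q.primeCompl (G.left.presheaf.stalk (j.base y))
        (Localization.AtPrime q)).toRingEquiv
  -- the residue field is `K`
  have hκ : Function.Surjective (algebraMap K q.ResidueField) := by
    intro z
    obtain ⟨x, rfl⟩ := Ideal.algebraMap_residueField_surjective q z
    refine ⟨ε x, ?_⟩
    rw [IsScalarTower.algebraMap_apply K Γ(G.left, U) q.ResidueField]
    have hx : x - algebraMap K Γ(G.left, U) (ε x) ∈ q := by
      show ε (x - algebraMap K Γ(G.left, U) (ε x)) = 0
      rw [map_sub, AlgHom.commutes]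
      exact sub_self _
    have := (Ideal.algebraMap_residueField_eq_zero (I := q)).2 hx
    rw [map_sub, sub_eq_zero] at this
    exact this.symm
  have hfs : Algebra.FormallySmooth K q.ResidueField :=
    Algebra.FormallySmooth.of_equiv
      (AlgEquiv.ofBijective (Algebra.ofId K q.ResidueField)
        ⟨(algebraMap K q.ResidueField).injective, hκ⟩)
  have hsm : Algebra.IsSmoothAt K q :=
    (Groth.Agent.Lib.Helper62.SmoothReg.isSmoothAt_iff_isRegularLocalRing K Γ(G.left, U) q).2 hreg''
  -- translate to the smooth locus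
  rw [← hy, Scheme.Hom.mem_smoothLocus,
    formallySmooth_stalkMap_iff ⊤ (isAffineOpen_top _) U hU le_top hyU]
  have hprime : hU.primeIdealOf ⟨j.base y, hyU⟩ = y := by
    apply hU.fromSpec.isOpenEmbedding.injective
    exact hU.fromSpec_primeIdealOf ⟨j.base y, hyU⟩
  rw [hprime]
  let a1 : Algebra Γ(Spec (CommRingCat.of K), ⊤) Γ(G.left, U) := (G.hom.appLE ⊤ U le_top).hom.toAlgebra
  let a2 : Algebra K Γ(Spec (CommRingCat.of K), ⊤) :=
    ((Scheme.ΓSpecIso (CommRingCat.of K)).inv).hom.toAlgebra
  have t1 : IsScalarTower K Γ(Spec (CommRingCat.of K), ⊤) Γ(G.left, U) :=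
    IsScalarTower.of_algebraMap_eq (fun x => rfl)
  have t2 : IsScalarTower K Γ(Spec (CommRingCat.of K), ⊤) (Localization.AtPrime q) :=
    IsScalarTower.of_algebraMap_eq (fun x => by
      rw [IsScalarTower.algebraMap_apply K Γ(G.left, U) (Localization.AtPrime q),
        IsScalarTower.algebraMap_apply Γ(Spec (CommRingCat.of K), ⊤) Γ(G.left, U)
          (Localization.AtPrime q),
        IsScalarTower.algebraMap_apply K Γ(Spec (CommRingCat.of K), ⊤) Γ(G.left, U)])
  have hbij : Function.Bijective (algebraMap K Γ(Spec (CommRingCat.of K), ⊤)) :=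
    ConcreteCategory.bijective_of_isIso (Scheme.ΓSpecIso (CommRingCat.of K)).inv
  have het : Algebra.FormallyEtale K Γ(Spec (CommRingCat.of K), ⊤) :=
    Algebra.FormallyEtale.of_equiv
      (AlgEquiv.ofBijective (Algebra.ofId K Γ(Spec (CommRingCat.of K), ⊤)) hbij)
  show Algebra.FormallySmooth Γ(Spec (CommRingCat.of K), ⊤) (Localization.AtPrime q)
  exact (Algebra.FormallySmooth.iff_restrictScalars (R := K)
    (A := Γ(Spec (CommRingCat.of K), ⊤)) (B := Localization.AtPrime q)).1 hsm

end Groth.Agent.Lib.Helper23.GrpRegularUnit
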