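import Mathlib
import Groth.Agent.S0346

/-!
# Group schemes over a field are separated (helper23)
-/

set_option autoImplicit false

namespace Groth.Agent.Lib.Helper23.GrpSeparated

universe u
open CategoryTheory MonoidalCategory CartesianMonoidalCategory MonObj AlgebraicGeometry

/-- A group scheme over a field is separated. -/
theorem isSeparated_of_field {k : Type u} [Field k] (G : Over (Spec (CommRingCat.of k))) [GrpObj G] :
    IsSeparated G.hom := by
  rw [(Groth.Agent.S0346.result (Spec (CommRingCat.of k)) G).1]
  have h : η[G].left ≫ G.hom = 𝟙 (Spec (CommRingCat.of k)) := Over.w η[G]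
  have hs : Subsingleton ↥(Spec (CommRingCat.of k)) :=
    inferInstanceAs (Subsingleton (PrimeSpectrum k))
  exact isClosedImmersion_of_comp_eq_id G.hom η[G].left h

end Groth.Agent.Lib.Helper23.GrpSeparated
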