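import Mathlib
import Groth.Agent.Lib.Helper16.FinHopfFrobImage
import Groth.Agent.Lib.Helper75.KerHopf
import Groth.Agent.Lib.Helper23.HopfFlatSub

/-!
# The iterated Frobenius image of a commutative Hopf algebra (helper23)
-/

set_option autoImplicit false
set_option linter.unusedSectionVars false

namespace Groth.Agent.Lib.Helper23.HopfFlat

open TensorProduct Groth.Agent.Lib.Helper16.FinHopf

universe u v

section

variable (k : Type u) [Field k] (p : ℕ) [Fact p.Prime] [CharP k p] (n : ℕ)
  (H : Type v) [CommRing H] [HopfAlgebra k H]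

/-- The subalgebra generated by the `p ^ n`-th powers. -/
def frobPow : Subalgebra k H := Algebra.adjoin k (Set.range fun a : H => a ^ p ^ n)

variable {k p n H}

theorem pow_mem_frobPow (a : H) : a ^ p ^ n ∈ frobPow k p n H :=
  Algebra.subset_adjoin ⟨a, rfl⟩

theorem isSubBialg_frobPow : IsSubBialg (frobPow k p n H) := by
  have : Nontrivial H := nontrivial_of_counit k H
  have : Nontrivial (H ⊗[k] H) :=
    Algebra.TensorProduct.nontrivial_of_algebraMap_injective_of_flat_left k H H
      (algebraMap k H).injective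
  have : CharP (H ⊗[k] H) p := charP_of_nontrivial_algebra (k := k) _
  have hp0 : p ^ n ≠ 0 := pow_ne_zero _ (Fact.out : p.Prime).ne_zero
  have key : ∀ t : H ⊗[k] H, t ^ p ^ n ∈ (incl₂ (frobPow k p n H)).range := by
    intro t
    induction t using TensorProduct.induction_on with
    | zero => rw [zero_pow hp0]; exact Subalgebra.zero_mem _
    | add s t hs ht => rw [add_pow_char_pow]; exact Subalgebra.add_mem _ hs ht
    | tmul x y =>
      refine ⟨(⟨x ^ p ^ n, pow_mem_frobPow x⟩ : frobPow k p n H) ⊗ₜ[k]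
        (⟨y ^ p ^ n, pow_mem_frobPow y⟩ : frobPow k p n H), ?_⟩
      show incl₂ (frobPow k p n H) (_ ⊗ₜ[k] _) = _
      rw [incl₂_tmul, Algebra.TensorProduct.tmul_pow]
  have hle : frobPow k p n H ≤
      (incl₂ (frobPow k p n H)).range.comap (Bialgebra.comulAlgHom k H) := by
    refine Algebra.adjoin_le ?_
    rintro _ ⟨a, rfl⟩
    rw [SetLike.mem_coe, Subalgebra.mem_comap]
    show Bialgebra.comulAlgHom k H (a ^ p ^ n) ∈ _
    rw [map_pow]
    exact key _
  intro b
  exact hle b.2

theorem antipode_mem_frobPow (b : H) (hb : b ∈ frobPow k p n H) :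
    HopfAlgebraStruct.antipode (R := k) b ∈ frobPow k p n H := by
  have hle : frobPow k p n H ≤ (frobPow k p n H).comap (HopfAlgebra.antipodeAlgHom k H) := by
    refine Algebra.adjoin_le ?_
    rintro _ ⟨a, rfl⟩
    rw [SetLike.mem_coe, Subalgebra.mem_comap, map_pow]
    exact pow_mem_frobPow _
  exact hle hb

theorem exists_pow_eq_of_mem_frobPow [IsAlgClosed k] (x : H) (hx : x ∈ frobPow k p n H) :
    ∃ b : H, b ^ p ^ n = x := by
  have : Nontrivial H := nontrivial_of_counit k H
  have : CharP H p := charP_of_nontrivial_algebra (k := k) _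
  have hp0 : 0 < p ^ n := pow_pos (Fact.out : p.Prime).pos _
  induction hx using Algebra.adjoin_induction with
  | mem x hx => obtain ⟨a, rfl⟩ := hx; exact ⟨a, rfl⟩
  | algebraMap r =>
    obtain ⟨c, hc⟩ := IsAlgClosed.exists_pow_nat_eq r hp0
    exact ⟨algebraMap k H c, by rw [← map_pow, hc]⟩
  | add x y _ _ hx hy =>
    obtain ⟨a, rfl⟩ := hx
    obtain ⟨b, rfl⟩ := hy
    exact ⟨a + b, add_pow_char_pow a b p n⟩
  | mul x y _ _ hx hy =>
    obtain ⟨a, rfl⟩ := hx
    obtain ⟨b, rfl⟩ := hy
    exact ⟨a * b, mul_pow _ _ _⟩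

theorem isReduced_frobPow [IsAlgClosed k] (hN : nilradical H ^ (p ^ n) = ⊥) :
    IsReduced (frobPow k p n H) := by
  refine ⟨fun x hx => ?_⟩
  obtain ⟨m, hm⟩ := hx
  obtain ⟨b, hb⟩ := exists_pow_eq_of_mem_frobPow (k := k) (p := p) (n := n) (x : H) x.2
  have h1 : (x : H) ^ m = 0 := by
    have := congrArg Subtype.val hm
    simpa using this
  have hbn : b ∈ nilradical H := by
    rw [mem_nilradical]
    refine ⟨p ^ n * m, ?_⟩
    rw [pow_mul, hb, h1]
  have h2 : b ^ p ^ n ∈ nilradical H ^ (p ^ n) := Ideal.pow_mem_pow hbn _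
  rw [hN, Ideal.mem_bot, hb] at h2
  exact Subtype.ext h2

theorem fg_frobPow [Algebra.FiniteType k H] : (frobPow k p n H).FG := by
  have : Nontrivial H := nontrivial_of_counit k H
  have : CharP H p := charP_of_nontrivial_algebra (k := k) _
  obtain ⟨s, hs⟩ := (Algebra.FiniteType.out : (⊤ : Subalgebra k H).FG)
  classical
  refine ⟨s.image (fun a => a ^ p ^ n), ?_⟩
  apply le_antisymm
  · refine Algebra.adjoin_le ?_
    intro x hx
    rw [Finset.coe_image] at hx
    obtain ⟨a, -, rfl⟩ := hx
    exact pow_mem_frobPow a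
  · set X := Algebra.adjoin k ((s.image (fun a => a ^ p ^ n) : Finset H) : Set H) with hX
    let T : Subalgebra k H :=
      { carrier := {b | b ^ p ^ n ∈ X}
        mul_mem' := fun {a b} ha hb => by
          show (a * b) ^ p ^ n ∈ X
          rw [mul_pow]; exact X.mul_mem ha hb
        add_mem' := fun {a b} ha hb => by
          show (a + b) ^ p ^ n ∈ X
          rw [add_pow_char_pow]; exact X.add_mem ha hb
        algebraMap_mem' := fun r => by
          show (algebraMap k H r) ^ p ^ n ∈ X
          rw [← map_pow]; exact X.algebraMap_mem _ }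
    have hT : T = ⊤ := by
      rw [eq_top_iff, ← hs]
      refine Algebra.adjoin_le ?_
      intro a ha
      show a ^ p ^ n ∈ X
      exact Algebra.subset_adjoin (Finset.mem_coe.2 (Finset.mem_image_of_mem _ ha))
    refine Algebra.adjoin_le ?_
    rintro _ ⟨a, rfl⟩
    have : a ∈ T := by rw [hT]; trivial
    exact this

end

end Groth.Agent.Lib.Helper23.HopfFlat
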