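import Mathlib

/-!
# Auxiliary commutative algebra for faithful flatness of Hopf algebras (helper23)

* `flat_of_comp_faithfullyFlat`: if `g ∘ φ` is flat and `g` is faithfully flat then `φ` is flat.
* `nontrivial_tensor_of_injective_flat`: the pushout of two injective flat maps out of a
  nontrivial ring is nontrivial.
* `eq_top_of_sup_smul_of_pow_eq_bot`: nilpotent Nakayama.
* `bijective_of_bijective_mod_nilpotent`: a linear map into a projective module that is bijective
  modulo a nilpotent ideal is bijective.
-/

set_option autoImplicit false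

namespace Groth.Agent.Lib.Helper23.HopfFlatAux

open TensorProduct

universe u v w

section FlatComp

/-- If `g ∘ φ` is flat and `g` is faithfully flat, then `φ` is flat. -/
theorem flat_of_comp_faithfullyFlat {B : Type u} {A : Type v} {C : Type w} [CommRing B] [CommRing A]
    [CommRing C] (φ : B →+* A) (g : A →+* C) (hg : g.FaithfullyFlat) (hc : (g.comp φ).Flat) :
    φ.Flat := by
  algebraize [φ, g, g.comp φ]
  have hCB : Module.Flat B C := hc
  have hCA : Module.FaithfullyFlat A C := hg
  show Module.Flat B A
  rw [Module.Flat.iff_lTensor_preserves_injective_linearMap]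
  intro N P _ _ _ _ f hf
  have h1 : Function.Injective (f.lTensor C) :=
    Module.Flat.lTensor_preserves_injective_linearMap f hf
  have h2 : Function.Injective ((f.baseChange A).lTensor C) := by
    have key := TensorProduct.AlgebraTensorModule.lTensor_comp_cancelBaseChange B A C (M := C) f
    have h3 : Function.Injective
        ((TensorProduct.AlgebraTensorModule.cancelBaseChange B A C C P).toLinearMap ∘ₗ
          TensorProduct.AlgebraTensorModule.lTensor C C (TensorProduct.AlgebraTensorModule.lTensor A A f)) := by
      rw [← key]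
      exact h1.comp (TensorProduct.AlgebraTensorModule.cancelBaseChange B A C C N).injective
    have h4 : Function.Injective
        (TensorProduct.AlgebraTensorModule.lTensor C C (TensorProduct.AlgebraTensorModule.lTensor A A f)) :=
      Function.Injective.of_comp (f := (TensorProduct.AlgebraTensorModule.cancelBaseChange B A C C P)) (by simpa using h3)
    exact h4
  have h5 := (Module.FaithfullyFlat.lTensor_injective_iff_injective A C (f.baseChange A)).1 h2
  exact h5

end FlatComp

section Nilpotent

variable {R : Type u} [CommRing R] {M : Type v} [AddCommGroup M] [Module R M]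
  {N : Type w} [AddCommGroup N] [Module R N]

/-- Nilpotent Nakayama: if `I ^ n = 0` and `P + I M = M` then `P = M`. -/
theorem eq_top_of_sup_smul_eq_top (I : Ideal R) (n : ℕ) (hI : I ^ n = ⊥) (P : Submodule R M)
    (h : P ⊔ I • (⊤ : Submodule R M) = ⊤) : P = ⊤ := by
  have key : ∀ m : ℕ, P ⊔ (I ^ m) • (⊤ : Submodule R M) = ⊤ := by
    intro m
    induction m with
    | zero => simp
    | succ m ih =>
      rw [eq_top_iff]
      calc (⊤ : Submodule R M) = P ⊔ I • (⊤ : Submodule R M) := h.symm
        _ = P ⊔ I • (P ⊔ (I ^ m) • (⊤ : Submodule R M)) := by rw [ih]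
        _ = P ⊔ (I • P ⊔ I • ((I ^ m) • (⊤ : Submodule R M))) := by rw [Submodule.smul_sup]
        _ ≤ P ⊔ (I ^ (m + 1)) • (⊤ : Submodule R M) := by
          refine sup_le le_sup_left (sup_le ?_ ?_)
          · exact le_trans Submodule.smul_le_right le_sup_left
          · rw [← Submodule.mul_smul, ← pow_succ']
            exact le_sup_right
  have := key n
  rwa [hI, Submodule.bot_smul, sup_bot_eq] at this

/-- If `I ^ n = 0` and `K ≤ I K` then `K = 0`. -/
theorem eq_bot_of_le_smul (I : Ideal R) (n : ℕ) (hI : I ^ n = ⊥) (K : Submodule R M)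
    (h : K ≤ I • K) : K = ⊥ := by
  have key : ∀ m : ℕ, K ≤ (I ^ m) • K := by
    intro m
    induction m with
    | zero => simp
    | succ m ih =>
      calc K ≤ I • K := h
        _ ≤ I • ((I ^ m) • K) := Submodule.smul_mono le_rfl ih
        _ = (I ^ (m + 1)) • K := by rw [← Submodule.mul_smul, ← pow_succ']
  have := key n
  rw [hI, Submodule.bot_smul] at this
  exact le_bot_iff.1 this

/-- A linear map into a projective module which is bijective modulo a nilpotent ideal is
bijective. -/
theorem bijective_of_bijective_mod_nilpotent (I : Ideal R) (n : ℕ) (hI : I ^ n = ⊥)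
    [Module.Projective R N] (f : M →ₗ[R] N)
    (hsurj : ∀ y : N, ∃ x : M, y - f x ∈ I • (⊤ : Submodule R N))
    (hinj : ∀ x : M, f x ∈ I • (⊤ : Submodule R N) → x ∈ I • (⊤ : Submodule R M)) :
    Function.Bijective f := by
  have hs : Function.Surjective f := by
    rw [← LinearMap.range_eq_top]
    apply eq_top_of_sup_smul_eq_top I n hI
    rw [eq_top_iff]
    rintro y -
    obtain ⟨x, hx⟩ := hsurj y
    have : y = f x + (y - f x) := by abel
    rw [this]
    exact Submodule.add_mem_sup (LinearMap.mem_range_self f x) hx
  refine ⟨?_, hs⟩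
  obtain ⟨s, hs'⟩ := Module.projective_lifting_property f LinearMap.id hs
  have hfs : ∀ y, f (s y) = y := fun y => by
    have := congrArg (fun g => g y) hs'
    simpa using this
  rw [← LinearMap.ker_eq_bot]
  apply eq_bot_of_le_smul I n hI
  intro x hx
  rw [LinearMap.mem_ker] at hx
  have hx1 : x ∈ I • (⊤ : Submodule R M) := hinj x (by rw [hx]; exact Submodule.zero_mem _)
  -- the projection onto the kernel
  let p : M →ₗ[R] M := LinearMap.id - s ∘ₗ f
  have hp : ∀ m, p m ∈ LinearMap.ker f := by
    intro m
    rw [LinearMap.mem_ker]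
    simp [p, hfs]
  have hpx : p x = x := by simp [p, hx]
  have h2 : p x ∈ Submodule.map p (I • (⊤ : Submodule R M)) := Submodule.mem_map_of_mem hx1
  rw [Submodule.map_smul''] at h2
  rw [hpx] at h2
  refine Submodule.smul_mono (le_refl I) ?_ h2
  rintro _ ⟨m, -, rfl⟩
  exact hp m

end Nilpotent

end Groth.Agent.Lib.Helper23.HopfFlatAux
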