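import Mathlib
import Groth.Agent.Lib.Helper8.GenFree2

/-!
# Generic flatness over a reduced Noetherian ring (helper23)

`exists_flat_away`: for a reduced Noetherian nontrivial ring `R` and a finite type `R`-algebra `S`
there is a non-nilpotent `g : R` such that `S[1/g]` is flat over `R`.
-/

set_option autoImplicit false

namespace Groth.Agent.Lib.Helper23.HopfFlat

open TensorProduct

universe u v

theorem exists_away_isDomain (R : Type u) [CommRing R] [IsNoetherianRing R] [IsReduced R]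
    [Nontrivial R] : ∃ g : R, IsDomain (Localization.Away g) := by
  classical
  obtain ⟨⟨P, hP⟩⟩ := Ideal.nonempty_minimalPrimes (I := (⊥ : Ideal R)) bot_ne_top
  have hPprime : P.IsPrime := hP.1.1
  have hfin : (minimalPrimes R).Finite := minimalPrimes.finite_of_isNoetherianRing R
  set s := hfin.toFinset.erase P with hs
  have hx : ∀ Q : Ideal R, ∃ x : R, (Q ∈ s → x ∈ Q) ∧ x ∉ P := by
    intro Q
    by_cases hQ : Q ∈ s
    · rw [hs, Finset.mem_erase, Set.Finite.mem_toFinset] at hQ
      have hnle : ¬ Q ≤ P := by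
        intro hle
        have := hP.2 ⟨hQ.2.1.1, bot_le⟩ hle
        exact hQ.1 (le_antisymm hle this)
      obtain ⟨x, hxQ, hxP⟩ := SetLike.not_le_iff_exists.1 hnle
      exact ⟨x, fun _ => hxQ, hxP⟩
    · exact ⟨1, fun h => absurd h hQ, fun h => hPprime.ne_top ((Ideal.eq_top_iff_one _).2 h)⟩
  choose x hx using hx
  set g₁ := ∏ Q ∈ s, x Q with hg₁
  have hg₁P : g₁ ∉ P := by
    rw [hg₁, Ideal.IsPrime.prod_mem_iff]
    rintro ⟨Q, -, hQ⟩
    exact (hx Q).2 hQ
  have hg₁Q : ∀ Q ∈ s, g₁ ∈ Q := by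
    intro Q hQ
    exact Ideal.mem_of_dvd _ (Finset.dvd_prod_of_mem x hQ) ((hx Q).1 hQ)
  have hzero : ∀ y ∈ P, g₁ * y = 0 := by
    intro y hy
    have h1 : g₁ * y ∈ sInf (minimalPrimes R) := by
      rw [Submodule.mem_sInf]
      intro Q hQ
      by_cases hQP : Q = P
      · rw [hQP]; exact Ideal.mul_mem_left _ _ hy
      · have : Q ∈ s := by
          rw [hs, Finset.mem_erase, Set.Finite.mem_toFinset]
          exact ⟨hQP, hQ⟩
        exact Ideal.mul_mem_right _ _ (hg₁Q Q this)
    have h2 : sInf (minimalPrimes R) = ⊥ := by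
      rw [minimalPrimes, Ideal.sInf_minimalPrimes]
      exact nilradical_eq_zero R
    rw [h2] at h1
    exact h1
  refine ⟨g₁, ?_⟩
  have hdisj : Disjoint (Submonoid.powers g₁ : Set R) (P : Set R) := by
    rw [Set.disjoint_left]
    rintro _ ⟨n, rfl⟩ hn
    exact hg₁P (hPprime.mem_of_pow_mem n hn)
  have hprime : (Ideal.map (algebraMap R (Localization.Away g₁)) P).IsPrime :=
    IsLocalization.isPrime_of_isPrime_disjoint (Submonoid.powers g₁) _ P hPprime hdisj
  have hbot : Ideal.map (algebraMap R (Localization.Away g₁)) P = ⊥ := by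
    rw [Ideal.map_eq_bot_iff_le_ker]
    intro y hy
    rw [RingHom.mem_ker, IsLocalization.map_eq_zero_iff (Submonoid.powers g₁)]
    exact ⟨⟨g₁, Submonoid.mem_powers g₁⟩, hzero y hy⟩
  rw [hbot] at hprime
  exact IsDomain.of_bot_isPrime _

open Groth.Agent.Lib.Helper8.GenFree in
theorem exists_flat_away (R : Type u) [CommRing R] [IsNoetherianRing R] [IsReduced R]
    [Nontrivial R] (S : Type v) [CommRing S] [Algebra R S] [Algebra.FiniteType R S] :
    ∃ g : R, ¬ IsNilpotent g ∧ Module.Flat R (Localization.Away (algebraMap R S g)) := by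
  classical
  obtain ⟨g₁, hdom⟩ := exists_away_isDomain R
  let R₁ := Localization.Away g₁
  let M := R₁ ⊗[R] S
  have hGF : GF R₁ M := gf_of_finiteType (R := R₁) M M
  obtain ⟨f, hf0, hf⟩ := hGF
  let R₂ := Localization.Away f
  have hfree : Module.Free R₂ (R₂ ⊗[R₁] M) :=
    hf R₂ (IsLocalization.Away.algebraMap_isUnit f)
  obtain ⟨⟨a, ⟨_, m, rfl⟩⟩, hfa⟩ := IsLocalization.surj (Submonoid.powers g₁) f
  have hunit : IsUnit (algebraMap R R₁ (g₁ ^ m)) :=
    IsLocalization.map_units R₁ (⟨g₁ ^ m, m, rfl⟩ : Submonoid.powers g₁)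
  have hassoc : Associated (algebraMap R R₁ a) f := by
    obtain ⟨u, hu⟩ := hunit
    refine ⟨u⁻¹, ?_⟩
    have : f * (u : R₁) = algebraMap R R₁ a := by rw [hu]; exact hfa
    rw [← this, mul_assoc, Units.mul_inv, mul_one]
  have : IsLocalization.Away (g₁ * a) R₂ :=
    IsLocalization.Away.mul_of_associated (S := R₁) g₁ a f hassoc
  refine ⟨g₁ * a, ?_, ?_⟩
  · intro hnil
    have h1 : IsNilpotent (algebraMap R R₁ (g₁ * a)) := hnil.map _
    have h2 : algebraMap R R₁ (g₁ * a) = 0 := h1.eq_zero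
    rw [map_mul] at h2
    have hg₁unit : IsUnit (algebraMap R R₁ g₁) := IsLocalization.Away.algebraMap_isUnit g₁
    have h3 : algebraMap R R₁ a = 0 := (hg₁unit.mul_right_eq_zero).1 h2
    obtain ⟨u, hu⟩ := hassoc
    rw [h3, zero_mul] at hu
    exact hf0 hu.symm
  · -- flatness
    let T := S ⊗[R] R₂
    have hloc : IsLocalization (Algebra.algebraMapSubmonoid S (Submonoid.powers (g₁ * a))) T :=
      IsLocalization.tensor (S := S) R₂ (Submonoid.powers (g₁ * a))
    rw [Algebra.algebraMapSubmonoid_powers] at hloc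
    let e : Localization.Away (algebraMap R S (g₁ * a)) ≃ₐ[S] T :=
      IsLocalization.algEquiv (Submonoid.powers (algebraMap R S (g₁ * a)))
        (Localization.Away (algebraMap R S (g₁ * a))) T
    have hflat₂ : Module.Flat R₂ (R₂ ⊗[R] S) := by
      have e2 : (R₂ ⊗[R₁] M) ≃ₗ[R₂] R₂ ⊗[R] S :=
        TensorProduct.AlgebraTensorModule.cancelBaseChange R R₁ R₂ R₂ S
      have : Module.Free R₂ (R₂ ⊗[R] S) := Module.Free.of_equiv e2
      infer_instance
    have hflat : Module.Flat R (R₂ ⊗[R] S) := Module.Flat.trans R R₂ _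
    have hflatT : Module.Flat R T := Module.Flat.of_linearEquiv (TensorProduct.comm R S R₂)
    exact Module.Flat.of_linearEquiv (e.toLinearEquiv.restrictScalars R)

end Groth.Agent.Lib.Helper23.HopfFlat
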