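import Mathlib
import Groth.Agent.Lib.Helper16.FinHopfTransl
import Groth.Agent.Lib.Helper16.FinHopfCartierFG
import Groth.Agent.Lib.Helper16.FinHopfFrobImage
import Groth.Agent.Lib.Helper23.HopfFlatAux
import Groth.Agent.Lib.Helper23.HopfFlatGeneric

/-!
# Faithful flatness over a reduced Hopf subalgebra, algebraically closed base field (helper23)
-/

set_option autoImplicit false
set_option linter.unusedSectionVars false

namespace Groth.Agent.Lib.Helper23.HopfFlat

open TensorProduct WithConv Groth.Agent.Lib.Helper16.FinHopf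

universe u v w

section Transl

variable {k : Type u} [CommRing k] {B : Type v} [CommRing B] [HopfAlgebra k B]
  {A : Type w} [CommRing A] [HopfAlgebra k A] (φ : B →ₐc[k] A)

theorem comp_transl (x y : WithConv (A →ₐ[k] k)) :
    y.ofConv.comp (transl x) = (x * y).ofConv := by
  apply WithConv.toConv_injective
  have h1 : toConv (y.ofConv.comp (transl x)) = postComp y.ofConv (toConv (transl x)) := rfl
  rw [h1, toConv_transl, map_mul]
  have h2 : postComp y.ofConv (postComp (Algebra.ofId k A) x) = x := by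
    apply WithConv.ofConv_injective
    apply AlgHom.ext
    intro a
    simp [Algebra.ofId_apply]
  have h3 : postComp y.ofConv (toConv (AlgHom.id k A)) = y := by
    apply WithConv.ofConv_injective
    apply AlgHom.ext
    intro a
    simp
  rw [h2, h3]

theorem transl_comp_bialgHom (x : WithConv (A →ₐ[k] k)) :
    (transl x).comp (φ : B →ₐ[k] A) = (φ : B →ₐ[k] A).comp (transl (preComp φ x)) := by
  apply WithConv.toConv_injective
  have h1 : toConv ((transl x).comp (φ : B →ₐ[k] A)) = preComp φ (toConv (transl x)) := rfl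
  have h2 : toConv ((φ : B →ₐ[k] A).comp (transl (preComp φ x))) =
      postComp (φ : B →ₐ[k] A) (toConv (transl (preComp φ x))) := rfl
  rw [h1, h2, toConv_transl, toConv_transl, map_mul, map_mul]
  congr 1
  apply WithConv.ofConv_injective
  apply AlgHom.ext
  intro b
  simp only [preComp_apply, postComp_apply, WithConv.ofConv_toConv, AlgHom.comp_apply,
    Algebra.ofId_apply]
  exact (AlgHomClass.commutes φ _).symm

theorem transl_bialgHom_apply (x : WithConv (A →ₐ[k] k)) (b : B) :
    transl x (φ b) = φ (transl (preComp φ x) b) := by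
  have := congrArg (fun f => f b) (transl_comp_bialgHom φ x)
  exact this

end Transl

section Equiv

theorem flat_away_of_equiv {B : Type v} {A : Type w} [CommRing B] [CommRing A] (φ : B →+* A)
    (τ : A ≃+* A) (σ : B ≃+* B) (hcomm : ∀ b, τ (φ b) = φ (σ b)) (r : A)
    (h : ((algebraMap A (Localization.Away r)).comp φ).Flat) :
    ((algebraMap A (Localization.Away (τ r))).comp φ).Flat := by
  have H : (Submonoid.powers r).map τ.toMonoidHom = Submonoid.powers (τ r) := by
    rw [Submonoid.map_powers]
    rfl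
  let E : Localization.Away r ≃+* Localization.Away (τ r) :=
    IsLocalization.ringEquivOfRingEquiv (Localization.Away r) (Localization.Away (τ r)) τ H
  have hE : ∀ x, E (algebraMap A (Localization.Away r) x) =
      algebraMap A (Localization.Away (τ r)) (τ x) := fun x =>
    IsLocalization.ringEquivOfRingEquiv_eq H x
  have heq : (algebraMap A (Localization.Away (τ r))).comp φ =
      ((E : Localization.Away r →+* Localization.Away (τ r)).comp
        ((algebraMap A (Localization.Away r)).comp φ)).comp (σ.symm : B →+* B) := by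
    ext x
    simp only [RingHom.comp_apply, RingHom.coe_coe]
    rw [hE, hcomm, RingEquiv.apply_symm_apply]
  rw [heq]
  exact ((RingHom.Flat.of_bijective σ.symm.bijective).comp
    (h.comp (RingHom.Flat.of_bijective E.bijective)))

end Equiv

section Points

variable {k : Type u} [Field k] [IsAlgClosed k] {A : Type w} [CommRing A] [Algebra k A]
  [Algebra.FiniteType k A]

theorem exists_point_ne_zero (a : A) (ha : ¬ IsNilpotent a) : ∃ z : A →ₐ[k] k, z a ≠ 0 := by
  have : IsJacobsonRing A := isJacobsonRing_of_finiteType (A := k) (B := A)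
  have h1 : (nilradical A).jacobson = nilradical A :=
    IsJacobsonRing.out inferInstance (Ideal.radical_isRadical _)
  have h2 : a ∉ (nilradical A).jacobson := by
    rw [h1, mem_nilradical]; exact ha
  rw [Ideal.jacobson, Submodule.mem_sInf] at h2
  push Not at h2
  obtain ⟨m, ⟨-, hm⟩, ham⟩ := h2
  obtain ⟨z, hz⟩ := exists_algHom_ker_eq_of_finiteType (k := k) m
  refine ⟨z, fun h => ham ?_⟩
  rw [← hz, RingHom.mem_ker]
  exact h

end Points

section PointPair

variable {k : Type u} [Field k] [IsAlgClosed k]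

theorem exists_point_pair {R₀ : Type v} {S₁ : Type w} {S₂ : Type w} [CommRing R₀] [CommRing S₁]
    [CommRing S₂] [Algebra k R₀] [Algebra k S₁] [Algebra k S₂] [Algebra.FiniteType k S₁]
    [Algebra.FiniteType k S₂] [Nontrivial S₂] (f₁ : R₀ →ₐ[k] S₁) (f₂ : R₀ →ₐ[k] S₂)
    (h₁ : Function.Injective f₁) (h₂ : (f₂ : R₀ →+* S₂).Flat) :
    ∃ (u₁ : S₁ →ₐ[k] k) (u₂ : S₂ →ₐ[k] k), u₁.comp f₁ = u₂.comp f₂ := by
  let _ : Algebra R₀ S₁ := (f₁ : R₀ →+* S₁).toAlgebra
  let _ : Algebra R₀ S₂ := (f₂ : R₀ →+* S₂).toAlgebra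
  have : IsScalarTower k R₀ S₁ := IsScalarTower.of_algebraMap_eq (fun x => (f₁.commutes x).symm)
  have : IsScalarTower k R₀ S₂ := IsScalarTower.of_algebraMap_eq (fun x => (f₂.commutes x).symm)
  have : Module.Flat R₀ S₂ := h₂
  have : Nontrivial (S₁ ⊗[R₀] S₂) :=
    Algebra.TensorProduct.nontrivial_of_algebraMap_injective_of_flat_right R₀ S₁ S₂ h₁
  let ρ : S₁ ⊗[k] S₂ →ₐ[k] S₁ ⊗[R₀] S₂ := Algebra.TensorProduct.mapOfCompatibleSMul R₀ k k S₁ S₂
  have hker : RingHom.ker ρ ≠ ⊤ := RingHom.ker_ne_top _
  obtain ⟨m, hm, hle⟩ := Ideal.exists_le_maximal _ hker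
  have : Algebra.FiniteType k (S₁ ⊗[k] S₂) :=
    Algebra.FiniteType.trans (inferInstance : Algebra.FiniteType k S₁)
      (inferInstance : Algebra.FiniteType S₁ (S₁ ⊗[k] S₂))
  obtain ⟨w, hw⟩ := exists_algHom_ker_eq_of_finiteType (k := k) m
  refine ⟨w.comp Algebra.TensorProduct.includeLeft, w.comp Algebra.TensorProduct.includeRight, ?_⟩
  ext r
  have hmem : ((f₁ r) ⊗ₜ[k] (1 : S₂) - (1 : S₁) ⊗ₜ[k] (f₂ r)) ∈ RingHom.ker ρ := by
    rw [RingHom.mem_ker, map_sub, Algebra.TensorProduct.mapOfCompatibleSMul_tmul,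
      Algebra.TensorProduct.mapOfCompatibleSMul_tmul, sub_eq_zero]
    have e1 : f₁ r = r • (1 : S₁) := by rw [Algebra.smul_def, mul_one]; rfl
    have e2 : f₂ r = r • (1 : S₂) := by rw [Algebra.smul_def, mul_one]; rfl
    rw [e1, e2, TensorProduct.smul_tmul]
  have h3 := hle hmem
  rw [← hw, RingHom.mem_ker, map_sub, sub_eq_zero] at h3
  exact h3

end PointPair

section Reduced

variable {k : Type u} [Field k] [IsAlgClosed k] {B : Type v} [CommRing B] [HopfAlgebra k B]
  {A : Type w} [CommRing A] [HopfAlgebra k A] [Algebra.FiniteType k A] [Algebra.FiniteType k B]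
  (φ : B →ₐc[k] A)

theorem flat_of_isReduced [IsReduced B] (hφ : Function.Injective φ) : (φ : B →+* A).Flat := by
  let _ : Algebra B A := (φ : B →+* A).toAlgebra
  have : IsScalarTower k B A :=
    IsScalarTower.of_algebraMap_eq (fun x => (AlgHomClass.commutes φ x).symm)
  have : Algebra.FiniteType B A := Algebra.FiniteType.of_restrictScalars_finiteType k B A
  have : IsNoetherianRing B := Algebra.FiniteType.isNoetherianRing k B
  have : Nontrivial B := nontrivial_of_counit k B
  obtain ⟨g, hg, hflat⟩ := exists_flat_away B A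
  have hflat' : ((algebraMap A (Localization.Away (φ g))).comp (φ : B →+* A)).Flat := by
    have h0 : (algebraMap B (Localization.Away (algebraMap B A g))).Flat :=
      RingHom.flat_algebraMap_iff.2 hflat
    rw [IsScalarTower.algebraMap_eq B A (Localization.Away (algebraMap B A g))] at h0
    exact h0
  have hφg : ¬ IsNilpotent (φ g) := by
    rintro ⟨n, hn⟩
    apply hg
    refine ⟨n, hφ ?_⟩
    rw [map_pow, hn, map_zero]
  have hspan : Ideal.span (Set.range fun x : WithConv (A →ₐ[k] k) => transl x (φ g)) = ⊤ := by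
    by_contra hne
    obtain ⟨m, hm, hle⟩ := Ideal.exists_le_maximal _ hne
    obtain ⟨y, hy⟩ := exists_algHom_ker_eq_of_finiteType (k := k) m
    obtain ⟨z, hz⟩ := exists_point_ne_zero (k := k) (φ g) hφg
    let x : WithConv (A →ₐ[k] k) := toConv z * (toConv y)⁻¹
    have hxy : x * toConv y = toConv z := inv_mul_cancel_right _ _
    have hmem : transl x (φ g) ∈ m := hle (Ideal.subset_span ⟨x, rfl⟩)
    rw [← hy, RingHom.mem_ker] at hmem
    have h1 := congrArg (fun f => f (φ g)) (comp_transl x (toConv y))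
    simp only [AlgHom.comp_apply] at h1
    rw [hxy] at h1
    exact hz (h1.symm.trans hmem)
  show Module.Flat B A
  refine Module.flat_of_isLocalized_span A A _ hspan (fun r => Localization.Away r.1)
    (fun r => Algebra.linearMap A (Localization.Away r.1)) ?_
  rintro ⟨_, x, rfl⟩
  have h2 := flat_away_of_equiv (φ : B →+* A) (translEquiv x).toRingEquiv
      (translEquiv (preComp φ x)).toRingEquiv (fun b => transl_bialgHom_apply φ x b) (φ g) hflat'
  have h3 : (algebraMap B (Localization.Away (transl x (φ g)))).Flat := by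
    rw [IsScalarTower.algebraMap_eq B A (Localization.Away (transl x (φ g)))]
    exact h2
  exact RingHom.flat_algebraMap_iff.1 h3

theorem faithfullyFlat_of_flat (hφ : Function.Injective φ) (hflat : (φ : B →+* A).Flat) :
    (φ : B →+* A).FaithfullyFlat := by
  let _ : Algebra B A := (φ : B →+* A).toAlgebra
  have hfl : Module.Flat B A := hflat
  have : Nontrivial A := nontrivial_of_counit k A
  show Module.FaithfullyFlat B A
  refine { submodule_ne_top := fun m hm => ?_ }
  obtain ⟨h, hh⟩ := exists_algHom_ker_eq_of_finiteType (k := k) m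
  let τ : B ≃ₐ[k] B := translEquiv (toConv h)
  let f₁ : B →ₐ[k] A := (φ : B →ₐ[k] A)
  let f₂ : B →ₐ[k] A := (φ : B →ₐ[k] A).comp (τ : B →ₐ[k] B)
  have h₂ : (f₂ : B →+* A).Flat := by
    have : (f₂ : B →+* A) = (φ : B →+* A).comp (τ : B →+* B) := rfl
    rw [this]
    exact (RingHom.Flat.of_bijective τ.bijective).comp hflat
  obtain ⟨u₁, u₂, hu⟩ := exists_point_pair f₁ f₂ hφ h₂
  have e1 : toConv (u₁.comp (φ : B →ₐ[k] A)) = toConv h * toConv (u₂.comp (φ : B →ₐ[k] A)) := by
    have h3 := comp_transl (toConv h) (toConv (u₂.comp (φ : B →ₐ[k] A)))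
    apply WithConv.ofConv_injective
    rw [← h3]
    exact hu
  have e2 : toConv h = preComp φ (toConv u₁ * (toConv u₂)⁻¹) := by
    rw [map_mul, map_inv]
    have : preComp φ (toConv u₁) = toConv (u₁.comp (φ : B →ₐ[k] A)) := rfl
    rw [this, e1]
    have : preComp φ (toConv u₂) = toConv (u₂.comp (φ : B →ₐ[k] A)) := rfl
    rw [this, mul_inv_cancel_right]
  let v : A →ₐ[k] k := (toConv u₁ * (toConv u₂)⁻¹).ofConv
  have hv : ∀ b : B, v (φ b) = h b := by
    intro b
    have := congrArg (fun f => f.ofConv b) e2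
    exact this.symm
  intro htop
  have h1 : ∀ a ∈ m • (⊤ : Submodule B A), v a = 0 := by
    intro a ha
    induction ha using Submodule.smul_induction_on' with
    | smul r hr n hn =>
      have : r • n = φ r * n := by rw [Algebra.smul_def]; rfl
      rw [this, map_mul, hv]
      rw [← hh, RingHom.mem_ker] at hr
      rw [hr, zero_mul]
    | add x hx y hy hx' hy' => rw [map_add, hx', hy', add_zero]
  have h2 := h1 1 (by rw [htop]; trivial)
  rw [map_one] at h2
  exact one_ne_zero h2

theorem faithfullyFlat_of_isReduced [IsReduced B] (hφ : Function.Injective φ) :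
    (φ : B →+* A).FaithfullyFlat :=
  faithfullyFlat_of_flat φ hφ (flat_of_isReduced φ hφ)


end Reduced

end Groth.Agent.Lib.Helper23.HopfFlat
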