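import Mathlib
import Groth.Agent.Lib.Helper23.HopfFlatAux
import Groth.Agent.Lib.Helper23.HopfFlatGalois

/-!
# Freeness over an infinitesimal Hopf subalgebra (helper23)

If `φ : c → H` is an injective map of commutative Hopf algebras over a field and the augmentation
ideal of `c` is nilpotent, then `H` is free (in particular flat) over `c`.
-/

set_option autoImplicit false
set_option linter.unusedSectionVars false

namespace Groth.Agent.Lib.Helper23.HopfFlat

open TensorProduct WithConv Groth.Agent.Lib.Helper16.FinHopf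

universe u v w

section Shear

variable (k : Type u) [CommRing k] (C : Type v) [CommRing C] [HopfAlgebra k C]

/-- `x ↦ x ⊗ 1` as a point of `C ⊗ C`. -/
noncomputable def pL : WithConv (C →ₐ[k] C ⊗[k] C) := toConv Algebra.TensorProduct.includeLeft
/-- `x ↦ 1 ⊗ x` as a point of `C ⊗ C`. -/
noncomputable def pR : WithConv (C →ₐ[k] C ⊗[k] C) := toConv Algebra.TensorProduct.includeRight
/-- The comultiplication as a point of `C ⊗ C`. -/
noncomputable def pD : WithConv (C →ₐ[k] C ⊗[k] C) := toConv (Bialgebra.comulAlgHom k C)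

theorem pD_eq : pD k C = pL k C * pR k C := by
  apply WithConv.ofConv_injective
  apply AlgHom.ext
  intro x
  rw [AlgHom.convMul_apply]
  simp [pL, pR, pD]

/-- `x ⊗ y ↦ (x ⊗ 1) Δ(y)`. -/
noncomputable def shF : C ⊗[k] C →ₐ[C] C ⊗[k] C :=
  Algebra.TensorProduct.lift (Algebra.ofId C _) (Bialgebra.comulAlgHom k C)
    (fun _ _ => Commute.all _ _)

/-- `x ⊗ y ↦ (x ⊗ 1) (S y₁ ⊗ y₂)`. -/
noncomputable def shG : C ⊗[k] C →ₐ[C] C ⊗[k] C :=
  Algebra.TensorProduct.lift (Algebra.ofId C _) (cinv (pL k C) * pR k C).ofConv
    (fun _ _ => Commute.all _ _)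

theorem shF_tmul (x y : C) : shF k C (x ⊗ₜ[k] y) = (x ⊗ₜ[k] (1 : C)) * Coalgebra.comul (R := k) y := by
  simp [shF, Algebra.ofId_apply, Algebra.TensorProduct.algebraMap_apply]

theorem shG_tmul (x y : C) :
    shG k C (x ⊗ₜ[k] y) = (x ⊗ₜ[k] (1 : C)) * (cinv (pL k C) * pR k C).ofConv y := by
  simp [shG, Algebra.ofId_apply, Algebra.TensorProduct.algebraMap_apply]

theorem shF_shG (t : C ⊗[k] C) : shF k C (shG k C t) = t := by
  have h1 : postComp ((shF k C).restrictScalars k) (pL k C) = pL k C := by
    apply WithConv.ofConv_injective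
    apply AlgHom.ext
    intro b
    show shF k C (b ⊗ₜ[k] (1 : C)) = b ⊗ₜ[k] (1 : C)
    rw [shF_tmul]
    simp
  have h2 : postComp ((shF k C).restrictScalars k) (pR k C) = pL k C * pR k C := by
    rw [← pD_eq]
    apply WithConv.ofConv_injective
    apply AlgHom.ext
    intro b
    show shF k C ((1 : C) ⊗ₜ[k] b) = Coalgebra.comul (R := k) b
    rw [shF_tmul, ← Algebra.TensorProduct.one_def, one_mul]
  have h3 : postComp ((shF k C).restrictScalars k) (cinv (pL k C) * pR k C) = pR k C := by
    rw [map_mul, postComp_cinv, h1, h2, cinv_mul_cancel_left]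
  induction t using TensorProduct.induction_on with
  | zero => simp
  | add x y hx hy => rw [map_add, map_add, hx, hy]
  | tmul x y =>
    rw [shG_tmul, map_mul]
    have e1 : shF k C (x ⊗ₜ[k] (1 : C)) = x ⊗ₜ[k] (1 : C) := by rw [shF_tmul]; simp
    have e2 : shF k C ((cinv (pL k C) * pR k C).ofConv y) = (1 : C) ⊗ₜ[k] y := by
      have := congrArg (fun f => f.ofConv y) h3
      exact this
    rw [e1, e2, Algebra.TensorProduct.tmul_mul_tmul, mul_one, one_mul]

theorem shG_shF (t : C ⊗[k] C) : shG k C (shF k C t) = t := by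
  have h1 : postComp ((shG k C).restrictScalars k) (pL k C) = pL k C := by
    apply WithConv.ofConv_injective
    apply AlgHom.ext
    intro b
    show shG k C (b ⊗ₜ[k] (1 : C)) = b ⊗ₜ[k] (1 : C)
    rw [shG_tmul, map_one, mul_one]
  have h2 : postComp ((shG k C).restrictScalars k) (pR k C) = cinv (pL k C) * pR k C := by
    apply WithConv.ofConv_injective
    apply AlgHom.ext
    intro b
    show shG k C ((1 : C) ⊗ₜ[k] b) = (cinv (pL k C) * pR k C).ofConv b
    rw [shG_tmul, ← Algebra.TensorProduct.one_def, one_mul]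
  have h3 : postComp ((shG k C).restrictScalars k) (pD k C) = pR k C := by
    rw [pD_eq, map_mul, h1, h2, mul_cinv_cancel_left]
  induction t using TensorProduct.induction_on with
  | zero => simp
  | add x y hx hy => rw [map_add, map_add, hx, hy]
  | tmul x y =>
    rw [shF_tmul, map_mul]
    have e1 : shG k C (x ⊗ₜ[k] (1 : C)) = x ⊗ₜ[k] (1 : C) := by rw [shG_tmul, map_one, mul_one]
    have e2 : shG k C (Coalgebra.comul (R := k) y) = (1 : C) ⊗ₜ[k] y := by
      have := congrArg (fun f => f.ofConv y) h3
      exact this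
    rw [e1, e2, Algebra.TensorProduct.tmul_mul_tmul, mul_one, one_mul]

theorem shF_bijective : Function.Bijective (shF k C) :=
  ⟨fun a b h => by rw [← shG_shF k C a, ← shG_shF k C b, h],
    fun t => ⟨shG k C t, shF_shG k C t⟩⟩

end Shear

theorem smul_eq_tmul_one_mul {k : Type u} [CommRing k] {A : Type v} [CommRing A] [Algebra k A]
    {B : Type w} [CommRing B] [Algebra k B] (a : A) (t : A ⊗[k] B) :
    a • t = (a ⊗ₜ[k] (1 : B)) * t := by
  induction t using TensorProduct.induction_on with
  | zero => simp
  | add x y hx hy => rw [smul_add, mul_add, hx, hy]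
  | tmul x y => rw [TensorProduct.smul_tmul', Algebra.TensorProduct.tmul_mul_tmul, smul_eq_mul, one_mul]

section Nil

variable {k : Type u} [Field k] {c : Type v} [CommRing c] [HopfAlgebra k c]
  {H : Type w} [CommRing H] [HopfAlgebra k H] (φ : c →ₐc[k] H)
  [Algebra c H] [IsScalarTower k c H] (hφ : ∀ r, algebraMap c H r = φ r)

/-- Reduction modulo `augSpan φ` on `H ⊗ C`. -/
noncomputable def redN : H ⊗[k] (H ⧸ augSpan φ) →ₐ[k] (H ⧸ augSpan φ) ⊗[k] (H ⧸ augSpan φ) :=
  Algebra.TensorProduct.map (Ideal.Quotient.mkₐ k (augSpan φ)) (AlgHom.id k (H ⧸ augSpan φ))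

theorem redN_smul (h : H) (t : H ⊗[k] (H ⧸ augSpan φ)) :
    redN φ (h • t) = (Ideal.Quotient.mk (augSpan φ) h) • redN φ t := by
  induction t using TensorProduct.induction_on with
  | zero => simp
  | add x y hx hy => rw [smul_add, map_add, map_add, smul_add, hx, hy]
  | tmul x y =>
    rw [TensorProduct.smul_tmul']
    simp only [redN, Algebra.TensorProduct.map_tmul, smul_eq_mul, map_mul, AlgHom.coe_id, id_eq,
      Ideal.Quotient.mkₐ_eq_mk]
    rw [TensorProduct.smul_tmul', smul_eq_mul]

theorem redN_thetaK (a : H) :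
    redN φ (thetaK φ H a) = Coalgebra.comul (R := k) (Ideal.Quotient.mk (augSpan φ) a) := by
  have h1 : postComp (redN φ) (ptΛ φ H) =
      preComp (Bialgebra.Quotient.mkBialgHom (R := k) (augSpan φ)) (pL k (H ⧸ augSpan φ)) := by
    apply WithConv.ofConv_injective
    apply AlgHom.ext
    intro x
    rfl
  have h2 : postComp (redN φ) (ptQ φ H) =
      preComp (Bialgebra.Quotient.mkBialgHom (R := k) (augSpan φ)) (pR k (H ⧸ augSpan φ)) := by
    apply WithConv.ofConv_injective
    apply AlgHom.ext
    intro x
    rfl
  have h3 : postComp (redN φ) (ptΛ φ H * ptQ φ H) =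
      preComp (Bialgebra.Quotient.mkBialgHom (R := k) (augSpan φ)) (pD k (H ⧸ augSpan φ)) := by
    rw [map_mul, h1, h2, ← map_mul, pD_eq]
  have := congrArg (fun f => f.ofConv a) h3
  exact this

section Comb

variable {ι : Type*} (b : Module.Basis ι k (H ⧸ augSpan φ)) (e : ι → H)
  (he : ∀ i, Ideal.Quotient.mk (augSpan φ) (e i) = b i)

/-- The comparison map `H^(ι) → H ⊗ C`, `δ_i ↦ θ(e_i)`. -/
noncomputable def thetaComb : (ι →₀ H) →ₗ[H] H ⊗[k] (H ⧸ augSpan φ) :=
  Finsupp.linearCombination H (fun i => thetaK φ H (e i))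

include he in
theorem redN_thetaComb (x : ι →₀ H) :
    redN φ (thetaComb φ e x) = shF k (H ⧸ augSpan φ)
      (Finsupp.linearCombination (H ⧸ augSpan φ) (Algebra.TensorProduct.basis (H ⧸ augSpan φ) b)
        (Finsupp.mapRange (Ideal.Quotient.mk (augSpan φ)) (map_zero _) x)) := by
  induction x using Finsupp.induction_linear with
  | zero => simp
  | add x y hx hy => rw [map_add, map_add, hx, hy, Finsupp.mapRange_add (by intros; simp), map_add, map_add]
  | single i h =>
    rw [thetaComb, Finsupp.linearCombination_single, redN_smul, redN_thetaK, Finsupp.mapRange_single,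
      Finsupp.linearCombination_single, Algebra.TensorProduct.basis_apply, TensorProduct.smul_tmul',
      smul_eq_mul, mul_one, shF_tmul, he, smul_eq_tmul_one_mul]

include b in
theorem mem_smul_top_of_redN_eq_zero (y : H ⊗[k] (H ⧸ augSpan φ)) (hy : redN φ y = 0) :
    y ∈ (augSpan φ) • (⊤ : Submodule H (H ⊗[k] (H ⧸ augSpan φ))) := by
  classical
  set bH := Algebra.TensorProduct.basis H b with hbH
  set bC := Algebra.TensorProduct.basis (H ⧸ augSpan φ) b with hbC
  have h1 : ∀ t : H ⊗[k] (H ⧸ augSpan φ), redN φ t =
      Finsupp.linearCombination (H ⧸ augSpan φ) bC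
        (Finsupp.mapRange (Ideal.Quotient.mk (augSpan φ)) (map_zero _) (bH.repr t)) := by
    intro t
    conv_lhs => rw [← bH.linearCombination_repr t]
    generalize bH.repr t = x
    induction x using Finsupp.induction_linear with
    | zero => simp
    | add x y hx hy => rw [map_add, map_add, hx, hy, Finsupp.mapRange_add (by intros; simp), map_add]
    | single i h =>
      rw [Finsupp.linearCombination_single, redN_smul, Finsupp.mapRange_single,
        Finsupp.linearCombination_single, hbH, hbC, Algebra.TensorProduct.basis_apply,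
        Algebra.TensorProduct.basis_apply]
      congr 1
  have h2 : Finsupp.mapRange (Ideal.Quotient.mk (augSpan φ)) (map_zero _) (bH.repr y) = 0 := by
    have := h1 y
    rw [hy] at this
    have h3 := congrArg bC.repr this
    rw [map_zero, Module.Basis.repr_linearCombination] at h3
    exact h3.symm
  rw [← bH.linearCombination_repr y, Finsupp.linearCombination_apply]
  refine Submodule.sum_mem _ fun i _ => ?_
  refine Submodule.smul_mem_smul ?_ Submodule.mem_top
  have := DFunLike.congr_fun h2 i
  rw [Finsupp.mapRange_apply, Finsupp.zero_apply, Ideal.Quotient.eq_zero_iff_mem] at this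
  exact this

theorem redN_eq_zero_of_mem_smul_top (y : H ⊗[k] (H ⧸ augSpan φ))
    (hy : y ∈ (augSpan φ) • (⊤ : Submodule H (H ⊗[k] (H ⧸ augSpan φ)))) : redN φ y = 0 := by
  induction hy using Submodule.smul_induction_on' with
  | smul r hr n hn =>
    rw [redN_smul, Ideal.Quotient.eq_zero_iff_mem.2 hr, zero_smul]
  | add x hx y hy hx' hy' => rw [map_add, hx', hy', add_zero]

include he in
theorem thetaComb_bijective (n : ℕ) (hn : (augSpan φ) ^ n = ⊥) :
    Function.Bijective (thetaComb φ e) := by
  classical
  set bC := Algebra.TensorProduct.basis (H ⧸ augSpan φ) b with hbC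
  apply Groth.Agent.Lib.Helper23.HopfFlatAux.bijective_of_bijective_mod_nilpotent (augSpan φ) n hn
  · intro y
    obtain ⟨w, hw⟩ := (shF_bijective k (H ⧸ augSpan φ)).2 (redN φ y)
    obtain ⟨x, hx⟩ := Finsupp.mapRange_surjective (Ideal.Quotient.mk (augSpan φ)) (map_zero _)
      Ideal.Quotient.mk_surjective (bC.repr w)
    refine ⟨x, mem_smul_top_of_redN_eq_zero φ b _ ?_⟩
    rw [map_sub, redN_thetaComb φ b e he, hx, Module.Basis.linearCombination_repr, hw, sub_self]
  · intro x hx
    have h1 := redN_eq_zero_of_mem_smul_top φ _ hx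
    rw [redN_thetaComb φ b e he] at h1
    have h2 := (shF_bijective k (H ⧸ augSpan φ)).1 (h1.trans (map_zero _).symm)
    have h3 := congrArg bC.repr h2
    rw [map_zero, Module.Basis.repr_linearCombination] at h3
    rw [← Finsupp.sum_single x, Finsupp.sum]
    refine Submodule.sum_mem _ fun i _ => ?_
    have h4 := DFunLike.congr_fun h3 i
    rw [Finsupp.mapRange_apply, Finsupp.zero_apply, Ideal.Quotient.eq_zero_iff_mem] at h4
    have : Finsupp.single i (x i) = (x i) • Finsupp.single i (1 : H) := by
      rw [Finsupp.smul_single, smul_eq_mul, mul_one]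
    rw [this]
    exact Submodule.smul_mem_smul h4 Submodule.mem_top

end Comb

include hφ in
theorem thetaComb_mapRange {ι : Type*} (e : ι → H) (l : ι →₀ c) :
    thetaComb φ e (Finsupp.mapRange (algebraMap c H) (map_zero _) l) =
      thetaK φ H (Finsupp.linearCombination c e l) := by
  induction l using Finsupp.induction_linear with
  | zero => simp
  | add x y hx hy => rw [Finsupp.mapRange_add (by intros; simp), map_add, map_add, map_add, hx, hy]
  | single i r =>
    rw [Finsupp.mapRange_single, thetaComb, Finsupp.linearCombination_single,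
      Finsupp.linearCombination_single, Algebra.smul_def, map_mul, thetaK_algebraMap φ H hφ,
      smul_eq_tmul_one_mul, Algebra.TensorProduct.algebraMap_apply]

include hφ in
/-- If the augmentation ideal of `c` is nilpotent and `φ : c → H` is injective, then `H` is a free
`c`-module. -/
theorem free_of_nilpotent (hinj : Function.Injective φ) (n : ℕ)
    (hn : (RingHom.ker (Bialgebra.counitAlgHom k c)) ^ n = ⊥) : Module.Free c H := by
  classical
  have hmap : augSpan φ = Ideal.map (algebraMap c H) (RingHom.ker (Bialgebra.counitAlgHom k c)) := by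
    have : algebraMap c H = (φ : c →+* H) := RingHom.ext hφ
    rw [this]; rfl
  have hJn : (augSpan φ) ^ n = ⊥ := by
    rw [hmap, ← Ideal.map_pow, hn, Ideal.map_bot]
  let b := Module.Free.chooseBasis k (H ⧸ augSpan φ)
  let e : Module.Free.ChooseBasisIndex k (H ⧸ augSpan φ) → H :=
    fun i => (Ideal.Quotient.mk_surjective (b i)).choose
  have he : ∀ i, Ideal.Quotient.mk (augSpan φ) (e i) = b i :=
    fun i => (Ideal.Quotient.mk_surjective (b i)).choose_spec
  let ψ : (Module.Free.ChooseBasisIndex k (H ⧸ augSpan φ) →₀ c) →ₗ[c] H :=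
    Finsupp.linearCombination c e
  have hbij := thetaComb_bijective φ b e he n hJn
  have hψinj : Function.Injective ψ := by
    rw [← LinearMap.ker_eq_bot, eq_bot_iff]
    intro l hl
    rw [LinearMap.mem_ker] at hl
    have h1 := thetaComb_mapRange φ hφ e l
    rw [show Finsupp.linearCombination c e l = ψ l from rfl, hl, map_zero] at h1
    have h2 := hbij.1 (h1.trans (map_zero _).symm)
    rw [Submodule.mem_bot]
    ext i
    have h3 := DFunLike.congr_fun h2 i
    rw [Finsupp.mapRange_apply, Finsupp.zero_apply, hφ] at h3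
    rw [Finsupp.zero_apply]
    exact hinj (h3.trans (map_zero φ).symm)
  have hψsurj : Function.Surjective ψ := by
    rw [← LinearMap.range_eq_top]
    apply Groth.Agent.Lib.Helper23.HopfFlatAux.eq_top_of_sup_smul_eq_top
      (RingHom.ker (Bialgebra.counitAlgHom k c)) n hn
    rw [eq_top_iff]
    rintro h -
    -- approximate `h` by a `k`-combination of the `e i`
    let a := b.repr (Ideal.Quotient.mk (augSpan φ) h)
    let h' : H := ψ (Finsupp.mapRange (algebraMap k c) (map_zero _) a)
    have hh' : Ideal.Quotient.mk (augSpan φ) h' = Ideal.Quotient.mk (augSpan φ) h := by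
      have e1 : ∀ a : Module.Free.ChooseBasisIndex k (H ⧸ augSpan φ) →₀ k,
          Ideal.Quotient.mk (augSpan φ) (ψ (Finsupp.mapRange (algebraMap k c) (map_zero _) a)) =
            Finsupp.linearCombination k b a := by
        intro a
        induction a using Finsupp.induction_linear with
        | zero => simp
        | add x y hx hy =>
          rw [Finsupp.mapRange_add (by intros; simp), map_add, map_add, map_add, hx, hy]
        | single i r =>
          rw [Finsupp.mapRange_single, Finsupp.linearCombination_single,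
            Finsupp.linearCombination_single, algebraMap_smul, ← he i]
          rw [Algebra.smul_def, map_mul, Algebra.smul_def]
          rfl
      rw [e1, Module.Basis.linearCombination_repr]
    have hmem : h - h' ∈ augSpan φ := by
      rw [← Ideal.Quotient.eq_zero_iff_mem, map_sub, hh', sub_self]
    have hmem' : h - h' ∈ (RingHom.ker (Bialgebra.counitAlgHom k c)) • (⊤ : Submodule c H) := by
      rw [Ideal.smul_top_eq_map, Submodule.restrictScalars_mem, ← hmap]
      exact hmem
    have : h = h' + (h - h') := by abel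
    rw [this]
    exact Submodule.add_mem_sup (LinearMap.mem_range_self ψ _) hmem'
  exact Module.Free.of_equiv (LinearEquiv.ofBijective ψ ⟨hψinj, hψsurj⟩)

end Nil

end Groth.Agent.Lib.Helper23.HopfFlat
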