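import Mathlib
import Groth.Agent.Lib.Helper23.HopfFlatAux
import Groth.Agent.Lib.Helper23.HopfFlatGalois
import Groth.Agent.Lib.Helper23.HopfFlatNil
import Groth.Agent.Lib.Helper16.FinHopfFrobImage

/-!
# Flatness in a tower of Hopf algebras (helper23)

`R → B → A` commutative Hopf algebras over a field.  If `A` is faithfully flat over `R`, `B → A` is
injective and the augmentation ideal of `B ⧸ R⁺B` is nilpotent, then `A` is flat over `B`.
-/

set_option autoImplicit false
set_option linter.unusedSectionVars false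

namespace Groth.Agent.Lib.Helper23.HopfFlat

open TensorProduct WithConv Groth.Agent.Lib.Helper16.FinHopf

universe u v w x

section Induced

variable {k : Type u} [CommRing k] {R : Type v} [CommRing R] [HopfAlgebra k R]
  {B : Type w} [CommRing B] [HopfAlgebra k B] {A : Type x} [CommRing A] [HopfAlgebra k A]
  (ψ : R →ₐc[k] B) (φ : B →ₐc[k] A)

theorem augSpan_le_comap : augSpan ψ ≤ (augSpan (φ.comp ψ)).comap (φ : B →+* A) := by
  refine Ideal.map_le_iff_le_comap.2 ?_
  intro r hr
  rw [Ideal.mem_comap, Ideal.mem_comap]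
  exact Ideal.mem_map_of_mem ((φ.comp ψ : R →ₐc[k] A) : R →+* A) hr

/-- The induced algebra map `B ⧸ R⁺B → A ⧸ R⁺A`. -/
noncomputable def quotAlgHom : (B ⧸ augSpan ψ) →ₐ[k] (A ⧸ augSpan (φ.comp ψ)) :=
  Ideal.Quotient.liftₐ (augSpan ψ) ((Ideal.Quotient.mkₐ k (augSpan (φ.comp ψ))).comp (φ : B →ₐ[k] A))
    (fun b hb => by
      have := augSpan_le_comap ψ φ hb
      rw [Ideal.mem_comap] at this
      exact Ideal.Quotient.eq_zero_iff_mem.2 this)

@[simp] theorem quotAlgHom_mk (b : B) :
    quotAlgHom ψ φ (Ideal.Quotient.mk (augSpan ψ) b) = Ideal.Quotient.mk (augSpan (φ.comp ψ)) (φ b) :=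
  rfl

/-- The induced bialgebra map `B ⧸ R⁺B → A ⧸ R⁺A`. -/
noncomputable def quotBialgHom : (B ⧸ augSpan ψ) →ₐc[k] (A ⧸ augSpan (φ.comp ψ)) :=
  BialgHom.ofAlgHom (quotAlgHom ψ φ)
    (by
      apply Ideal.Quotient.algHom_ext
      apply AlgHom.ext
      intro b
      show Coalgebra.counit (R := k) (φ b) = Coalgebra.counit (R := k) b
      exact CoalgHomClass.counit_comp_apply φ b)
    (by
      apply Ideal.Quotient.algHom_ext
      apply AlgHom.ext
      intro b
      show TensorProduct.map (quotAlgHom ψ φ).toLinearMap (quotAlgHom ψ φ).toLinearMap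
          (TensorProduct.map (Ideal.Quotient.mkₐ k (augSpan ψ)).toLinearMap
            (Ideal.Quotient.mkₐ k (augSpan ψ)).toLinearMap (Coalgebra.comul (R := k) b)) =
        TensorProduct.map (Ideal.Quotient.mkₐ k (augSpan (φ.comp ψ))).toLinearMap
            (Ideal.Quotient.mkₐ k (augSpan (φ.comp ψ))).toLinearMap (Coalgebra.comul (R := k) (φ b))
      rw [← CoalgHomClass.map_comp_comul_apply φ b]
      generalize Coalgebra.comul (R := k) b = t
      induction t using TensorProduct.induction_on with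
      | zero => simp
      | add x y hx hy => simp only [map_add, hx, hy]
      | tmul x y => rfl)

@[simp] theorem quotBialgHom_mk (b : B) :
    quotBialgHom ψ φ (Ideal.Quotient.mk (augSpan ψ) b) =
      Ideal.Quotient.mk (augSpan (φ.comp ψ)) (φ b) :=
  rfl

end Induced

section MapTheta

variable {k : Type u} [CommRing k] {R : Type v} [CommRing R] [HopfAlgebra k R]
  {B : Type w} [CommRing B] [HopfAlgebra k B] {A : Type x} [CommRing A] [HopfAlgebra k A]
  (ψ : R →ₐc[k] B) (φ : B →ₐc[k] A)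
  [Algebra R B] [Algebra B A] [Algebra R A] [IsScalarTower k R B] [IsScalarTower R B A]
  [IsScalarTower k B A] [IsScalarTower k R A]
  (hφ : ∀ b, algebraMap B A b = φ b)

include hφ in
theorem map_thetaK (b : B) :
    Algebra.TensorProduct.map (AlgHom.id k A) (quotAlgHom ψ φ) (thetaK ψ A b) =
      thetaK (φ.comp ψ) A (φ b) := by
  have h1 : postComp (Algebra.TensorProduct.map (AlgHom.id k A) (quotAlgHom ψ φ)) (ptΛ ψ A) =
      preComp φ (ptΛ (φ.comp ψ) A) := by
    apply WithConv.ofConv_injective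
    apply AlgHom.ext
    intro b
    show (algebraMap B A b) ⊗ₜ[k] (quotAlgHom ψ φ 1) = (φ b) ⊗ₜ[k] 1
    rw [hφ, map_one]
  have h2 : postComp (Algebra.TensorProduct.map (AlgHom.id k A) (quotAlgHom ψ φ)) (ptQ ψ A) =
      preComp φ (ptQ (φ.comp ψ) A) := by
    apply WithConv.ofConv_injective
    apply AlgHom.ext
    intro b
    rfl
  have h3 : postComp (Algebra.TensorProduct.map (AlgHom.id k A) (quotAlgHom ψ φ))
      (ptΛ ψ A * ptQ ψ A) = preComp φ (ptΛ (φ.comp ψ) A * ptQ (φ.comp ψ) A) := by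
    rw [map_mul, map_mul, h1, h2]
  have := congrArg (fun f => f.ofConv b) h3
  exact this

end MapTheta

section Tower

variable {k : Type u} [Field k] {R : Type v} [CommRing R] [HopfAlgebra k R]
  {B : Type w} [CommRing B] [HopfAlgebra k B] {A : Type x} [CommRing A] [HopfAlgebra k A]
  (ψ : R →ₐc[k] B) (φ : B →ₐc[k] A)

theorem flat_of_tower (hφ : Function.Injective φ)
    (hRA : ((φ.comp ψ : R →ₐc[k] A) : R →+* A).FaithfullyFlat) (n : ℕ)
    (hn : (RingHom.ker (Bialgebra.counitAlgHom k (B ⧸ augSpan ψ))) ^ n = ⊥) :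
    (φ : B →+* A).Flat := by
  let _ : Algebra R B := (ψ : R →+* B).toAlgebra
  let _ : Algebra B A := (φ : B →+* A).toAlgebra
  let _ : Algebra R A := ((φ.comp ψ : R →ₐc[k] A) : R →+* A).toAlgebra
  have : IsScalarTower R B A := IsScalarTower.of_algebraMap_eq (fun _ => rfl)
  have : IsScalarTower k R B :=
    IsScalarTower.of_algebraMap_eq (fun x => (AlgHomClass.commutes ψ x).symm)
  have : IsScalarTower k B A :=
    IsScalarTower.of_algebraMap_eq (fun x => (AlgHomClass.commutes φ x).symm)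
  have : IsScalarTower k R A :=
    IsScalarTower.of_algebraMap_eq (fun x => (AlgHomClass.commutes (φ.comp ψ) x).symm)
  have hψ : ∀ r, algebraMap R B r = ψ r := fun _ => rfl
  have hφψ : ∀ r, algebraMap R A r = (φ.comp ψ) r := fun _ => rfl
  have hφa : ∀ b, algebraMap B A b = φ b := fun _ => rfl
  have hffRA : Module.FaithfullyFlat R A := hRA
  have : Nontrivial A := nontrivial_of_counit k A
  -- the Galois isomorphisms
  let G2 := galoisEquiv ψ A hψ
  let G1 := galoisEquiv (φ.comp ψ) A hφψ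
  let φbar := quotBialgHom ψ φ
  let L : A ⊗[k] (B ⧸ augSpan ψ) →ₐ[k] A ⊗[k] (A ⧸ augSpan (φ.comp ψ)) :=
    Algebra.TensorProduct.map (AlgHom.id k A) (quotAlgHom ψ φ)
  let m' : A ⊗[R] B →ₐ[A] A ⊗[R] A :=
    Algebra.TensorProduct.map (AlgHom.id A A) (IsScalarTower.toAlgHom R B A)
  have key : ∀ t : A ⊗[R] B, G1 (m' t) = L (G2 t) := by
    intro t
    induction t using TensorProduct.induction_on with
    | zero => simp
    | add x y hx hy => rw [map_add, map_add, map_add, map_add, hx, hy]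
    | tmul a b =>
      show galoisF (φ.comp ψ) A hφψ (a ⊗ₜ[R] (algebraMap B A b)) =
        L (galoisF ψ A hψ (a ⊗ₜ[R] b))
      rw [galoisF_tmul, galoisF_tmul, map_mul, map_thetaK ψ φ hφa, hφa]
      congr 1
      show a ⊗ₜ[k] (1 : A ⧸ augSpan (φ.comp ψ)) = a ⊗ₜ[k] (quotAlgHom ψ φ 1)
      rw [map_one]
  -- injectivity of the induced map
  have hm'inj : Function.Injective m' := by
    have := Module.Flat.lTensor_preserves_injective_linearMap (M := A)
      (IsScalarTower.toAlgHom R B A).toLinearMap hφ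
    exact this
  have hLinj : Function.Injective L := by
    intro x y hxy
    obtain ⟨x, rfl⟩ := G2.surjective x
    obtain ⟨y, rfl⟩ := G2.surjective y
    rw [← key, ← key] at hxy
    rw [hm'inj (G1.injective hxy)]
  have hbarinj : Function.Injective φbar := by
    have h1 : Function.Injective ((quotAlgHom ψ φ).toLinearMap.lTensor A) := hLinj
    exact (Module.FaithfullyFlat.lTensor_injective_iff_injective k A _).1 h1
  -- freeness of the quotient
  have hbarflat : ((quotAlgHom ψ φ) : (B ⧸ augSpan ψ) →+* (A ⧸ augSpan (φ.comp ψ))).Flat := by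
    let _ : Algebra (B ⧸ augSpan ψ) (A ⧸ augSpan (φ.comp ψ)) :=
      (φbar : (B ⧸ augSpan ψ) →+* (A ⧸ augSpan (φ.comp ψ))).toAlgebra
    have : IsScalarTower k (B ⧸ augSpan ψ) (A ⧸ augSpan (φ.comp ψ)) :=
      IsScalarTower.of_algebraMap_eq (fun x => (AlgHomClass.commutes φbar x).symm)
    have hfree : Module.Free (B ⧸ augSpan ψ) (A ⧸ augSpan (φ.comp ψ)) :=
      free_of_nilpotent φbar (fun _ => rfl) hbarinj n hn
    show Module.Flat (B ⧸ augSpan ψ) (A ⧸ augSpan (φ.comp ψ))
    infer_instance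
  have hLflat : (L : A ⊗[k] (B ⧸ augSpan ψ) →+* A ⊗[k] (A ⧸ augSpan (φ.comp ψ))).Flat :=
    RingHom.Flat.lTensor (R := k) (S := k) A (f := quotAlgHom ψ φ) hbarflat
  have hm'flat : (m' : A ⊗[R] B →+* A ⊗[R] A).Flat := by
    let G1r : A ⊗[R] A →+* A ⊗[k] (A ⧸ augSpan (φ.comp ψ)) := G1.toRingEquiv.toRingHom
    let G2r : A ⊗[R] B →+* A ⊗[k] (B ⧸ augSpan ψ) := G2.toRingEquiv.toRingHom
    have h1 : G1r.comp (m' : A ⊗[R] B →+* A ⊗[R] A) =
        (L : A ⊗[k] (B ⧸ augSpan ψ) →+* A ⊗[k] (A ⧸ augSpan (φ.comp ψ))).comp G2r := by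
      refine RingHom.ext fun t => ?_
      exact key t
    rw [← RingHom.Flat.comp_iff_of_bijective_left (g := G1r) G1.bijective, h1]
    exact (RingHom.Flat.of_bijective (f := G2r) G2.bijective).comp hLflat
  -- swap the factors
  let m'' : B ⊗[R] A →ₐ[R] A ⊗[R] A :=
    Algebra.TensorProduct.map (IsScalarTower.toAlgHom R B A) (AlgHom.id R A)
  have hm''flat : (m'' : B ⊗[R] A →+* A ⊗[R] A).Flat := by
    have h1 : (m'' : B ⊗[R] A →+* A ⊗[R] A) =
        ((Algebra.TensorProduct.comm R A A : A ⊗[R] A →+* A ⊗[R] A).comp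
          (m' : A ⊗[R] B →+* A ⊗[R] A)).comp
          (Algebra.TensorProduct.comm R B A : B ⊗[R] A →+* A ⊗[R] B) := by
      refine RingHom.ext fun t => ?_
      induction t using TensorProduct.induction_on with
      | zero => simp
      | add x y hx hy => rw [map_add, map_add, hx, hy]
      | tmul b a => rfl
    rw [h1]
    exact (RingHom.Flat.of_bijective (Algebra.TensorProduct.comm R B A).bijective).comp
      (hm'flat.comp (RingHom.Flat.of_bijective (Algebra.TensorProduct.comm R A A).bijective))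
  -- descent
  have hg : (algebraMap A (A ⊗[R] A)).FaithfullyFlat :=
    RingHom.faithfullyFlat_algebraMap_iff.2 inferInstance
  have hιB : (algebraMap B (B ⊗[R] A)).Flat := RingHom.flat_algebraMap_iff.2 inferInstance
  apply Groth.Agent.Lib.Helper23.HopfFlatAux.flat_of_comp_faithfullyFlat (φ : B →+* A)
    (algebraMap A (A ⊗[R] A)) hg
  have h2 : (algebraMap A (A ⊗[R] A)).comp (φ : B →+* A) =
      (m'' : B ⊗[R] A →+* A ⊗[R] A).comp (algebraMap B (B ⊗[R] A)) := by
    refine RingHom.ext fun b => ?_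
    rfl
  rw [h2]
  exact hιB.comp hm''flat

end Tower

end Groth.Agent.Lib.Helper23.HopfFlat
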