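import Mathlib
import Groth.Agent.Lib.Helper23.HopfFlatRed
import Groth.Agent.Lib.Helper23.HopfFlatFrob
import Groth.Agent.Lib.Helper23.HopfFlatTower

/-!
# Faithful flatness of finitely generated Hopf algebras over an algebraically closed field
(helper23)
-/

set_option autoImplicit false
set_option linter.unusedSectionVars false

namespace Groth.Agent.Lib.Helper23.HopfFlat

open TensorProduct WithConv Groth.Agent.Lib.Helper16.FinHopf

universe u v w

section

variable {k : Type u} [Field k] [IsAlgClosed k] {B : Type v} [CommRing B] [HopfAlgebra k B]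
  {A : Type w} [CommRing A] [HopfAlgebra k A] [Algebra.FiniteType k A] [Algebra.FiniteType k B]
  (φ : B →ₐc[k] A)

theorem faithfullyFlat_of_charP (p : ℕ) [Fact p.Prime] [CharP k p] (hφ : Function.Injective φ) :
    (φ : B →+* A).FaithfullyFlat := by
  have : IsNoetherianRing B := Algebra.FiniteType.isNoetherianRing k B
  obtain ⟨N, hN⟩ := IsNoetherianRing.isNilpotent_nilradical B
  have hN' : nilradical B ^ (p ^ N) = ⊥ := by
    have hle : N ≤ p ^ N := (Nat.lt_pow_self (Fact.out : p.Prime).one_lt).le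
    have h3 : nilradical B ^ (p ^ N) ≤ nilradical B ^ N := Ideal.pow_le_pow_right hle
    rw [hN] at h3
    exact le_bot_iff.1 h3
  let Rsub : Subalgebra k B := frobPow k p N B
  have hR : IsSubBialg Rsub := isSubBialg_frobPow
  have hS : ∀ b ∈ Rsub, HopfAlgebraStruct.antipode (R := k) b ∈ Rsub := antipode_mem_frobPow
  let _ : HopfAlgebra k Rsub := subHopfAlgebra hR hS
  let ψ : Rsub →ₐc[k] B := subBialgHom hR hS
  have hψinj : Function.Injective ψ := Subtype.val_injective
  have : IsReduced Rsub := isReduced_frobPow hN'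
  have : Algebra.FiniteType k Rsub := (Subalgebra.fg_iff_finiteType _).1 fg_frobPow
  have h1 : ((φ.comp ψ : Rsub →ₐc[k] A) : Rsub →+* A).FaithfullyFlat :=
    faithfullyFlat_of_isReduced (φ.comp ψ) (hφ.comp hψinj)
  -- nilpotency of the augmentation ideal of the quotient
  have hnil : ∀ x ∈ RingHom.ker (Bialgebra.counitAlgHom k (B ⧸ augSpan ψ)), IsNilpotent x := by
    intro x hx
    obtain ⟨b, rfl⟩ := Ideal.Quotient.mk_surjective x
    rw [RingHom.mem_ker] at hx
    have hb : Coalgebra.counit (R := k) b = 0 := hx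
    refine ⟨p ^ N, ?_⟩
    rw [← map_pow, Ideal.Quotient.eq_zero_iff_mem]
    have hmem : b ^ p ^ N ∈ Rsub := pow_mem_frobPow b
    have h2 : (⟨b ^ p ^ N, hmem⟩ : Rsub) ∈ RingHom.ker (Bialgebra.counitAlgHom k Rsub) := by
      rw [RingHom.mem_ker]
      show Coalgebra.counit (R := k) (b ^ p ^ N) = 0
      have : Coalgebra.counit (R := k) (b ^ p ^ N) = (Coalgebra.counit (R := k) b) ^ p ^ N :=
        map_pow (Bialgebra.counitAlgHom k B) b _
      rw [this, hb, zero_pow (pow_ne_zero _ (Fact.out : p.Prime).ne_zero)]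
    exact Ideal.mem_map_of_mem (ψ : Rsub →+* B) h2
  have hfg : (RingHom.ker (Bialgebra.counitAlgHom k (B ⧸ augSpan ψ))).FG :=
    (isNoetherianRing_iff_ideal_fg _).1 inferInstance _
  have hle : RingHom.ker (Bialgebra.counitAlgHom k (B ⧸ augSpan ψ)) ≤ nilradical _ :=
    fun x hx => (mem_nilradical).2 (hnil x hx)
  obtain ⟨n, hn⟩ := (Ideal.FG.isNilpotent_iff_le_nilradical hfg).2 hle
  have h2 : (φ : B →+* A).Flat := flat_of_tower ψ φ hφ h1 n hn
  exact faithfullyFlat_of_flat φ hφ h2

theorem faithfullyFlat_of_isAlgClosed (hφ : Function.Injective φ) :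
    (φ : B →+* A).FaithfullyFlat := by
  obtain ⟨p, hp⟩ := CharP.exists k
  rcases CharP.char_is_prime_or_zero k p with hpp | hp0
  · have : Fact p.Prime := ⟨hpp⟩
    exact faithfullyFlat_of_charP φ p hφ
  · subst hp0
    have : CharZero k := CharP.charP_to_charZero k
    have : IsReduced B := isReduced_of_charZero k B
    exact faithfullyFlat_of_isReduced φ hφ

end

end Groth.Agent.Lib.Helper23.HopfFlat
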