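import Mathlib
import Groth.Agent.Lib.Helper23.HopfFlatClosed

/-!
# Faithful flatness of finitely generated Hopf algebras over an arbitrary field (helper23)

* `faithfullyFlat_includeRight` : `A → K ⊗[k] A` is faithfully flat for a field extension `K/k`.
* `faithfullyFlat_of_injective` : an injective bialgebra map between finitely generated commutative
  Hopf algebras over a field is faithfully flat.
-/

set_option autoImplicit false
set_option linter.unusedSectionVars false

namespace Groth.Agent.Lib.Helper23.HopfFlat

open TensorProduct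

universe u v w

section

variable {k : Type u} [Field k]

/-- Composition of faithfully flat ring maps (universe polymorphic). -/
theorem faithfullyFlat_comp {R : Type u} {S : Type v} {T : Type w} [CommRing R] [CommRing S]
    [CommRing T] (f : R →+* S) (g : S →+* T) (hf : f.FaithfullyFlat) (hg : g.FaithfullyFlat) :
    (g.comp f).FaithfullyFlat := by
  algebraize [f, g, g.comp f]
  rw [← RingHom.algebraMap_toAlgebra (g.comp f), RingHom.faithfullyFlat_algebraMap_iff]
  exact .trans R S T

/-- For a faithfully flat `k`-algebra `K`, the map `A → K ⊗[k] A` is faithfully flat. -/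
theorem faithfullyFlat_includeRight (K : Type u) [CommRing K] [Algebra k K]
    [Module.FaithfullyFlat k K] (A : Type v) [CommRing A] [Algebra k A] :
    ((Algebra.TensorProduct.includeRight : A →ₐ[k] K ⊗[k] A) : A →+* K ⊗[k] A).FaithfullyFlat := by
  have h1 : (algebraMap A (A ⊗[k] K)).FaithfullyFlat :=
    RingHom.faithfullyFlat_algebraMap_iff.2 inferInstance
  have h2 : ((Algebra.TensorProduct.comm k A K : A ⊗[k] K ≃ₐ[k] K ⊗[k] A).toRingEquiv.toRingHom).FaithfullyFlat :=
    RingHom.FaithfullyFlat.of_bijective (Algebra.TensorProduct.comm k A K).bijective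
  have h3 := faithfullyFlat_comp _ _ h1 h2
  have h4 : ((Algebra.TensorProduct.includeRight : A →ₐ[k] K ⊗[k] A) : A →+* K ⊗[k] A) =
      ((Algebra.TensorProduct.comm k A K : A ⊗[k] K ≃ₐ[k] K ⊗[k] A).toRingEquiv.toRingHom).comp
        (algebraMap A (A ⊗[k] K)) := by
    refine RingHom.ext fun a => ?_
    rfl
  rw [h4]
  exact h3

variable {B : Type v} [CommRing B] [HopfAlgebra k B]
  {A : Type w} [CommRing A] [HopfAlgebra k A] [Algebra.FiniteType k A] [Algebra.FiniteType k B]

/-- An injective bialgebra map between finitely generated commutative Hopf algebras over a field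
is faithfully flat. -/
theorem faithfullyFlat_of_injective (φ : B →ₐc[k] A) (hφ : Function.Injective φ) :
    (φ : B →+* A).FaithfullyFlat := by
  let K := AlgebraicClosure k
  let φK : K ⊗[k] B →ₐc[K] K ⊗[k] A := Bialgebra.TensorProduct.map (BialgHom.id K K) φ
  have hφK : Function.Injective φK := by
    have h1 : Function.Injective (LinearMap.lTensor K (φ : B →ₐ[k] A).toLinearMap) :=
      Module.Flat.lTensor_preserves_injective_linearMap _ hφ
    have h2 : ∀ x, φK x = LinearMap.lTensor K (φ : B →ₐ[k] A).toLinearMap x := by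
      intro x
      induction x using TensorProduct.induction_on with
      | zero => simp
      | tmul a b => rfl
      | add x y hx hy => rw [map_add, map_add, hx, hy]
    intro x y hxy
    apply h1
    rw [← h2, ← h2, hxy]
  have hK : (φK : K ⊗[k] B →+* K ⊗[k] A).FaithfullyFlat := faithfullyFlat_of_isAlgClosed φK hφK
  have hiA := faithfullyFlat_includeRight (k := k) K A
  have hiB := faithfullyFlat_includeRight (k := k) K B
  set iA : A →+* K ⊗[k] A := ((Algebra.TensorProduct.includeRight : A →ₐ[k] K ⊗[k] A) : A →+* K ⊗[k] A)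
  set iB : B →+* K ⊗[k] B := ((Algebra.TensorProduct.includeRight : B →ₐ[k] K ⊗[k] B) : B →+* K ⊗[k] B)
  have hcomm : iA.comp (φ : B →+* A) = (φK : K ⊗[k] B →+* K ⊗[k] A).comp iB := by
    refine RingHom.ext fun b => ?_
    rfl
  have hcomp : (iA.comp (φ : B →+* A)).FaithfullyFlat := by
    rw [hcomm]
    exact faithfullyFlat_comp _ _ hiB hK
  rw [RingHom.FaithfullyFlat.iff_flat_and_comap_surjective]
  refine ⟨HopfFlatAux.flat_of_comp_faithfullyFlat _ iA hiA hcomp.flat, ?_⟩
  have hs := (RingHom.FaithfullyFlat.iff_flat_and_comap_surjective.1 hcomp).2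
  intro p
  obtain ⟨q, hq⟩ := hs p
  refine ⟨PrimeSpectrum.comap iA q, ?_⟩
  rw [← hq]
  rfl

end

end Groth.Agent.Lib.Helper23.HopfFlat
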