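import Mathlib
import Groth.Agent.Lib.Helper23.HopfNormCorr
import Groth.Agent.Lib.Helper16.FinHopfCartierFG

/-!
# Étale quotients with infinitesimal kernel lift uniquely (helper23)

Let `k` be a perfect field, `ψ : C → A` an injective bialgebra map of commutative Hopf algebras with
`A` finitely generated and `C` étale, such that `A ⧸ A·ψ(C⁺)` is local.  Then every element of `A`
is, modulo a nilpotent, in the image of `C`; there is exactly one algebra retraction of `ψ`, it is
a bialgebra map and its kernel is the nilradical.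
-/

set_option autoImplicit false
set_option linter.unusedSectionVars false

namespace Groth.Agent.Lib.Helper23.HopfEtQ

open TensorProduct WithConv Groth.Agent.Lib.Helper17.DynG Groth.Agent.Lib.Helper75
  Groth.Agent.Lib.Helper16.FinHopf Groth.Agent.Lib.Helper23.HopfFlat
  Groth.Agent.Lib.Helper23.HopfNorm

universe u

section Local

variable {k : Type u} [Field k] {L : Type u} [CommRing L] [HopfAlgebra k L]

/-- In a local finitely generated Hopf algebra the augmentation ideal is nil. -/
theorem ker_counit_le_nilradical [Algebra.FiniteType k L] [IsLocalRing L] :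
    RingHom.ker (Bialgebra.counitAlgHom k L) ≤ nilradical L := by
  have hsurj : Function.Surjective (Bialgebra.counitAlgHom k L) := fun c =>
    ⟨algebraMap k L c, by simp⟩
  have hmax : (RingHom.ker (Bialgebra.counitAlgHom k L)).IsMaximal :=
    RingHom.ker_isMaximal_of_surjective _ hsurj
  have h1 : RingHom.ker (Bialgebra.counitAlgHom k L) = IsLocalRing.maximalIdeal L :=
    IsLocalRing.eq_maximalIdeal hmax
  have hJ : IsJacobsonRing L := isJacobsonRing_of_finiteType (A := k)
  have hne : nilradical L ≠ ⊤ := by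
    intro h
    have h1 : (1 : L) ∈ nilradical L := by rw [h]; trivial
    obtain ⟨n, hn⟩ := h1
    rw [one_pow] at hn
    exact one_ne_zero hn
  have hrad : (nilradical L).IsRadical := Ideal.radical_isRadical ⊥
  rw [h1, ← IsLocalRing.jacobson_eq_maximalIdeal (nilradical L) hne, IsJacobsonRing.out hJ hrad]

end Local

section Diff

variable {k : Type u} [Field k] {A C : Type u} [CommRing A] [HopfAlgebra k A]
  [CommRing C] [HopfAlgebra k C] (ψ : C →ₐc[k] A)
  [Algebra C A] [IsScalarTower k C A] (hψ : ∀ r, algebraMap C A r = ψ r)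
include hψ

theorem thetaK_eq_rho (a : A) : thetaK ψ A a = rho k (augSpan ψ) a := by
  rw [rho_eq]
  rfl

/-- `(id ⊗ ε) (a₁ ⊗ [a₂]) = a ⊗ 1`. -/
theorem map_counit_rho (a : A) :
    Algebra.TensorProduct.map (AlgHom.id k A) (Bialgebra.counitAlgHom k (A ⧸ augSpan ψ))
      (rho k (augSpan ψ) a) = a ⊗ₜ[k] (1 : k) := by
  show Algebra.TensorProduct.map (AlgHom.id k A) (Bialgebra.counitAlgHom k (A ⧸ augSpan ψ))
    ((Algebra.TensorProduct.map (AlgHom.id k A) (Ideal.Quotient.mkₐ k (augSpan ψ)))
      (Coalgebra.comul (R := k) a)) = _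
  have h1 : ∀ t : A ⊗[k] A,
      Algebra.TensorProduct.map (AlgHom.id k A) (Bialgebra.counitAlgHom k (A ⧸ augSpan ψ))
        ((Algebra.TensorProduct.map (AlgHom.id k A) (Ideal.Quotient.mkₐ k (augSpan ψ))) t) =
      LinearMap.lTensor A (Coalgebra.counit (R := k) (A := A)) t := by
    intro t
    induction t using TensorProduct.induction_on with
    | zero => simp
    | add x y hx hy => rw [map_add, map_add, map_add, hx, hy]
    | tmul x y =>
      simp only [Algebra.TensorProduct.map_tmul, AlgHom.id_apply, LinearMap.lTensor_tmul]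
      rfl
  rw [h1, Coalgebra.lTensor_counit_comul]

theorem galoisF_diff_mem (a : A) :
    galoisF ψ A hψ ((a ⊗ₜ[C] (1 : A)) - (1 : A) ⊗ₜ[C] a : A ⊗[C] A) ∈
      Ideal.map (Algebra.TensorProduct.includeRight : A ⧸ augSpan ψ →ₐ[k] A ⊗[k] (A ⧸ augSpan ψ))
        (RingHom.ker (Bialgebra.counitAlgHom k (A ⧸ augSpan ψ))) := by
  set x : A ⊗[C] A := (a ⊗ₜ[C] (1 : A)) - (1 : A) ⊗ₜ[C] a with hx
  set L := A ⧸ augSpan ψ with hL
  set E := Algebra.TensorProduct.map (AlgHom.id k A) (Bialgebra.counitAlgHom k L) with hE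
  have hF : galoisF ψ A hψ x = a ⊗ₜ[k] (1 : L) - rho k (augSpan ψ) a := by
    rw [hx, map_sub, galoisF_tmul, galoisF_tmul, map_one, mul_one,
      ← Algebra.TensorProduct.one_def, one_mul, thetaK_eq_rho ψ hψ]
  have hmem : galoisF ψ A hψ x ∈ RingHom.ker E := by
    rw [RingHom.mem_ker, hF, map_sub, map_counit_rho ψ hψ]
    simp [hE]
  have hsurj : Function.Surjective (Bialgebra.counitAlgHom k L) := fun c =>
    ⟨algebraMap k L c, by simp⟩
  rw [hE, Algebra.TensorProduct.lTensor_ker _ hsurj] at hmem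
  exact hmem

theorem isNilpotent_diff [Algebra.FiniteType k A] [IsLocalRing (A ⧸ augSpan ψ)] (a : A) :
    IsNilpotent ((a ⊗ₜ[C] (1 : A)) - (1 : A) ⊗ₜ[C] a : A ⊗[C] A) := by
  set x : A ⊗[C] A := (a ⊗ₜ[C] (1 : A)) - (1 : A) ⊗ₜ[C] a with hx
  set L := A ⧸ augSpan ψ with hL
  have hmem := galoisF_diff_mem ψ hψ a
  have hle : Ideal.map (Algebra.TensorProduct.includeRight : L →ₐ[k] A ⊗[k] L)
      (RingHom.ker (Bialgebra.counitAlgHom k L)) ≤ nilradical (A ⊗[k] L) := by
    rw [Ideal.map_le_iff_le_comap]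
    intro l hl
    have hl' : IsNilpotent l := ker_counit_le_nilradical hl
    exact hl'.map _
  obtain ⟨n, hn⟩ : IsNilpotent (galoisF ψ A hψ x) := hle hmem
  refine ⟨n, ?_⟩
  have := congrArg (galoisG ψ A hψ) hn
  rwa [← map_pow, galoisG_galoisF, map_zero] at this

theorem diff_eq_zero_of_isReduced [Algebra.FiniteType k A] [IsLocalRing (A ⧸ augSpan ψ)]
    [IsReduced (A ⧸ augSpan ψ)] (a : A) :
    ((a ⊗ₜ[C] (1 : A)) - (1 : A) ⊗ₜ[C] a : A ⊗[C] A) = 0 := by
  have hmem := galoisF_diff_mem ψ hψ a
  have hbot : RingHom.ker (Bialgebra.counitAlgHom k (A ⧸ augSpan ψ)) = ⊥ := by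
    rw [eq_bot_iff]
    intro l hl
    have hl' : IsNilpotent l := ker_counit_le_nilradical hl
    exact hl'.eq_zero
  rw [hbot, Ideal.map_bot] at hmem
  have h0 : galoisF ψ A hψ ((a ⊗ₜ[C] (1 : A)) - (1 : A) ⊗ₜ[C] a : A ⊗[C] A) = 0 := hmem
  have := congrArg (galoisG ψ A hψ) h0
  rwa [galoisG_galoisF, map_zero] at this

end Diff

section Perfect

variable {k : Type u} [Field k] {C : Type u} [CommRing C] [Algebra k C]

theorem exists_pow_eq_of_etale (p : ℕ) [Fact p.Prime] [CharP k p] [PerfectField k]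
    [Algebra.Etale k C] (c' : C) (n : ℕ) : ∃ c : C, c ^ p ^ n = c' := by
  obtain ⟨I, _, Ai, _, _, e, H⟩ := (Algebra.Etale.iff_exists_algEquiv_prod k C).1 inferInstance
  have hsurj : ∀ i, ∃ y : Ai i, y ^ p ^ n = e c' i := by
    intro i
    have _ : Module.Finite k (Ai i) := (H i).1
    have _ : PerfectField (Ai i) := Algebra.IsAlgebraic.perfectField k
    have _ : CharP (Ai i) p := charP_of_injective_algebraMap (algebraMap k (Ai i)).injective p
    have _ : ExpChar (Ai i) p := ExpChar.prime Fact.out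
    have _ : PerfectRing (Ai i) p := PerfectField.toPerfectRing p
    refine ⟨(iterateFrobeniusEquiv (Ai i) p n).symm (e c' i), ?_⟩
    rw [← iterateFrobeniusEquiv_def, RingEquiv.apply_symm_apply]
  choose y hy using hsurj
  refine ⟨e.symm y, ?_⟩
  apply e.injective
  rw [map_pow, e.apply_symm_apply]
  funext i
  rw [Pi.pow_apply, hy i]

end Perfect

section Star

variable {k : Type u} [Field k] {A C : Type u} [CommRing A] [HopfAlgebra k A]
  [CommRing C] [HopfAlgebra k C] (ψ : C →ₐc[k] A)

/-- Every element of `A` is congruent to an element of `C` modulo a nilpotent. -/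
theorem exists_sub_isNilpotent [PerfectField k] [Algebra.FiniteType k A] [Algebra.Etale k C]
    (hinj : Function.Injective ψ) [IsLocalRing (A ⧸ augSpan ψ)] (a : A) :
    ∃ c : C, IsNilpotent (a - ψ c) := by
  let _ : Algebra C A := (ψ : C →+* A).toAlgebra
  have _ : IsScalarTower k C A := IsScalarTower.of_algebraMap_eq fun r => by
    show algebraMap k A r = ψ (algebraMap k C r)
    exact (AlgHomClass.commutes ψ r).symm
  have hψ : ∀ r, algebraMap C A r = ψ r := fun r => rfl
  have hff : Module.FaithfullyFlat C A := faithfullyFlat_of_injective ψ hinj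
  have _ : Nontrivial A := RingHom.domain_nontrivial (Bialgebra.counitAlgHom k A : A →+* k)
  obtain ⟨n, hn⟩ := isNilpotent_diff ψ hψ a
  obtain ⟨p, hp⟩ := CharP.exists k
  rcases CharP.char_is_prime_or_zero k p with hprime | hzero
  · -- characteristic `p`
    have _ : Fact p.Prime := ⟨hprime⟩
    have _ : Nontrivial (A ⊗[C] A) :=
      RingHom.domain_nontrivial ((Algebra.TensorProduct.lmul' C : A ⊗[C] A →ₐ[C] A) : A ⊗[C] A →+* A)
    have _ : CharP (A ⊗[C] A) p :=
      charP_of_injective_algebraMap (algebraMap k (A ⊗[C] A)).injective p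
    have _ : CharP A p := charP_of_injective_algebraMap (algebraMap k A).injective p
    have hle : n ≤ p ^ n := (Nat.lt_pow_self hprime.one_lt).le
    have h1 := pow_eq_zero_of_le hle hn
    rw [sub_pow_char_pow, Algebra.TensorProduct.tmul_pow, Algebra.TensorProduct.tmul_pow, one_pow,
      sub_eq_zero] at h1
    have h2 : Algebra.TensorProduct.includeLeftSubRight C A (a ^ p ^ n) = 0 := by
      rw [Algebra.TensorProduct.includeLeftSubRight_apply, h1, sub_self]
    obtain ⟨c', hc'⟩ := (Algebra.IsEffective.of_faithfullyFlat C A (a ^ p ^ n)).1 h2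
    obtain ⟨c, hc⟩ := exists_pow_eq_of_etale (k := k) p c' n
    refine ⟨c, p ^ n, ?_⟩
    rw [sub_pow_char_pow, ← map_pow, hc, sub_eq_zero]
    exact hc'.symm
  · -- characteristic zero
    subst hzero
    have _ : CharZero k := CharP.charP_to_charZero k
    have _ : IsReduced (A ⧸ augSpan ψ) := isReduced_of_charZero k (A ⧸ augSpan ψ)
    have h1 := diff_eq_zero_of_isReduced ψ hψ a
    have h2 : Algebra.TensorProduct.includeLeftSubRight C A a = 0 := by
      rw [Algebra.TensorProduct.includeLeftSubRight_apply]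
      exact h1
    obtain ⟨c, hc⟩ := (Algebra.IsEffective.of_faithfullyFlat C A a).1 h2
    refine ⟨c, 1, ?_⟩
    rw [pow_one, sub_eq_zero]
    exact hc.symm

end Star

section Retract

variable {k : Type u} [Field k] {A C : Type u} [CommRing A] [HopfAlgebra k A]
  [CommRing C] [HopfAlgebra k C] (ψ : C →ₐc[k] A)

/-- Two algebra maps into a reduced ring which agree on `ψ(C)` are equal. -/
theorem algHom_ext_of_star (star : ∀ a : A, ∃ c : C, IsNilpotent (a - ψ c))
    {T : Type*} [CommRing T] [Algebra k T] [IsReduced T] (f g : A →ₐ[k] T)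
    (h : ∀ c, f (ψ c) = g (ψ c)) : f = g := by
  apply AlgHom.ext
  intro a
  obtain ⟨c, hc⟩ := star a
  have hf : f a = f (ψ c) := by
    have : IsNilpotent (f (a - ψ c)) := hc.map f
    rw [map_sub] at this
    exact sub_eq_zero.1 this.eq_zero
  have hg : g a = g (ψ c) := by
    have : IsNilpotent (g (a - ψ c)) := hc.map g
    rw [map_sub] at this
    exact sub_eq_zero.1 this.eq_zero
  rw [hf, hg, h]

/-- The algebra retraction with kernel the nilradical. -/
theorem exists_retraction (star : ∀ a : A, ∃ c : C, IsNilpotent (a - ψ c)) [IsReduced C]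
    (hinj : Function.Injective ψ) :
    ∃ r : A →ₐ[k] C, (∀ c, r (ψ c) = c) ∧ RingHom.ker (r : A →+* C) = nilradical A := by
  set ψ' : C →ₐ[k] A ⧸ nilradical A :=
    (Ideal.Quotient.mkₐ k (nilradical A)).comp (ψ : C →ₐ[k] A) with hψ'
  have hbij : Function.Bijective ψ' := by
    constructor
    · intro c₁ c₂ h
      have h1 : Ideal.Quotient.mk (nilradical A) (ψ c₁) = Ideal.Quotient.mk (nilradical A) (ψ c₂) := h
      rw [Ideal.Quotient.eq, ← map_sub] at h1
      obtain ⟨n, hn⟩ : IsNilpotent (ψ (c₁ - c₂)) := h1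
      rw [← map_pow] at hn
      have h2 : (c₁ - c₂) ^ n = 0 := hinj (by rw [hn, map_zero])
      have h3 : IsNilpotent (c₁ - c₂) := ⟨n, h2⟩
      exact sub_eq_zero.1 h3.eq_zero
    · intro d
      obtain ⟨a, rfl⟩ := Ideal.Quotient.mk_surjective d
      obtain ⟨c, hc⟩ := star a
      refine ⟨c, ?_⟩
      show Ideal.Quotient.mk (nilradical A) (ψ c) = Ideal.Quotient.mk (nilradical A) a
      rw [Ideal.Quotient.eq]
      have : IsNilpotent (-(a - ψ c)) := hc.neg
      rwa [neg_sub] at this
  set e : C ≃ₐ[k] A ⧸ nilradical A := AlgEquiv.ofBijective ψ' hbij with he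
  refine ⟨(e.symm : (A ⧸ nilradical A) →ₐ[k] C).comp (Ideal.Quotient.mkₐ k (nilradical A)), ?_, ?_⟩
  · intro c
    show e.symm (Ideal.Quotient.mk (nilradical A) (ψ c)) = c
    have : Ideal.Quotient.mk (nilradical A) (ψ c) = e c := rfl
    rw [this, AlgEquiv.symm_apply_apply]
  · ext a
    rw [RingHom.mem_ker]
    show e.symm (Ideal.Quotient.mk (nilradical A) a) = 0 ↔ _
    rw [map_eq_zero_iff e.symm e.symm.injective, Ideal.Quotient.eq_zero_iff_mem]

end Retract

section Main

variable {k : Type u} [Field k] {A C : Type u} [CommRing A] [HopfAlgebra k A]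
  [CommRing C] [HopfAlgebra k C] (ψ : C →ₐc[k] A)

theorem isReduced_of_etale (k : Type u) [Field k] (C : Type u) [CommRing C] [Algebra k C]
    [Algebra.Etale k C] : IsReduced C :=
  Algebra.FormallyUnramified.isReduced_of_field k C

theorem etale_tensor (k : Type u) [Field k] (C : Type u) [CommRing C] [Algebra k C]
    [Algebra.Etale k C] : Algebra.Etale k (C ⊗[k] C) :=
  Algebra.Etale.comp k C (C ⊗[k] C)

/-- **Étale quotient with infinitesimal kernel**: the unique lifting is the reduced subgroup. -/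
theorem existsUnique_retraction [PerfectField k] [Algebra.FiniteType k A] [Algebra.Etale k C]
    (hinj : Function.Injective ψ) [IsLocalRing (A ⧸ augSpan ψ)] :
    (∃! r : A →ₐc[k] C, r.comp ψ = BialgHom.id k C) ∧
    ∀ r : A →ₐc[k] C, r.comp ψ = BialgHom.id k C → RingHom.ker (r : A →+* C) = nilradical A := by
  have star := exists_sub_isNilpotent ψ hinj
  have _ : IsReduced C := isReduced_of_etale k C
  have _ : Algebra.Etale k (C ⊗[k] C) := etale_tensor k C
  have _ : IsReduced (C ⊗[k] C) := isReduced_of_etale k (C ⊗[k] C)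
  obtain ⟨r₀, hr₀, hker⟩ := exists_retraction ψ star hinj
  have hcomp : r₀.comp (ψ : C →ₐ[k] A) = AlgHom.id k C := AlgHom.ext hr₀
  -- any retraction is `r₀`
  have huniq : ∀ r : A →ₐc[k] C, r.comp ψ = BialgHom.id k C → (r : A →ₐ[k] C) = r₀ := by
    intro r hr
    refine algHom_ext_of_star ψ star _ _ fun c => ?_
    rw [hr₀]
    have := congrArg (fun f : C →ₐc[k] C => f c) hr
    exact this
  have hcounit : (Bialgebra.counitAlgHom k C).comp r₀ = Bialgebra.counitAlgHom k A := by
    refine algHom_ext_of_star ψ star _ _ fun c => ?_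
    rw [AlgHom.comp_apply, hr₀]
    exact (CoalgHomClass.counit_comp_apply ψ c).symm
  have hcomul : (Algebra.TensorProduct.map r₀ r₀).comp (Bialgebra.comulAlgHom k A) =
      (Bialgebra.comulAlgHom k C).comp r₀ := by
    refine algHom_ext_of_star ψ star _ _ fun c => ?_
    rw [AlgHom.comp_apply, AlgHom.comp_apply, hr₀]
    have h1 := congrArg (fun f => f c) (BialgHom.map_comp_comulAlgHom ψ)
    simp only [AlgHom.comp_apply] at h1
    have h1' : Bialgebra.comulAlgHom k A (ψ c) =
        Algebra.TensorProduct.map (ψ : C →ₐ[k] A) (ψ : C →ₐ[k] A) (Bialgebra.comulAlgHom k C c) :=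
      h1.symm
    rw [h1', ← AlgHom.comp_apply, ← Algebra.TensorProduct.map_comp, hcomp,
      Algebra.TensorProduct.map_id, AlgHom.id_apply]
  set R : A →ₐc[k] C := BialgHom.ofAlgHom r₀ hcounit hcomul with hR
  have hRψ : R.comp ψ = BialgHom.id k C := BialgHom.ext fun c => hr₀ c
  refine ⟨⟨R, hRψ, ?_⟩, ?_⟩
  · intro r hr
    apply BialgHom.ext
    intro a
    have := congrArg (fun f : A →ₐ[k] C => f a) (huniq r hr)
    exact this
  · intro r hr
    have h := huniq r hr
    have : (r : A →+* C) = (r₀ : A →+* C) := by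
      ext a
      have := congrArg (fun f : A →ₐ[k] C => f a) h
      exact this
    rw [this, hker]

end Main

end Groth.Agent.Lib.Helper23.HopfEtQ
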