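import Mathlib
import Groth.Agent.Lib.Helper23.HopfFlatExhaust
import Groth.Agent.Lib.Helper23.HopfFlatRed
import Groth.Agent.Lib.Helper16.FinHopfCartierFG
import Groth.Agent.Lib.Helper75.ComodField

/-!
# Rational points of affine group schemes over an algebraically closed field (helper23)

For a commutative Hopf algebra `A` (of arbitrary size) over an algebraically closed field `k`:
* `exists_extension` : every `k`-point of a Hopf subalgebra extends to a `k`-point of `A`
  (Zorn's lemma, faithful flatness over Hopf subalgebras and the Nullstellensatz);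
* `exists_point_ne_zero_of_charZero` : in characteristic zero the `k`-points separate the elements
  of `A`.
-/

set_option autoImplicit false
set_option linter.unusedSectionVars false

namespace Groth.Agent.Lib.Helper23.HopfPts

open TensorProduct Groth.Agent.Lib.Helper16.FinHopf Groth.Agent.Lib.Helper23.HopfFlat

universe u v

section Step

variable {k : Type u} [Field k] {A : Type v} [CommRing A] [HopfAlgebra k A]

theorem isSubBialg_sup {B C : Subalgebra k A} (hB : IsSubBialg B) (hC : IsSubBialg C) :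
    IsSubBialg (B ⊔ C) := by
  set H := B ⊔ C with hH
  have hle : H ≤ ((incl₂ H).range).comap (Bialgebra.comulAlgHom k A) := by
    refine sup_le ?_ ?_
    · intro b hb
      obtain ⟨t, ht⟩ := hB ⟨b, hb⟩
      refine ⟨Algebra.TensorProduct.map (Subalgebra.inclusion (le_sup_left : B ≤ H))
        (Subalgebra.inclusion (le_sup_left : B ≤ H)) t, ?_⟩
      have := incl₂_map_inclusion (le_sup_left : B ≤ H) t
      exact this.trans ht
    · intro b hb
      obtain ⟨t, ht⟩ := hC ⟨b, hb⟩
      refine ⟨Algebra.TensorProduct.map (Subalgebra.inclusion (le_sup_right : C ≤ H))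
        (Subalgebra.inclusion (le_sup_right : C ≤ H)) t, ?_⟩
      have := incl₂_map_inclusion (le_sup_right : C ≤ H) t
      exact this.trans ht
  intro b
  exact hle b.2

theorem antipode_mem_sup {B C : Subalgebra k A}
    (hB : ∀ b ∈ B, HopfAlgebraStruct.antipode (R := k) b ∈ B)
    (hC : ∀ b ∈ C, HopfAlgebraStruct.antipode (R := k) b ∈ C) :
    ∀ b ∈ B ⊔ C, HopfAlgebraStruct.antipode (R := k) b ∈ B ⊔ C := by
  have hle : B ⊔ C ≤ (B ⊔ C).comap (HopfAlgebra.antipodeAlgHom k A) := by
    refine sup_le ?_ ?_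
    · intro b hb
      exact (le_sup_left : B ≤ B ⊔ C) (hB b hb)
    · intro b hb
      exact (le_sup_right : C ≤ B ⊔ C) (hC b hb)
  intro b hb
  exact hle hb

/-- One step of the extension of points: along `B' ≤ B' ⊔ C` with `C` finitely generated. -/
theorem exists_extension_step [IsAlgClosed k] {B' C : Subalgebra k A} (hB' : IsSubBialg B')
    (hS' : ∀ b ∈ B', HopfAlgebraStruct.antipode (R := k) b ∈ B') (hC : C.FG)
    (z' : ↥B' →ₐ[k] k) :
    ∃ z'' : ↥(B' ⊔ C) →ₐ[k] k,
      ∀ b : ↥B', z'' (Subalgebra.inclusion (le_sup_left : B' ≤ B' ⊔ C) b) = z' b := by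
  set B'' := B' ⊔ C with hB''
  have h : B' ≤ B'' := le_sup_left
  let _ : Algebra ↥B' ↥B'' := ((Subalgebra.inclusion h : ↥B' →ₐ[k] ↥B'') : ↥B' →+* ↥B'').toAlgebra
  let _ : Algebra ↥B' k := (z' : ↥B' →+* k).toAlgebra
  have _ : IsScalarTower k ↥B' ↥B'' := IsScalarTower.of_algebraMap_eq fun c => rfl
  have _ : IsScalarTower k ↥B' k := IsScalarTower.of_algebraMap_eq fun c => by
    show c = z' (algebraMap k ↥B' c)
    rw [AlgHom.commutes]
    rfl
  have _ : IsScalarTower ↥B' ↥B'' A := IsScalarTower.of_algebraMap_eq fun b => rfl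
  -- finite type
  have _ : Algebra.FiniteType k ↥C := (Subalgebra.fg_iff_finiteType _).1 hC
  have hft : Algebra.FiniteType ↥B' ↥B'' := by
    let μ : ↥B' ⊗[k] ↥C →ₐ[↥B'] ↥B'' :=
      Algebra.TensorProduct.productLeftAlgHom (Algebra.ofId ↥B' ↥B'')
        (Subalgebra.inclusion (le_sup_right : C ≤ B''))
    refine Algebra.FiniteType.of_surjective μ ?_
    intro x
    have hx : (x : A) ∈ (Algebra.TensorProduct.productMap B'.val C.val).range := by
      rw [Algebra.TensorProduct.productMap_range, Subalgebra.range_val, Subalgebra.range_val]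
      exact x.2
    obtain ⟨t, ht⟩ := hx
    refine ⟨t, ?_⟩
    apply Subtype.val_injective
    rw [← ht]
    clear ht
    induction t using TensorProduct.induction_on with
    | zero => simp
    | add x y hx hy => rw [map_add, map_add, Subalgebra.coe_add, hx, hy]
    | tmul x y =>
      simp [μ, Algebra.ofId_apply]
      rfl
  have hff : Module.FaithfullyFlat ↥B' A := faithfullyFlat_of_isSubBialg hB' hS'
  -- the fibre algebra
  have hftF : Algebra.FiniteType k (k ⊗[↥B'] ↥B'') := inferInstance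
  have hntA : Nontrivial (k ⊗[↥B'] A) := Module.FaithfullyFlat.rTensor_nontrivial ↥B' A k
  let ι : ↥B'' →ₐ[↥B'] A := IsScalarTower.toAlgHom ↥B' ↥B'' A
  have hnt : Nontrivial (k ⊗[↥B'] ↥B'') :=
    RingHom.domain_nontrivial
      ((Algebra.TensorProduct.map (AlgHom.id ↥B' k) ι : k ⊗[↥B'] ↥B'' →ₐ[↥B'] k ⊗[↥B'] A) :
        k ⊗[↥B'] ↥B'' →+* k ⊗[↥B'] A)
  obtain ⟨m, hm⟩ := Ideal.exists_maximal (k ⊗[↥B'] ↥B'')
  obtain ⟨pt, -⟩ := exists_algHom_ker_eq_of_finiteType (k := k) m
  let inc : ↥B'' →ₐ[k] k ⊗[↥B'] ↥B'' :=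
    (Algebra.TensorProduct.includeRight : ↥B'' →ₐ[↥B'] k ⊗[↥B'] ↥B'').restrictScalars k
  refine ⟨pt.comp inc, ?_⟩
  intro b
  show pt ((1 : k) ⊗ₜ[↥B'] (Subalgebra.inclusion h b)) = z' b
  have h1 : (Subalgebra.inclusion h b : ↥B'') = b • (1 : ↥B'') := by
    rw [Algebra.smul_def, mul_one]
    rfl
  have h2 : b • (1 : k) = z' b := by
    rw [Algebra.smul_def, mul_one]
    rfl
  rw [h1, ← TensorProduct.smul_tmul, h2]
  have h3 : (z' b) ⊗ₜ[↥B'] (1 : ↥B'') = algebraMap k (k ⊗[↥B'] ↥B'') (z' b) := by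
    rw [Algebra.TensorProduct.algebraMap_apply]
    rfl
  rw [h3, AlgHom.commutes]
  rfl

end Step

section Zorn

variable (k : Type u) [Field k] (A : Type v) [CommRing A] [HopfAlgebra k A]

/-- A Hopf subalgebra with a rational point. -/
structure HPt where
  B : Subalgebra k A
  hB : IsSubBialg B
  hS : ∀ b ∈ B, HopfAlgebraStruct.antipode (R := k) b ∈ B
  z : ↥B →ₐ[k] k

variable {k A}

instance : Preorder (HPt k A) where
  le P Q := ∃ h : P.B ≤ Q.B, ∀ b : ↥P.B, Q.z (Subalgebra.inclusion h b) = P.z b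
  le_refl P := ⟨le_refl _, fun b => rfl⟩
  le_trans P Q R := by
    rintro ⟨h1, h1'⟩ ⟨h2, h2'⟩
    refine ⟨h1.trans h2, fun b => ?_⟩
    rw [← h1' b, ← h2']
    rfl

theorem HPt.le_def {P Q : HPt k A} :
    P ≤ Q ↔ ∃ h : P.B ≤ Q.B, ∀ b : ↥P.B, Q.z (Subalgebra.inclusion h b) = P.z b := Iff.rfl

/-- Upper bounds of nonempty chains. -/
theorem exists_upper_bound (c : Set (HPt k A)) (hc : IsChain (· ≤ ·) c) (y : HPt k A) (hy : y ∈ c) :
    ∃ ub : HPt k A, ∀ P ∈ c, P ≤ ub := by
  have _ : Nonempty ↥c := ⟨⟨y, hy⟩⟩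
  let K : ↥c → Subalgebra k A := fun i => i.1.B
  have dir : Directed (· ≤ ·) K := by
    intro i j
    rcases hc.total i.2 j.2 with hij | hji
    · exact ⟨j, hij.1, le_refl _⟩
    · exact ⟨i, le_refl _, hji.1⟩
  have hf : ∀ (i j : ↥c) (h : K i ≤ K j), i.1.z = (j.1.z).comp (Subalgebra.inclusion h) := by
    intro i j h
    apply AlgHom.ext
    intro b
    rcases hc.total i.2 j.2 with hij | hji
    · obtain ⟨h', hz⟩ := hij
      exact (hz b).symm
    · obtain ⟨h', hz⟩ := hji
      have := hz (Subalgebra.inclusion h b)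
      rw [AlgHom.comp_apply, ← this]
      rfl
  set T : Subalgebra k A := ⨆ i, K i with hT
  have hmem : ∀ x : A, x ∈ T ↔ ∃ i, x ∈ K i := by
    intro x
    rw [hT, ← SetLike.mem_coe, Subalgebra.coe_iSup_of_directed dir, Set.mem_iUnion]
    rfl
  refine ⟨⟨T, ?_, ?_, Subalgebra.iSupLift K dir (fun i => i.1.z) hf T (le_refl _)⟩, ?_⟩
  · intro b
    obtain ⟨i, hi⟩ := (hmem b.1).1 b.2
    obtain ⟨t, ht⟩ := i.1.hB ⟨b.1, hi⟩
    have hle : K i ≤ T := le_iSup K i
    refine ⟨Algebra.TensorProduct.map (Subalgebra.inclusion hle) (Subalgebra.inclusion hle) t, ?_⟩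
    exact (incl₂_map_inclusion hle t).trans ht
  · intro b hb
    obtain ⟨i, hi⟩ := (hmem b).1 hb
    exact (hmem _).2 ⟨i, i.1.hS b hi⟩
  · intro P hP
    have hle : K ⟨P, hP⟩ ≤ T := le_iSup K ⟨P, hP⟩
    refine ⟨hle, fun b => ?_⟩
    exact Subalgebra.iSupLift_inclusion (K := K) (dir := dir) (hf := hf) (i := ⟨P, hP⟩) b hle

/-- A maximal pair has `B = ⊤`. -/
theorem eq_top_of_isMax [IsAlgClosed k] {M : HPt k A} (hM : IsMax M) : M.B = ⊤ := by
  rw [eq_top_iff]
  intro a _
  obtain ⟨z'', hz''⟩ := exists_extension_step M.hB M.hS (fg_hopfGen (k := k) ({a} : Finset A)) M.z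
  let M' : HPt k A := ⟨M.B ⊔ hopfGen (k := k) ({a} : Finset A),
    isSubBialg_sup M.hB (isSubBialg_hopfGen _), antipode_mem_sup M.hS (antipode_mem_hopfGen _), z''⟩
  have hle : M ≤ M' := ⟨le_sup_left, hz''⟩
  obtain ⟨h', -⟩ := hM hle
  exact h' ((le_sup_right : hopfGen (k := k) ({a} : Finset A) ≤ _)
    (subset_hopfGen _ (Finset.mem_singleton_self a)))

/-- **Extension of rational points** from a Hopf subalgebra. -/
theorem exists_extension [IsAlgClosed k] {B : Subalgebra k A} (hB : IsSubBialg B)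
    (hS : ∀ b ∈ B, HopfAlgebraStruct.antipode (R := k) b ∈ B) (z : ↥B →ₐ[k] k) :
    ∃ g : A →ₐ[k] k, ∀ b : ↥B, g b = z b := by
  let P₀ : HPt k A := ⟨B, hB, hS, z⟩
  obtain ⟨M, hPM, hM⟩ := zorn_le_nonempty_Ici₀ P₀
    (fun c _ hc y hy => exists_upper_bound c hc y hy) P₀ (le_refl _)
  have htop := eq_top_of_isMax hM
  have hmem : ∀ a : A, a ∈ M.B := fun a => by rw [htop]; trivial
  refine ⟨M.z.comp ((AlgHom.id k A).codRestrict M.B (fun a => hmem a)), ?_⟩
  intro b
  obtain ⟨h', hz⟩ := hPM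
  rw [← hz b]
  rfl

end Zorn

section Separation

variable {k : Type u} [Field k] {A : Type v} [CommRing A] [HopfAlgebra k A]

/-- In characteristic zero the rational points separate the elements of a commutative Hopf
algebra over an algebraically closed field. -/
theorem exists_point_ne_zero_of_charZero [IsAlgClosed k] [CharZero k] (a : A) (ha : a ≠ 0) :
    ∃ g : A →ₐ[k] k, g a ≠ 0 := by
  set B₀ := hopfGen (k := k) ({a} : Finset A) with hB₀
  have hB := isSubBialg_hopfGen (k := k) ({a} : Finset A)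
  have hS := antipode_mem_hopfGen (k := k) ({a} : Finset A)
  let _ : HopfAlgebra k ↥B₀ := subHopfAlgebra hB hS
  have _ : Algebra.FiniteType k ↥B₀ := (Subalgebra.fg_iff_finiteType _).1 (fg_hopfGen _)
  have _ : IsReduced ↥B₀ := isReduced_of_charZero k ↥B₀
  have haB : a ∈ B₀ := subset_hopfGen _ (Finset.mem_singleton_self a)
  have hnil : ¬ IsNilpotent (⟨a, haB⟩ : ↥B₀) := by
    intro h
    have h0 := h.eq_zero
    exact ha (congrArg Subtype.val h0)
  obtain ⟨z, hz⟩ := exists_point_ne_zero (k := k) (⟨a, haB⟩ : ↥B₀) hnil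
  obtain ⟨g, hg⟩ := exists_extension hB hS z
  refine ⟨g, ?_⟩
  have := hg ⟨a, haB⟩
  rw [← this] at hz
  exact hz

open Groth.Agent.Lib.Helper75 in
/-- A tensor all of whose contractions against rational points vanish is zero, when the rational
points separate the elements of `A`. -/
theorem eq_zero_of_points (hsep : ∀ a : A, a ≠ 0 → ∃ g : A →ₐ[k] k, g a ≠ 0)
    {U : Type*} [AddCommGroup U] [Module k U] (t : U ⊗[k] A)
    (h : ∀ g : A →ₐ[k] k, Groth.Agent.Lib.Helper75.contractR U g.toLinearMap t = 0) : t = 0 := by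
  classical
  let ℬ := Module.Basis.ofVectorSpace k U
  set e := TensorProduct.equivFinsuppOfBasisLeft (N := A) ℬ with he
  have key : ∀ (g : A →ₐ[k] k) (t : U ⊗[k] A) (j),
      g (e t j) = ℬ.repr (Groth.Agent.Lib.Helper75.contractR U g.toLinearMap t) j := by
    intro g t j
    induction t using TensorProduct.induction_on with
    | zero => simp
    | add x y hx hy =>
      rw [map_add, Finsupp.add_apply, map_add, hx, hy, map_add, map_add, Finsupp.add_apply]
    | tmul u a =>
      rw [he, TensorProduct.equivFinsuppOfBasisLeft_apply_tmul_apply,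
        Groth.Agent.Lib.Helper75.contractR_tmul, map_smul,
        map_smul, Finsupp.smul_apply, smul_eq_mul, smul_eq_mul, mul_comm]
      rfl
  apply e.injective
  rw [map_zero]
  ext j
  by_contra hne
  obtain ⟨g, hg⟩ := hsep _ hne
  apply hg
  rw [key, h g, map_zero]
  rfl

open Groth.Agent.Lib.Helper75 in
/-- A subspace stable under all rational points is a subcomodule, when the rational points separate
the elements of `A`. -/
theorem isSubcomod_of_points (hsep : ∀ a : A, a ≠ 0 → ∃ g : A →ₐ[k] k, g a ≠ 0)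
    {V : Type*} [AddCommGroup V] [Module k V] [HopfRep.Comod k A V] (W : Submodule k V)
    (hW : ∀ g : A →ₐ[k] k, W.map (HopfRep.Comod.act k A V g) ≤ W) :
    HopfRep.IsSubcomod (k := k) (A := A) W := by
  intro w hw
  have hex : Function.Exact (LinearMap.rTensor A W.subtype) (LinearMap.rTensor A W.mkQ) :=
    rTensor_exact A (LinearMap.exact_subtype_mkQ W) (Submodule.mkQ_surjective W)
  rw [← hex.linearMap_ker_eq, LinearMap.mem_ker]
  apply eq_zero_of_points hsep
  intro g
  rw [Groth.Agent.Lib.Helper75.contractR_rTensor]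
  have h1 : Groth.Agent.Lib.Helper75.contractR V g.toLinearMap (HopfRep.Comod.coact (k := k) (A := A) w) =
      HopfRep.Comod.act k A V g w := rfl
  rw [h1, Submodule.mkQ_apply, Submodule.Quotient.mk_eq_zero]
  exact hW g (Submodule.mem_map_of_mem hw)

end Separation

end Groth.Agent.Lib.Helper23.HopfPts
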