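import Mathlib
import Groth.Agent.Lib.Helper23.HopfPoints
import Groth.Agent.Lib.Helper23.HopfFlatRange

/-!
# Surjectivity and density of rational points (Hopf algebra side) (helper23)

For commutative Hopf algebras (of arbitrary size) over an algebraically closed field `k`:
* `exists_point_comp_eq` : if `φ : A' →ₐc[k] A` has nil kernel then every `k`-point of `A'` is the
  restriction of a `k`-point of `A`;
* `exists_point_ne_zero_of_not_isNilpotent` : a non nilpotent element is non zero at some
  `k`-point.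
-/

set_option autoImplicit false
set_option linter.unusedSectionVars false

namespace Groth.Agent.Lib.Helper23.HopfPts

open TensorProduct Groth.Agent.Lib.Helper16.FinHopf Groth.Agent.Lib.Helper23.HopfFlat

universe u v w

variable {k : Type u} [Field k] [IsAlgClosed k] {A : Type v} [CommRing A] [HopfAlgebra k A]
  {A' : Type w} [CommRing A'] [HopfAlgebra k A']

theorem exists_point_comp_eq (φ : A' →ₐc[k] A)
    (hker : ∀ a : A', φ a = 0 → IsNilpotent a) (z : A' →ₐ[k] k) :
    ∃ g : A →ₐ[k] k, ∀ a : A', g (φ a) = z a := by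
  have hB := isSubBialg_range φ
  have hS := antipode_mem_range φ
  have hsurj : Function.Surjective (φ : A' →ₐ[k] A).rangeRestrict :=
    (φ : A' →ₐ[k] A).rangeRestrict_surjective
  have hle : RingHom.ker (φ : A' →ₐ[k] A).rangeRestrict.toRingHom ≤ RingHom.ker z.toRingHom := by
    intro a ha
    rw [RingHom.mem_ker] at ha ⊢
    have h0 : φ a = 0 := congrArg Subtype.val ha
    have hn : IsNilpotent (z a) := (hker a h0).map z
    exact hn.eq_zero
  obtain ⟨g, hg⟩ := exists_extension hB hS
    (AlgHom.liftOfSurjective (φ : A' →ₐ[k] A).rangeRestrict hsurj z hle)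
  refine ⟨g, fun a => ?_⟩
  have := hg ((φ : A' →ₐ[k] A).rangeRestrict a)
  rw [AlgHom.liftOfSurjective_apply] at this
  exact this

theorem exists_point_ne_zero_of_not_isNilpotent (a : A) (ha : ¬ IsNilpotent a) :
    ∃ g : A →ₐ[k] k, g a ≠ 0 := by
  set B₀ := hopfGen (k := k) ({a} : Finset A) with hB₀
  have hB := isSubBialg_hopfGen (k := k) ({a} : Finset A)
  have hS := antipode_mem_hopfGen (k := k) ({a} : Finset A)
  have _ : Algebra.FiniteType k ↥B₀ := (Subalgebra.fg_iff_finiteType _).1 (fg_hopfGen _)
  have haB : a ∈ B₀ := subset_hopfGen _ (Finset.mem_singleton_self a)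
  have hnil : ¬ IsNilpotent (⟨a, haB⟩ : ↥B₀) := by
    intro h
    exact ha (h.map B₀.val)
  obtain ⟨z, hz⟩ := exists_point_ne_zero (k := k) (⟨a, haB⟩ : ↥B₀) hnil
  obtain ⟨g, hg⟩ := exists_extension hB hS z
  refine ⟨g, ?_⟩
  have := hg ⟨a, haB⟩
  rw [← this] at hz
  exact hz

end Groth.Agent.Lib.Helper23.HopfPts
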