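import Groth.Agent.Lib.Helper23.HopfRegular
import Groth.Agent.S0558

/-!
# Reducedness criteria for finitely generated Hopf algebras (helper23)

* `exists_isMaximal_isRegularLocalRing_of_isReduced` : a nontrivial reduced finitely generated algebra
  over a perfect field has a maximal ideal at which it is regular (universe polymorphic).
* `isRegularLocalRing_of_quotient` : `B` Noetherian local, `J ≤ m²`, `B/J` regular implies `B` regular.
* `isReduced_of_nilradical_le_sq` : a finitely generated Hopf algebra over an algebraically closed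
  field whose nilradical lies in the square of the augmentation ideal is reduced.
-/

set_option autoImplicit false
universe u v

open Groth.Agent.Lib.Helper16.FinHopf Groth.Agent.Lib.Helper62.SmoothReg

namespace Groth.Agent.Lib.Helper23.HopfReduced

/-- localizations at primes corresponding under a ring isomorphism are isomorphic -/
theorem nonempty_ringEquiv_atPrime {S : Type*} {A : Type*} [CommRing S] [CommRing A] (e : S ≃+* A)
    (p : Ideal S) [p.IsPrime] (q : Ideal A) [q.IsPrime] (h : p = q.comap (e : S →+* A)) :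
    Nonempty (Localization.AtPrime p ≃+* Localization.AtPrime q) := by
  have H : Submonoid.map e.toMonoidHom p.primeCompl = q.primeCompl := by
    ext a
    simp only [Submonoid.mem_map, Ideal.mem_primeCompl_iff]
    constructor
    · rintro ⟨b, hb, rfl⟩
      intro hcon
      apply hb
      rw [h]
      exact hcon
    · intro ha
      refine ⟨e.symm a, ?_, e.apply_symm_apply a⟩
      intro hcon
      apply ha
      rw [h] at hcon
      have : e (e.symm a) ∈ q := hcon
      rwa [e.apply_symm_apply] at this
  exact ⟨IsLocalization.ringEquivOfRingEquiv (Localization.AtPrime p) (Localization.AtPrime q) e H⟩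

/-- same-universe version -/
theorem exists_isMaximal_isRegularLocalRing_of_isReduced_aux (k : Type u) [Field k] [PerfectField k]
    (A : Type u) [CommRing A] [Algebra k A] [Algebra.FiniteType k A] [IsReduced A] [Nontrivial A] :
    ∃ (n : Ideal A) (_ : n.IsMaximal), IsRegularLocalRing (Localization.AtPrime n) := by
  have hN : IsNoetherianRing A := Algebra.FiniteType.isNoetherianRing k A
  have hJ : IsJacobsonRing A := isJacobsonRing_of_finiteType (A := k) (B := A)
  have hfp : Algebra.FinitePresentation k A :=
    (Algebra.FinitePresentation.of_finiteType).mp inferInstance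
  obtain ⟨q, hq⟩ : ∃ q, q ∈ minimalPrimes A := by
    obtain ⟨m, hm⟩ := Ideal.exists_maximal A
    obtain ⟨q, hq, -⟩ := Ideal.exists_minimalPrimes_le (I := (⊥ : Ideal A)) (J := m) bot_le
    exact ⟨q, hq⟩
  have hqp : q.IsPrime := hq.1.1
  have hK : Ring.KrullDimLE 0 (Localization.AtPrime q) := .of_isLocalization _ hq _
  have hredq : IsReduced (Localization.AtPrime q) := inferInstance
  have hF : IsField (Localization.AtPrime q) := Ring.KrullDimLE.isField_of_isReduced
  have hreg : IsRegularLocalRing (Localization.AtPrime q) :=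
    HopfRegular.isRegularLocalRing_of_isField _ hF
  have hsm : Algebra.IsSmoothAt k q :=
    (isSmoothAt_iff_isRegularLocalRing_of_perfectField k A q).mpr hreg
  have hopen : IsOpen (Algebra.smoothLocus k A) := Algebra.isOpen_smoothLocus
  have hne : (Algebra.smoothLocus k A).Nonempty := ⟨⟨q, hqp⟩, hsm⟩
  obtain ⟨x, hx, hxc⟩ := nonempty_inter_closedPoints hne hopen.isLocallyClosed
  have hmax : x.asIdeal.IsMaximal := (PrimeSpectrum.isClosed_singleton_iff_isMaximal x).mp hxc
  refine ⟨x.asIdeal, hmax, ?_⟩
  have hx' : Algebra.IsSmoothAt k x.asIdeal := hx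
  exact (isSmoothAt_iff_isRegularLocalRing_of_perfectField k A x.asIdeal).mp hx'

/-- A nontrivial reduced finitely generated algebra over a perfect field is regular at some maximal
ideal. -/
theorem exists_isMaximal_isRegularLocalRing_of_isReduced (k : Type u) [Field k] [PerfectField k]
    (A : Type v) [CommRing A] [Algebra k A] [Algebra.FiniteType k A] [IsReduced A] [Nontrivial A] :
    ∃ (n : Ideal A) (_ : n.IsMaximal), IsRegularLocalRing (Localization.AtPrime n) := by
  obtain ⟨d, f, hf⟩ := Algebra.FiniteType.iff_quotient_mvPolynomial''.1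
    (inferInstance : Algebra.FiniteType k A)
  let e : (MvPolynomial (Fin d) k ⧸ RingHom.ker f) ≃ₐ[k] A :=
    Ideal.quotientKerAlgEquivOfSurjective hf
  have hred : IsReduced (MvPolynomial (Fin d) k ⧸ RingHom.ker f) :=
    isReduced_of_injective e.toRingEquiv.toRingHom e.injective
  have hnt : Nontrivial (MvPolynomial (Fin d) k ⧸ RingHom.ker f) := e.toRingEquiv.nontrivial
  have hft : Algebra.FiniteType k (MvPolynomial (Fin d) k ⧸ RingHom.ker f) :=
    Algebra.FiniteType.of_surjective (Ideal.Quotient.mkₐ k _) (Ideal.Quotient.mkₐ_surjective k _)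
  obtain ⟨n', hn', hreg⟩ := exists_isMaximal_isRegularLocalRing_of_isReduced_aux k
    (MvPolynomial (Fin d) k ⧸ RingHom.ker f)
  let n : Ideal A := n'.comap (e.symm.toRingEquiv : A →+* _)
  have hn : n.IsMaximal := Ideal.comap_isMaximal_of_equiv e.symm.toRingEquiv
  refine ⟨n, hn, ?_⟩
  obtain ⟨E⟩ := nonempty_ringEquiv_atPrime e.symm.toRingEquiv n n' rfl
  exact IsRegularLocalRing.of_ringEquiv E.symm

/-- If `J ≤ m²` and `B ⧸ J` is regular then `B` is regular. -/
theorem isRegularLocalRing_of_quotient (B : Type*) [CommRing B] [IsLocalRing B]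
    [IsNoetherianRing B] (J : Ideal B) (hJ : J ≤ IsLocalRing.maximalIdeal B ^ 2)
    [hreg : IsRegularLocalRing (B ⧸ J)] : IsRegularLocalRing B := by
  classical
  apply IsRegularLocalRing.of_spanFinrank_maximalIdeal_le
  have hsurj : Function.Surjective (Ideal.Quotient.mk J) := Ideal.Quotient.mk_surjective
  have hcomap : (IsLocalRing.maximalIdeal (B ⧸ J)).comap (Ideal.Quotient.mk J) =
      IsLocalRing.maximalIdeal B :=
    IsLocalRing.eq_maximalIdeal (Ideal.comap_isMaximal_of_surjective _ hsurj)
  obtain ⟨s, hscard, hsspan⟩ := Submodule.FG.exists_span_finset_card_eq_spanFinrank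
    (p := IsLocalRing.maximalIdeal (B ⧸ J)) (IsLocalRing.maximalIdeal (B ⧸ J)).fg_of_isNoetherianRing
  let g : B ⧸ J → B := Function.surjInv hsurj
  have hg : ∀ y, Ideal.Quotient.mk J (g y) = y := Function.surjInv_eq hsurj
  let t : Finset B := s.image g
  have ht' : Ideal.span (t : Set B) ≤ IsLocalRing.maximalIdeal B := by
    rw [Ideal.span_le]
    intro x hx
    obtain ⟨y, hy, rfl⟩ := Finset.mem_image.1 (Finset.mem_coe.1 hx)
    rw [SetLike.mem_coe, ← hcomap, Ideal.mem_comap, hg]
    rw [← hsspan]
    exact Submodule.subset_span hy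
  have hmapt : (Ideal.span (t : Set B)).map (Ideal.Quotient.mk J) =
      IsLocalRing.maximalIdeal (B ⧸ J) := by
    rw [Ideal.map_span, ← hsspan]
    congr 1
    ext y
    simp only [Set.mem_image, Finset.mem_coe, t, Finset.mem_image]
    constructor
    · rintro ⟨x, ⟨y', hy', rfl⟩, rfl⟩
      rw [hg]; exact hy'
    · intro hy
      exact ⟨g y, ⟨y, hy, rfl⟩, hg y⟩
  have ht : IsLocalRing.maximalIdeal B ≤ Ideal.span (t : Set B) ⊔ J := by
    intro x hx
    have h1 : Ideal.Quotient.mk J x ∈ (Ideal.span (t : Set B)).map (Ideal.Quotient.mk J) := by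
      rw [hmapt, ← Ideal.mem_comap, hcomap]
      exact hx
    have h2 : x ∈ ((Ideal.span (t : Set B)).map (Ideal.Quotient.mk J)).comap
        (Ideal.Quotient.mk J) := h1
    rw [Ideal.comap_map_of_surjective _ hsurj, ← RingHom.ker_eq_comap_bot, Ideal.mk_ker] at h2
    exact h2
  have hle : IsLocalRing.maximalIdeal B ≤ Ideal.span (t : Set B) := by
    refine Submodule.le_of_le_smul_of_le_jacobson_bot
      (I := IsLocalRing.maximalIdeal B) (IsLocalRing.maximalIdeal B).fg_of_isNoetherianRing
      (IsLocalRing.maximalIdeal_le_jacobson ⊥) ?_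
    refine ht.trans (sup_le_sup_left ?_ _)
    rw [smul_eq_mul, ← pow_two]
    exact hJ
  have heq : IsLocalRing.maximalIdeal B = Ideal.span (t : Set B) := le_antisymm hle ht'
  have h1 : (IsLocalRing.maximalIdeal B).spanFinrank ≤ s.card := by
    rw [heq]
    refine (Submodule.spanFinrank_span_le_ncard_of_finite t.finite_toSet).trans ?_
    rw [Set.ncard_coe_finset]
    exact Finset.card_image_le
  have h2 : ((IsLocalRing.maximalIdeal (B ⧸ J)).spanFinrank : WithBot ℕ∞) = ringKrullDim (B ⧸ J) :=
    hreg.spanFinrank_maximalIdeal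
  calc ((IsLocalRing.maximalIdeal B).spanFinrank : WithBot ℕ∞)
      ≤ ((IsLocalRing.maximalIdeal (B ⧸ J)).spanFinrank : WithBot ℕ∞) := by
        rw [← hscard]; exact_mod_cast h1
    _ = ringKrullDim (B ⧸ J) := h2
    _ ≤ ringKrullDim B := ringKrullDim_quotient_le J

/-- A finitely generated commutative Hopf algebra over an algebraically closed field whose
nilradical lies in the square of the augmentation ideal is reduced. -/
theorem isReduced_of_nilradical_le_sq (k : Type u) (A : Type v) [Field k] [IsAlgClosed k]
    [CommRing A] [HopfAlgebra k A] [Algebra.FiniteType k A]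
    (h : nilradical A ≤ RingHom.ker (Bialgebra.counitAlgHom k A) ^ 2) : IsReduced A := by
  have hN : IsNoetherianRing A := Algebra.FiniteType.isNoetherianRing k A
  have hnt : Nontrivial A := by
    by_contra hc
    rw [not_nontrivial_iff_subsingleton] at hc
    have h1 : (Bialgebra.counitAlgHom k A) 1 = (Bialgebra.counitAlgHom k A) 0 := by
      congr 1
      exact Subsingleton.elim _ _
    rw [map_one, map_zero] at h1
    exact one_ne_zero h1
  -- translations: `ker γ = τ⁻¹(I)`
  have hτ : ∀ γ : A →ₐ[k] k, ∃ τ : A ≃+* A, ∀ x, x ∈ RingHom.ker γ ↔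
      τ x ∈ RingHom.ker (Bialgebra.counitAlgHom k A) := by
    intro γ
    refine ⟨(translEquiv (WithConv.toConv γ)).toRingEquiv, fun x => ?_⟩
    have hker := ker_eq_comap_transl (WithConv.toConv γ)
    rw [WithConv.ofConv_toConv] at hker
    rw [hker, Ideal.mem_comap]
    rfl
  -- the nilradical lies in the square of every rational maximal ideal
  have hsq : ∀ γ : A →ₐ[k] k, nilradical A ≤ RingHom.ker γ ^ 2 := by
    intro γ
    obtain ⟨τ, hτγ⟩ := hτ γ
    have hker : RingHom.ker γ = (RingHom.ker (Bialgebra.counitAlgHom k A)).comap τ := by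
      ext x
      rw [hτγ, Ideal.mem_comap]
    intro x hx
    have h1 : τ x ∈ nilradical A := (show IsNilpotent x from hx).map τ
    have h2 := h h1
    rw [hker, ← Ideal.map_symm, ← Ideal.map_pow, Ideal.map_symm, Ideal.mem_comap]
    exact h2
  -- the reduced quotient
  have hred' : IsReduced (A ⧸ nilradical A) :=
    (Ideal.isRadical_iff_quotient_reduced _).1 (Ideal.radical_isRadical ⊥)
  have hft' : Algebra.FiniteType k (A ⧸ nilradical A) :=
    Algebra.FiniteType.of_surjective (Ideal.Quotient.mkₐ k _) (Ideal.Quotient.mkₐ_surjective k _)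
  have hnil_ne : nilradical A ≠ ⊤ := by
    intro htop
    have h1 : (1 : A) ∈ nilradical A := htop ▸ Submodule.mem_top
    obtain ⟨m, hm⟩ := (show IsNilpotent (1 : A) from h1)
    rw [one_pow] at hm
    exact one_ne_zero hm
  have hnt' : Nontrivial (A ⧸ nilradical A) := Ideal.Quotient.nontrivial_iff.2 hnil_ne
  obtain ⟨n', hn', hreg'⟩ := exists_isMaximal_isRegularLocalRing_of_isReduced k (A ⧸ nilradical A)
  let n : Ideal A := n'.comap (Ideal.Quotient.mk (nilradical A))
  have hn : n.IsMaximal := Ideal.comap_isMaximal_of_surjective _ Ideal.Quotient.mk_surjective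
  obtain ⟨γ, hγ⟩ := exists_algHom_ker_eq_of_finiteType (k := k) n
  -- the local ring at `n` modulo nilpotents is the local ring of the reduced quotient at `n'`
  let J : Ideal (Localization.AtPrime n) := (nilradical A).map (algebraMap A (Localization.AtPrime n))
  have hloc : IsLocalization (Algebra.algebraMapSubmonoid (A ⧸ nilradical A) n.primeCompl)
      (Localization.AtPrime n ⧸ J) := inferInstance
  have hsub : Algebra.algebraMapSubmonoid (A ⧸ nilradical A) n.primeCompl = n'.primeCompl := by
    ext y
    simp only [Algebra.algebraMapSubmonoid, Submonoid.mem_map, Ideal.mem_primeCompl_iff]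
    constructor
    · rintro ⟨x, hx, rfl⟩
      exact hx
    · intro hy
      obtain ⟨x, rfl⟩ := Ideal.Quotient.mk_surjective y
      exact ⟨x, hy, rfl⟩
  rw [hsub] at hloc
  have hloc' : IsLocalization.AtPrime (Localization.AtPrime n ⧸ J) n' := hloc
  let E : Localization.AtPrime n' ≃+* (Localization.AtPrime n ⧸ J) :=
    (IsLocalization.algEquiv n'.primeCompl (Localization.AtPrime n')
      (Localization.AtPrime n ⧸ J)).toRingEquiv
  have hregQ : IsRegularLocalRing (Localization.AtPrime n ⧸ J) := IsRegularLocalRing.of_ringEquiv E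
  have hJ : J ≤ IsLocalRing.maximalIdeal (Localization.AtPrime n) ^ 2 := by
    rw [← IsLocalization.AtPrime.map_eq_maximalIdeal n (Localization.AtPrime n), ← Ideal.map_pow]
    refine Ideal.map_mono ?_
    rw [← hγ]
    exact hsq γ
  have hregB : IsRegularLocalRing (Localization.AtPrime n) :=
    isRegularLocalRing_of_quotient _ J hJ
  have hdom : IsDomain (Localization.AtPrime n) := Groth.Agent.S0558.result _
  -- homogeneity
  apply isReduced_ofLocalizationMaximal
  intro P hP
  obtain ⟨γP, hγP⟩ := exists_algHom_ker_eq_of_finiteType (k := k) P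
  obtain ⟨τP, hτP⟩ := hτ γP
  obtain ⟨τn, hτn⟩ := hτ γ
  have hPn : P = n.comap ((τP.trans τn.symm : A ≃+* A) : A →+* A) := by
    ext x
    rw [Ideal.mem_comap, ← hγP, hτP, ← hγ, hτn]
    simp
  obtain ⟨E'⟩ := nonempty_ringEquiv_atPrime (τP.trans τn.symm) P n hPn
  exact isReduced_of_injective E'.toRingHom E'.injective

end Groth.Agent.Lib.Helper23.HopfReduced
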