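import Groth.Agent.Lib.Helper62.SmoothReg5
import Groth.Agent.Lib.Helper16.FinHopfCartierFG
import Mathlib.RingTheory.Spectrum.Prime.Jacobson
import Mathlib.RingTheory.LocalProperties.Reduced

/-!
# A commutative Hopf algebra of finite type over an algebraically closed field of characteristic
zero is regular, equidimensional (helper23)

Uses helper16 (Cartier's theorem, translations) and helper62 (smooth = regular over a perfect field).
-/

set_option autoImplicit false
universe u

open Groth.Agent.Lib.Helper16.FinHopf Groth.Agent.Lib.Helper62.SmoothReg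

namespace Groth.Agent.Lib.Helper23.HopfRegular

variable (k : Type u) [Field k] [IsAlgClosed k] [CharZero k]
variable (A : Type u) [CommRing A] [HopfAlgebra k A] [Algebra.FiniteType k A]

/-- a local ring with zero maximal ideal is regular -/
theorem isRegularLocalRing_of_isField (F : Type*) [CommRing F] [IsLocalRing F] (hF : IsField F) :
    IsRegularLocalRing F := by
  let _ := hF.toField
  have hN : IsNoetherianRing F := inferInstance
  apply IsRegularLocalRing.of_spanFinrank_maximalIdeal_le
  rw [IsLocalRing.maximalIdeal_eq_bot]
  have : (⊥ : Ideal F).spanFinrank = 0 := by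
    rw [Submodule.spanFinrank_eq_zero_iff_eq_bot (Submodule.fg_bot)]
  rw [this]
  simp

/-- some maximal ideal of `A` has a regular localisation -/
theorem exists_isMaximal_isRegularLocalRing (k : Type u) [Field k] [IsAlgClosed k] [CharZero k]
    (A : Type u) [CommRing A] [HopfAlgebra k A] [Algebra.FiniteType k A] :
    ∃ (n : Ideal A) (_ : n.IsMaximal), IsRegularLocalRing (Localization.AtPrime n) := by
  have hred : IsReduced A := isReduced_of_charZero k A
  have hN : IsNoetherianRing A := Algebra.FiniteType.isNoetherianRing k A
  have hJ : IsJacobsonRing A := isJacobsonRing_of_finiteType (A := k) (B := A)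
  have hnt : Nontrivial A := by
    by_contra h
    rw [not_nontrivial_iff_subsingleton] at h
    have h1 : (Bialgebra.counitAlgHom k A) 1 = (Bialgebra.counitAlgHom k A) 0 := by
      congr 1
      exact Subsingleton.elim _ _
    rw [map_one, map_zero] at h1
    exact one_ne_zero h1
  have hfp : Algebra.FinitePresentation k A :=
    (Algebra.FinitePresentation.of_finiteType).mp inferInstance
  obtain ⟨q, hq⟩ : ∃ q, q ∈ minimalPrimes A := by
    have hp : (RingHom.ker (Bialgebra.counitAlgHom k A)).IsPrime := RingHom.ker_isPrime _
    obtain ⟨q, hq, -⟩ := Ideal.exists_minimalPrimes_le (I := (⊥ : Ideal A))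
      (J := RingHom.ker (Bialgebra.counitAlgHom k A)) bot_le
    exact ⟨q, hq⟩
  have hqp : q.IsPrime := hq.1.1
  have hK : Ring.KrullDimLE 0 (Localization.AtPrime q) := .of_isLocalization _ hq _
  have hredq : IsReduced (Localization.AtPrime q) := inferInstance
  have hF : IsField (Localization.AtPrime q) := Ring.KrullDimLE.isField_of_isReduced
  have hreg : IsRegularLocalRing (Localization.AtPrime q) := isRegularLocalRing_of_isField _ hF
  have hsm : Algebra.IsSmoothAt k q :=
    (isSmoothAt_iff_isRegularLocalRing_of_perfectField k A q).mpr hreg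
  have hopen : IsOpen (Algebra.smoothLocus k A) := Algebra.isOpen_smoothLocus
  have hne : (Algebra.smoothLocus k A).Nonempty := ⟨⟨q, hqp⟩, hsm⟩
  obtain ⟨x, hx, hxc⟩ := nonempty_inter_closedPoints hne hopen.isLocallyClosed
  have hmax : x.asIdeal.IsMaximal := (PrimeSpectrum.isClosed_singleton_iff_isMaximal x).mp hxc
  refine ⟨x.asIdeal, hmax, ?_⟩
  have hx' : Algebra.IsSmoothAt k x.asIdeal := hx
  exact (isSmoothAt_iff_isRegularLocalRing_of_perfectField k A x.asIdeal).mp hx'

omit [IsAlgClosed k] [CharZero k] [Algebra.FiniteType k A] in
theorem counit_surjective : Function.Surjective (Bialgebra.counitAlgHom k A) := fun c =>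
  ⟨algebraMap k A c, by simp⟩

instance isMaximal_ker_counit : (RingHom.ker (Bialgebra.counitAlgHom k A)).IsMaximal :=
  RingHom.ker_isMaximal_of_surjective _ (counit_surjective k A)

omit [IsAlgClosed k] [CharZero k] [Algebra.FiniteType k A] in
theorem height_ker_eq (γ : A →ₐ[k] k) :
    (RingHom.ker γ).height = (RingHom.ker (Bialgebra.counitAlgHom k A)).height := by
  have h := ker_eq_comap_transl (WithConv.toConv γ)
  rw [WithConv.ofConv_toConv] at h
  rw [h]
  exact RingEquiv.height_comap (translEquiv (WithConv.toConv γ)).toRingEquiv _

omit [CharZero k] in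
/-- the dimension of `A` is the height of the augmentation ideal -/
theorem ringKrullDim_eq_height_ker_counit :
    ringKrullDim A = (RingHom.ker (Bialgebra.counitAlgHom k A)).height := by
  have hnt : Nontrivial A := by
    by_contra h
    rw [not_nontrivial_iff_subsingleton] at h
    have h1 : (Bialgebra.counitAlgHom k A) 1 = (Bialgebra.counitAlgHom k A) 0 := by
      congr 1
      exact Subsingleton.elim _ _
    rw [map_one, map_zero] at h1
    exact one_ne_zero h1
  rw [← Ideal.sup_isMaximal_height_eq_ringKrullDim]
  congr 1
  apply le_antisymm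
  · apply iSup₂_le
    intro I hI
    obtain ⟨γ, hγ⟩ := exists_algHom_ker_eq_of_finiteType (k := k) I
    rw [← hγ, height_ker_eq]
  · exact le_iSup₂ (f := fun (I : Ideal A) (_ : I.IsMaximal) => I.height)
      (RingHom.ker (Bialgebra.counitAlgHom k A)) (isMaximal_ker_counit k A)

omit [CharZero k] in
theorem ringKrullDim_atPrime_ker_counit :
    ringKrullDim (Localization.AtPrime (RingHom.ker (Bialgebra.counitAlgHom k A))) =
      ringKrullDim A := by
  rw [IsLocalization.AtPrime.ringKrullDim_eq_height (RingHom.ker (Bialgebra.counitAlgHom k A)),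
    ringKrullDim_eq_height_ker_counit k A]

/-- **the local ring of a group at the identity is regular** (characteristic zero) -/
theorem isRegularLocalRing_atPrime_ker_counit :
    IsRegularLocalRing (Localization.AtPrime (RingHom.ker (Bialgebra.counitAlgHom k A))) := by
  obtain ⟨n, hn, hreg⟩ := exists_isMaximal_isRegularLocalRing k A
  obtain ⟨γ, hγ⟩ := exists_algHom_ker_eq_of_finiteType (k := k) n
  have h := ker_eq_comap_transl (WithConv.toConv γ)
  rw [WithConv.ofConv_toConv, hγ] at h
  let τ : A ≃+* A := (translEquiv (WithConv.toConv γ)).toRingEquiv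
  have H : Submonoid.map τ.toMonoidHom n.primeCompl =
      (RingHom.ker (Bialgebra.counitAlgHom k A)).primeCompl := by
    ext a
    simp only [Submonoid.mem_map, Ideal.mem_primeCompl_iff]
    constructor
    · rintro ⟨b, hb, rfl⟩
      intro hcon
      apply hb
      rw [h]
      exact hcon
    · intro ha
      refine ⟨τ.symm a, ?_, τ.apply_symm_apply a⟩
      intro hcon
      apply ha
      rw [h] at hcon
      have : τ (τ.symm a) ∈ RingHom.ker (Bialgebra.counitAlgHom k A) := hcon
      rwa [τ.apply_symm_apply] at this
  let e : Localization.AtPrime n ≃+*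
      Localization.AtPrime (RingHom.ker (Bialgebra.counitAlgHom k A)) :=
    IsLocalization.ringEquivOfRingEquiv (Localization.AtPrime n)
      (Localization.AtPrime (RingHom.ker (Bialgebra.counitAlgHom k A))) τ H
  exact IsRegularLocalRing.of_ringEquiv e

end Groth.Agent.Lib.Helper23.HopfRegular
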