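import Mathlib
import Groth.Agent.Lib.Helper23.GrpDominant

/-!
# Immersed subgroup schemes over a one-point base are closed (helper23)

The topological argument of SGA3 VI_B 1.4.2: over a one-point base over which everything is
universally open, a rational point in the closure of a locally closed subgroup lies in it.
-/

set_option autoImplicit false
set_option linter.unusedSectionVars false
set_option linter.style.haveILetI false
set_option linter.unusedSimpArgs false

namespace Groth.Agent.Lib.Helper23.ImmClosed

universe u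
open CategoryTheory MonoidalCategory CartesianMonoidalCategory MonObj AlgebraicGeometry Limits
open Groth.Agent.Lib.Helper23.GrpDominant

section Cat

variable {C : Type*} [Category C] [CartesianMonoidalCategory C]

/-- Left translation by a point. -/
def translHom {G : C} [GrpObj G] (x : 𝟙_ C ⟶ G) : G ⟶ G := (toUnit G ≫ x) * 𝟙 G

theorem comp_translHom {G P : C} [GrpObj G] (x : 𝟙_ C ⟶ G) (a : P ⟶ G) :
    a ≫ translHom x = (toUnit P ≫ x) * a := by
  unfold translHom
  rw [MonObj.comp_mul, Category.comp_id, ← Category.assoc]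
  congr 2
  exact toUnit_unique _ _

end Cat

section Scheme

variable {T : Scheme.{u}} {G H : Over T} [GrpObj G] [GrpObj H]

theorem mem_range_of_mem_closure [Subsingleton ↥(𝟙_ (Over T)).left]
    (u : H ⟶ G) [IsMonHom u] (hu : IsLocallyClosed (Set.range u.left))
    [UniversallyOpen H.hom]
    (x : 𝟙_ (Over T) ⟶ G) (pt : ↥(𝟙_ (Over T)).left)
    (hx : x.left pt ∈ closure (Set.range u.left)) :
    x.left pt ∈ Set.range u.left := by
  set U := Set.range u.left with hU
  set Z := closure U with hZ
  -- the unit point lies in `U`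
  have he : η[G].left pt ∈ U := by
    refine ⟨η[H].left pt, ?_⟩
    rw [← Scheme.Hom.comp_apply, ← Over.comp_left, IsMonHom.one_hom]
  -- inversion preserves `U`, hence `Z`
  have hinvU : ι[G].left '' U ⊆ U := by
    rintro _ ⟨_, ⟨h, rfl⟩, rfl⟩
    refine ⟨ι[H].left h, ?_⟩
    rw [← Scheme.Hom.comp_apply, ← Over.comp_left, GrpObj.inv_hom, Over.comp_left,
      Scheme.Hom.comp_apply]
  have hxinv : (x ≫ ι[G]).left pt ∈ Z := by
    rw [Over.comp_left, Scheme.Hom.comp_apply]
    exact closure_mono hinvU
      (image_closure_subset_closure_image ι[G].left.continuous ⟨_, hx, rfl⟩)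
  -- key claim: translation by `x` maps `U` into `Z`
  have key : ∀ h : H.left, (translHom x).left (u.left h) ∈ Z := by
    let m' : G ⊗ H ⟶ G := (G ◁ u) ≫ μ[G]
    have hfst : (fst G H).left = pullback.fst G.hom H.hom := rfl
    have hopen : IsOpenMap (fst G H).left := by
      rw [hfst]
      exact (pullback.fst G.hom H.hom).isOpenMap
    have hD : (fst G H).left ⁻¹' U ⊆ m'.left ⁻¹' Z := by
      rintro w ⟨h', hh'⟩
      have sq : IsPullback (u ▷ H).left (fst H H).left (fst G H).left u.left :=
        (isPullback_whiskerRight_fst H u).map (Over.forget _)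
      obtain ⟨w', hw'1', hw'2⟩ := exists_preimage_of_isPullback sq w h' hh'.symm
      show m'.left w ∈ Z
      have hcomp : (u ▷ H) ≫ m' = μ[H] ≫ u := by
        simp only [m']
        rw [← Category.assoc, ← MonoidalCategory.tensorHom_def, IsMonHom.mul_hom]
      rw [← hw'1', ← Scheme.Hom.comp_apply, ← Over.comp_left, hcomp, Over.comp_left,
        Scheme.Hom.comp_apply]
      exact subset_closure ⟨_, rfl⟩
    have hcl : (fst G H).left ⁻¹' Z ⊆ m'.left ⁻¹' Z := by
      have h1 : IsClosed (m'.left ⁻¹' Z) := isClosed_closure.preimage m'.left.continuous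
      have h2 : closure ((fst G H).left ⁻¹' U) ⊆ m'.left ⁻¹' Z :=
        (h1.closure_subset_iff).mpr hD
      rwa [← hopen.preimage_closure_eq_closure_preimage (fst G H).left.continuous U] at h2
    intro h
    let s : H ⟶ G ⊗ H := lift (toUnit H ≫ x) (𝟙 H)
    have hs1 : (fst G H).left (s.left h) ∈ Z := by
      rw [← Scheme.Hom.comp_apply, ← Over.comp_left, lift_fst, Over.comp_left,
        Scheme.Hom.comp_apply, Subsingleton.elim ((toUnit H).left h) pt]
      exact hx
    have hs2 : m'.left (s.left h) ∈ Z := hcl hs1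
    have hsm : s ≫ m' = u ≫ translHom x := by
      rw [comp_translHom, Hom.mul_def]
      simp only [s, m']
      rw [← Category.assoc, lift_whiskerLeft, Category.id_comp]
    rw [← Scheme.Hom.comp_apply, ← Over.comp_left, hsm, Over.comp_left,
      Scheme.Hom.comp_apply] at hs2
    exact hs2
  -- find `w ∈ U` with `τ w ∈ U`
  have hO : IsOpen (coborder U) := hu.isOpen_coborder
  have hUeq : coborder U ∩ Z = U := coborder_inter_closure
  have hτe : (translHom x).left ((x ≫ ι[G]).left pt) = η[G].left pt := by
    rw [← Scheme.Hom.comp_apply, ← Over.comp_left, comp_translHom]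
    have h1 : toUnit (𝟙_ (Over T)) = 𝟙 _ := toUnit_unique _ _
    have h2 : (toUnit (𝟙_ (Over T)) ≫ x) * (x ≫ ι[G]) = η[G] := by
      rw [h1, Category.id_comp, ← Hom.inv_def, mul_inv_cancel, Hom.one_def, h1, Category.id_comp]
    rw [h2]
  have hnb : (translHom x).left ⁻¹' (coborder U) ∈ nhds ((x ≫ ι[G]).left pt) := by
    refine (hO.preimage (translHom x).left.continuous).mem_nhds ?_
    show (translHom x).left ((x ≫ ι[G]).left pt) ∈ coborder U
    rw [hτe]
    exact subset_coborder he
  obtain ⟨w, hw1, hw2⟩ := mem_closure_iff_nhds.mp hxinv _ hnb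
  obtain ⟨h₂, rfl⟩ := hw2
  have hτw : (translHom x).left (u.left h₂) ∈ U := by
    rw [← hUeq]
    exact ⟨hw1, key h₂⟩
  obtain ⟨h₁, hh₁⟩ := hτw
  -- the pullback argument
  have hcond : u.left h₁ = (u ≫ translHom x).left h₂ := by
    rw [Over.comp_left, Scheme.Hom.comp_apply]; exact hh₁
  obtain ⟨q, hq1, hq2⟩ := Scheme.Pullback.exists_preimage_pullback h₁ h₂ hcond
  let P : Over T := Over.mk (pullback.fst u.left (u ≫ translHom x).left ≫ H.hom)
  let a₁ : P ⟶ H := Over.homMk (pullback.fst u.left (u ≫ translHom x).left) rfl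
  let a₂ : P ⟶ H := Over.homMk (pullback.snd u.left (u ≫ translHom x).left) (by
    show pullback.snd u.left (u ≫ translHom x).left ≫ H.hom = _ ≫ H.hom
    have h1 : (u ≫ translHom x).left ≫ G.hom = H.hom := Over.w (u ≫ translHom x)
    have h2 : u.left ≫ G.hom = H.hom := Over.w u
    calc pullback.snd u.left (u ≫ translHom x).left ≫ H.hom
        = pullback.snd u.left (u ≫ translHom x).left ≫ (u ≫ translHom x).left ≫ G.hom := by
          rw [h1]
      _ = pullback.fst u.left (u ≫ translHom x).left ≫ u.left ≫ G.hom := by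
          rw [← Category.assoc, ← pullback.condition, Category.assoc]
      _ = pullback.fst u.left (u ≫ translHom x).left ≫ H.hom := by rw [h2])
  have ha : a₁ ≫ u = a₂ ≫ u ≫ translHom x := by
    ext
    exact pullback.condition
  have hx' : toUnit P ≫ x = (a₁ * a₂⁻¹) ≫ u := by
    have ha' : a₁ ≫ u = (toUnit P ≫ x) * (a₂ ≫ u) := by
      rw [ha, ← Category.assoc, comp_translHom]
    rw [MonObj.mul_comp, GrpObj.inv_comp, ha', mul_inv_cancel_right]
  have : x.left pt = u.left ((a₁ * a₂⁻¹).left q) := by
    rw [← Scheme.Hom.comp_apply, ← Over.comp_left, ← hx', Over.comp_left, Scheme.Hom.comp_apply,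
      Subsingleton.elim ((toUnit P).left q) pt]
  exact ⟨_, this.symm⟩

end Scheme

end Groth.Agent.Lib.Helper23.ImmClosed
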