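import Mathlib
import Groth.Agent.Lib.Helper23.HomFlat
import Groth.Agent.S3024

/-!
# Quasi-finite flat homomorphisms of group schemes over a field are finite (helper23)
-/

set_option autoImplicit false
set_option linter.unusedSectionVars false
set_option linter.style.haveILetI false

namespace Groth.Agent.Lib.Helper23.IsogenyFibre

universe u
open CategoryTheory MonoidalCategory CartesianMonoidalCategory MonObj AlgebraicGeometry Limits
open Groth.Agent.Lib.Helper23.HomFlat

/-- Over a locally artinian base, a flat, surjective, quasi-compact, separated, locally quasi-finite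
homomorphism of group schemes is finite: its kernel is finite and it is a torsor under it. -/
theorem isFinite_of_locallyQuasiFinite {B : Scheme.{u}} [IsLocallyArtinian B] {G H : Over B}
    [GrpObj G] [GrpObj H] (φ : G ⟶ H) [IsMonHom φ] [Flat φ.left] [LocallyQuasiFinite φ.left]
    [QuasiCompact φ.left] [Surjective φ.left] [IsSeparated φ.left] [LocallyOfFiniteType φ.left] :
    IsFinite φ.left := by
  let N : Over B := pullback φ η[H]
  let i : N ⟶ G := pullback.fst φ η[H]
  let t : N ⟶ 𝟙_ (Over B) := pullback.snd φ η[H]
  have ht : toUnit N = t := toUnit_unique _ _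
  have hN : AlgGrp.IsKernel i φ := by
    show IsPullback i (toUnit N) φ η[H]
    rw [ht]
    exact IsPullback.of_hasPullback φ η[H]
  have sq : IsPullback (fst G N).left ((G ◁ i) ≫ μ[G]).left φ.left φ.left :=
    (isPullback_of_isKernel φ i hN).map (Over.forget B)
  have sqN : IsPullback i.left t.left φ.left η[H].left :=
    (IsPullback.of_hasPullback φ η[H]).map (Over.forget B)
  haveI : LocallyQuasiFinite t.left :=
    MorphismProperty.of_isPullback (P := @LocallyQuasiFinite) sqN inferInstance
  haveI : QuasiCompact t.left :=
    MorphismProperty.of_isPullback (P := @QuasiCompact) sqN inferInstance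
  haveI : IsLocallyArtinian (𝟙_ (Over B)).left := ‹IsLocallyArtinian B›
  haveI : IsFinite t.left := IsFinite.of_locallyQuasiFinite t.left
  have hNhom : N.hom = t.left := by
    have := Over.w t
    simpa using this.symm
  haveI : IsFinite N.hom := hNhom ▸ inferInstance
  haveI : IsFinite (fst G N).left := inferInstanceAs (IsFinite (pullback.fst G.hom N.hom))
  have huc : UniversallyClosed φ.left :=
    MorphismProperty.of_isPullback_of_descendsAlong (P := @UniversallyClosed)
      (Q := @Surjective ⊓ @Flat ⊓ @QuasiCompact) sq
      ⟨⟨inferInstance, inferInstance⟩, inferInstance⟩ inferInstance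
  haveI : IsProper φ.left := { }
  exact IsFinite.of_isProper_of_locallyQuasiFinite φ.left

/-- Over a field, a flat, locally finitely presented, quasi-compact homomorphism of group schemes
with connected target is surjective: its image is open and closed. -/
theorem surjective_of_flat_of_connected (k : Type u) [Field k]
    {G H : Over (Spec (CommRingCat.of k))} [GrpObj G] [GrpObj H] (φ : G ⟶ H) [IsMonHom φ]
    [Flat φ.left] [LocallyOfFinitePresentation φ.left] [QuasiCompact φ.left]
    [ConnectedSpace H.left] : Surjective φ.left := by
  obtain ⟨H', _, i, f', hi, hf', hfac, hci, -, -, hsurj⟩ := Groth.Agent.S3024.result k G H φ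
  have hfacl : f'.left ≫ i.left = φ.left := congrArg (fun t => t.left) hfac
  have hrange : Set.range φ.left = Set.range i.left := by
    rw [← hfacl]
    ext x
    constructor
    · rintro ⟨y, rfl⟩
      exact ⟨f'.left y, rfl⟩
    · rintro ⟨y, rfl⟩
      obtain ⟨z, rfl⟩ := f'.left.surjective y
      exact ⟨z, rfl⟩
  have hclosed : IsClosed (Set.range φ.left) := by
    rw [hrange]
    exact i.left.isClosedEmbedding.isClosed_range
  have hopen : IsOpen (Set.range φ.left) := φ.left.isOpenMap.isOpen_range
  have hne : (Set.range φ.left).Nonempty :=
    ⟨_, ⟨η[G].left (IsLocalRing.closedPoint k), rfl⟩⟩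
  have huniv : Set.range φ.left = Set.univ := IsClopen.eq_univ ⟨hclosed, hopen⟩ hne
  exact ⟨fun x => by
    have : x ∈ Set.range φ.left := huniv ▸ Set.mem_univ x
    exact this⟩

end Groth.Agent.Lib.Helper23.IsogenyFibre
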