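import Mathlib
import Groth.Agent.Lib.Helper23.IsogenyFibre
import Groth.Agent.Lib.Helper23.FibreHomFlat2
import Groth.Agent.Lib.Helper24.LfpOfComp
import Groth.Agent.Lib.Helper69.ReducedSmoothLocal

/-!
# Isogenies of smooth group schemes with connected fibres, fibrewise (helper23)
-/

set_option autoImplicit false
set_option linter.unusedSectionVars false
set_option linter.style.haveILetI false

namespace Groth.Agent.Lib.Helper23.IsogenyFibre

universe u
open CategoryTheory MonoidalCategory CartesianMonoidalCategory MonObj AlgebraicGeometry Limits
open Groth.Agent.Lib.Helper23.FibreHomFlat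

/-- A smooth morphism has geometrically reduced fibres. -/
theorem geometricallyReduced_of_smooth {X Y : Scheme.{u}} (f : X ⟶ Y) [Smooth f] :
    GeometricallyReduced f := by
  refine ⟨fun K _ y Z fst snd h => ?_⟩
  haveI : Smooth snd := MorphismProperty.of_isPullback (P := @Smooth) h inferInstance
  exact Groth.Agent.Lib.Helper69.ReducedSmoothLocal.isReduced_of_smooth snd

variable {S : Scheme.{u}} {G H : Over S} [GrpObj G] [GrpObj H] (f : G ⟶ H) [IsMonHom f]

/-- The morphism of fibres, in the two presentations. -/
theorem snd_fiberι_iff (P : MorphismProperty Scheme.{u}) [P.RespectsIso] (s : S) :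
    P (pullback.snd f.left (H.hom.fiberι s)) ↔
      P ((Over.pullback (S.fromSpecResidueField s)).map f).left := by
  have sq := isPullback_bc_map (S.fromSpecResidueField s) f
  have h : sq.isoPullback.hom ≫ pullback.snd f.left (pullback.fst H.hom (S.fromSpecResidueField s)) =
      ((Over.pullback (S.fromSpecResidueField s)).map f).left := sq.isoPullback_hom_snd
  rw [← h]
  exact (MorphismProperty.cancel_left_of_respectsIso P sq.isoPullback.hom _).symm

/-- A flat, locally quasi-finite, locally finitely presented homomorphism between separated
quasi-compact group schemes, the target with connected fibres, is finite and surjective on every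
fibre. -/
theorem fibre_isFinite_and_surjective [IsSeparated G.hom] [QuasiCompact G.hom]
    [IsSeparated H.hom] [GeometricallyConnected H.hom]
    [Flat f.left] [LocallyQuasiFinite f.left] [LocallyOfFinitePresentation f.left] (s : S) :
    IsFinite ((Over.pullback (S.fromSpecResidueField s)).map f).left ∧
      Surjective ((Over.pullback (S.fromSpecResidueField s)).map f).left := by
  let φ := S.fromSpecResidueField s
  let Gs : Over (Spec (S.residueField s)) := Red.bc φ G
  let Hs : Over (Spec (S.residueField s)) := Red.bc φ H
  let fs : Gs ⟶ Hs := (Over.pullback φ).map f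
  have sq := isPullback_bc_map φ f
  haveI : IsMonHom fs := inferInstance
  haveI : Flat fs.left := MorphismProperty.of_isPullback (P := @Flat) sq inferInstance
  haveI : LocallyQuasiFinite fs.left :=
    MorphismProperty.of_isPullback (P := @LocallyQuasiFinite) sq inferInstance
  haveI : LocallyOfFinitePresentation fs.left :=
    MorphismProperty.of_isPullback (P := @LocallyOfFinitePresentation) sq inferInstance
  haveI : LocallyOfFiniteType fs.left := inferInstance
  have hw : fs.left ≫ Hs.hom = Gs.hom := Over.w fs
  haveI : IsSeparated Gs.hom := inferInstanceAs (IsSeparated (pullback.snd G.hom φ))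
  haveI : QuasiCompact Gs.hom := inferInstanceAs (QuasiCompact (pullback.snd G.hom φ))
  haveI : IsSeparated Hs.hom := inferInstanceAs (IsSeparated (pullback.snd H.hom φ))
  haveI : IsSeparated (fs.left ≫ Hs.hom) := by rw [hw]; infer_instance
  haveI : QuasiCompact (fs.left ≫ Hs.hom) := by rw [hw]; infer_instance
  haveI : IsSeparated fs.left := IsSeparated.of_comp fs.left Hs.hom
  haveI : QuasiCompact fs.left := QuasiCompact.of_comp fs.left Hs.hom
  haveI : ConnectedSpace Hs.left := inferInstanceAs (ConnectedSpace (H.hom.fiber s))
  haveI : Surjective fs.left :=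
    surjective_of_flat_of_connected (S.residueField s) (G := Gs) (H := Hs) fs
  exact ⟨isFinite_of_locallyQuasiFinite fs, inferInstance⟩

end Groth.Agent.Lib.Helper23.IsogenyFibre
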