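import Mathlib
import Groth.Prelude.Def_AutSch
import Groth.Agent.S2277
import Groth.Agent.Lib.Helper79.NeutralQC
import Groth.Agent.Lib.Helper23.FibreHomFlat
import Groth.Agent.Lib.Helper23.GrpDominant
import Groth.Agent.S1386

/-!
# Neutral components and flat homomorphisms (helper23)

* the neutral component of a group scheme over a field is stable under multiplication (on points
  of `G ×ₖ G`);
* a homomorphism over a field which is an open map sends the neutral component onto the neutral
  component (source locally of finite type);
* a homomorphism over a field to a reduced group scheme whose image contains the neutral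
  component is flat.
-/

set_option autoImplicit false
set_option linter.unusedSectionVars false
set_option linter.style.haveILetI false
set_option linter.unusedSimpArgs false

namespace Groth.Agent.Lib.Helper23.NeutralFlat

universe u
open CategoryTheory MonoidalCategory CartesianMonoidalCategory MonObj AlgebraicGeometry Limits
open Groth.Agent.Lib.Helper23.GrpDominant Groth.Agent.Lib.Helper23.HomFlat
  Groth.Agent.Lib.Helper23.FlatHomog

/-- Connected components of a locally noetherian scheme are open. -/
theorem isOpen_connectedComponent (X : Scheme.{u}) [IsLocallyNoetherian X] (x : X) :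
    IsOpen (connectedComponent x) := by
  haveI : LocallyConnectedSpace X := by
    apply Groth.Agent.S2277.result
    intro y
    obtain ⟨W, hW, hyW, -⟩ := exists_isAffineOpen_mem_and_subset (U := ⊤) (x := y) (by simp)
    refine ⟨(W : Set X), W.isOpen.mem_nhds hyW, ?_⟩
    haveI : IsNoetherianRing Γ(X, W) := IsLocallyNoetherian.component_noetherian ⟨W, hW⟩
    exact noetherianSpace_of_isAffineOpen W hW
  exact _root_.isOpen_connectedComponent

section Field

variable {k : Type u} [Field k]

instance : Subsingleton ↥(Spec (CommRingCat.of k)) :=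
  inferInstanceAs (Subsingleton (PrimeSpectrum k))

variable {G H : Over (Spec (CommRingCat.of k))} [GrpObj G] [GrpObj H]

theorem unitPt_mem_neutralSet (G : Over (Spec (CommRingCat.of k))) [GrpObj G] :
    AutSch.unitPt G ∈ SGA3x.neutralSet G := by
  rw [AutSch.neutralSet_eq_connectedComponent]
  exact mem_connectedComponent

theorem unit_apply (G : Over (Spec (CommRingCat.of k))) [GrpObj G]
    (s : ↥(Spec (CommRingCat.of k))) : η[G].left s = AutSch.unitPt G := by
  rw [Subsingleton.elim s (IsLocalRing.closedPoint k)]
  rfl

/-- The neutral component is stable under multiplication. -/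
theorem mul_mem_neutralSet (G : Over (Spec (CommRingCat.of k))) [GrpObj G]
    (w : ↥(G ⊗ G).left) (h1 : (fst G G).left w ∈ SGA3x.neutralSet G)
    (h2 : (snd G G).left w ∈ SGA3x.neutralSet G) : μ[G].left w ∈ SGA3x.neutralSet G := by
  rw [AutSch.neutralSet_eq_connectedComponent] at h1 h2 ⊢
  set e := AutSch.unitPt G with he
  set b := (snd G G).left w with hb
  have key := Groth.Agent.Lib.Helper79.NeutralBC.isPreconnected_inter G.hom G b
  have hcc : connectedComponentIn (G.hom ⁻¹' {G.hom b}) (η[G].left (G.hom b)) =
      connectedComponent e := by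
    have h0 : (G.hom ⁻¹' {G.hom b} : Set G.left) = Set.univ := by
      ext y
      simp only [Set.mem_preimage, Set.mem_singleton_iff, Set.mem_univ, iff_true]
      exact Subsingleton.elim _ _
    rw [h0, connectedComponentIn_univ, unit_apply]
  rw [hcc] at key
  let pL : G ⟶ G ⊗ G := lift (toUnit G ≫ η[G]) (𝟙 G)
  have hpL1 : (fst G G).left (pL.left b) = e := by
    have h : pL ≫ fst G G = toUnit G ≫ η[G] := lift_fst _ _
    have h' := congrArg (fun t => t.left b) h
    exact h'.trans (unit_apply G _)
  have hpL2 : (snd G G).left (pL.left b) = b := by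
    have h : pL ≫ snd G G = 𝟙 G := lift_snd _ _
    exact congrArg (fun t => t.left b) h
  have hpL3 : μ[G].left (pL.left b) = b := by
    have h : pL ≫ μ[G] = 𝟙 G := by
      show lift (toUnit G ≫ η[G]) (𝟙 G) ≫ μ[G] = 𝟙 G
      simp
    exact congrArg (fun t => t.left b) h
  have himg := key.image μ[G].left μ[G].left.continuous.continuousOn
  have hsub := himg.subset_connectedComponent (x := b)
    ⟨pL.left b, ⟨by
      show (fst G G).left (pL.left b) ∈ connectedComponent e
      rw [hpL1]; exact mem_connectedComponent, hpL2⟩, hpL3⟩
  have hbe : connectedComponent b = connectedComponent e := connectedComponent_eq h2 |>.symm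
  rw [← hbe]
  exact hsub ⟨w, ⟨h1, rfl⟩, rfl⟩

/-- A homomorphism over a field which is an open map sends the neutral component onto the neutral
component. -/
theorem neutralSet_subset_image [LocallyOfFiniteType G.hom] (f : G ⟶ H) [IsMonHom f]
    (hopen : IsOpenMap f.left) : SGA3x.neutralSet H ⊆ f.left '' SGA3x.neutralSet G := by
  haveI : IsLocallyNoetherian G.left := LocallyOfFiniteType.isLocallyNoetherian G.hom
  have hCopen : IsOpen (SGA3x.neutralSet G) := by
    rw [AutSch.neutralSet_eq_connectedComponent]
    exact isOpen_connectedComponent G.left _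
  let V : H.left.Opens := ⟨f.left '' SGA3x.neutralSet G, hopen _ hCopen⟩
  have hV : ∀ s, η[H].left s ∈ V := by
    intro s
    refine ⟨η[G].left s, ?_, ?_⟩
    · rw [unit_apply]; exact unitPt_mem_neutralSet G
    · have h : η[G] ≫ f = η[H] := IsMonHom.one_hom f
      exact congrArg (fun t => t.left s) h
  intro y hy
  obtain ⟨z, ⟨a, ha, haz⟩, ⟨b, hb, hbz⟩, hz3⟩ :=
    Groth.Agent.Lib.Helper79.NeutralQC.exists_mul_eq H V hV y hy
  have sq1 : IsPullback (H ◁ f).left (snd H G).left (snd H H).left f.left :=
    (isPullback_whiskerLeft_snd H f).map (Over.forget _)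
  obtain ⟨w1, hw1a, hw1b⟩ := exists_preimage_of_isPullback sq1 z b hbz.symm
  have sq2 : IsPullback (f ▷ G).left (fst G G).left (fst H G).left f.left :=
    (isPullback_whiskerRight_fst G f).map (Over.forget _)
  have hfst1 : (fst H G).left w1 = f.left a := by
    have h : (H ◁ f) ≫ fst H H = fst H G := whiskerLeft_fst _ _
    have h' := congrArg (fun t => t.left w1) h
    have h'' : (fst H H).left ((H ◁ f).left w1) = (fst H G).left w1 := h'
    rw [← h'', hw1a, haz]
  obtain ⟨w, hwa, hwb⟩ := exists_preimage_of_isPullback sq2 w1 a hfst1
  have hsndw : (snd G G).left w = b := by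
    have h : (f ▷ G) ≫ snd H G = snd G G := whiskerRight_snd _ _
    have h' : (snd H G).left ((f ▷ G).left w) = (snd G G).left w := congrArg (fun t => t.left w) h
    rw [← h', hwa, hw1b]
  refine ⟨μ[G].left w, mul_mem_neutralSet G w (hwb ▸ ha) (hsndw ▸ hb), ?_⟩
  have h : μ[G] ≫ f = (f ▷ G) ≫ (H ◁ f) ≫ μ[H] := by
    rw [IsMonHom.mul_hom, MonoidalCategory.tensorHom_def, Category.assoc]
  have h' : f.left (μ[G].left w) = μ[H].left ((H ◁ f).left ((f ▷ G).left w)) :=
    congrArg (fun t => t.left w) h
  rw [h', hwa, hw1a, hz3]

/-- A homomorphism over a field to a reduced group scheme whose image contains the neutral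
component is flat. -/
theorem flat_of_neutralSet_subset_range [Flat G.hom] [IsReduced H.left] (f : G ⟶ H) [IsMonHom f]
    (h : SGA3x.neutralSet H ⊆ Set.range f.left) : Flat f.left := by
  rw [AutSch.neutralSet_eq_connectedComponent] at h
  set e := AutSch.unitPt H with he
  have hirr : IsIrreducible (connectedComponent e) :=
    (Groth.Agent.Lib.Helper62.GrpComp.main (k := k) H).1
  have hcl : IsClosed (connectedComponent e) := isClosed_connectedComponent
  let ξ : H.left := hirr.genericPoint
  have hξcl : closure {ξ} = connectedComponent e := hirr.closure_genericPoint hcl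
  have hξ : closure {ξ} ∈ irreducibleComponents ↥H.left := by
    rw [hξcl]
    refine ⟨hirr, ?_⟩
    intro T hT hCT
    exact hT.isConnected.isPreconnected.subset_connectedComponent (hCT mem_connectedComponent)
  have hξmem : ξ ∈ connectedComponent e := by
    rw [← hξcl]; exact subset_closure rfl
  obtain ⟨x, hx⟩ := h hξmem
  refine flat_of_flatAt (homAction f) f (homAction_equivariant f) ⟨x, ?_⟩
  have hfld : IsField (H.left.presheaf.stalk (f.left x)) := by
    rw [hx]
    exact isField_stalk_of_closure_mem_irreducibleComponents _ ξ hξ
  letI := hfld.toField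
  algebraize [(f.left.stalkMap x).hom]
  show Module.Flat _ _
  infer_instance

end Field

section Base

/-- The morphism between the fibres over `s` is flat as soon as the base change of `f` to
`Spec κ(s)` is. -/
theorem flat_fiberMap_of_flat {S : Scheme.{u}} {G H : Over S} (f : G ⟶ H) (s : S)
    (hflat : Flat ((Over.pullback (S.fromSpecResidueField s)).map f).left) :
    Flat (MoreMor.fiberMap f.left H.hom s) := by
  let φ := S.fromSpecResidueField s
  let fs : (Over.pullback φ).obj G ⟶ (Over.pullback φ).obj H := (Over.pullback φ).map f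
  have hw : f.left ≫ H.hom = G.hom := Over.w f
  have hfsl : fs.left = pullback.lift (pullback.fst G.hom φ ≫ f.left) (pullback.snd G.hom φ)
      (by rw [Category.assoc, hw, pullback.condition]) := by
    apply pullback.hom_ext <;> simp [fs]
  let e : pullback (f.left ≫ H.hom) φ ≅ pullback G.hom φ := pullback.congrHom hw rfl
  have he1 : e.hom ≫ pullback.fst G.hom φ = pullback.fst (f.left ≫ H.hom) φ := by
    simp only [e, pullback.congrHom_hom, pullback.map]
    rw [pullback.lift_fst, Category.comp_id]
  have he2 : e.hom ≫ pullback.snd G.hom φ = pullback.snd (f.left ≫ H.hom) φ := by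
    simp only [e, pullback.congrHom_hom, pullback.map]
    rw [pullback.lift_snd, Category.comp_id]
  have he : MoreMor.fiberMap f.left H.hom s = e.hom ≫ fs.left := by
    rw [hfsl]
    apply pullback.hom_ext
    · have h1 : MoreMor.fiberMap f.left H.hom s ≫ pullback.fst H.hom φ =
          pullback.fst (f.left ≫ H.hom) φ ≫ f.left := pullback.lift_fst _ _ _
      have h2 : (e.hom ≫ pullback.lift (pullback.fst G.hom φ ≫ f.left) (pullback.snd G.hom φ)
          (by rw [Category.assoc, hw, pullback.condition])) ≫ pullback.fst H.hom φ =
          pullback.fst (f.left ≫ H.hom) φ ≫ f.left := by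
        rw [Category.assoc, pullback.lift_fst, ← Category.assoc, he1]
      exact h1.trans h2.symm
    · have h1 : MoreMor.fiberMap f.left H.hom s ≫ pullback.snd H.hom φ =
          pullback.snd (f.left ≫ H.hom) φ := pullback.lift_snd _ _ _
      have h2 : (e.hom ≫ pullback.lift (pullback.fst G.hom φ ≫ f.left) (pullback.snd G.hom φ)
          (by rw [Category.assoc, hw, pullback.condition])) ≫ pullback.snd H.hom φ =
          pullback.snd (f.left ≫ H.hom) φ := by
        rw [Category.assoc, pullback.lift_snd, he2]
      exact h1.trans h2.symm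
  rw [he]
  haveI : Flat e.hom := inferInstance
  exact MorphismProperty.comp_mem _ _ _ ‹Flat e.hom› hflat

end Base

section Base2

variable {S : Scheme.{u}} {G H : Over S} [GrpObj G] [GrpObj H]

/-- A homomorphism maps the neutral set into the neutral set. -/
theorem image_neutralSet_subset (u : G ⟶ H) [IsMonHom u] :
    u.left.base '' SGA3x.neutralSet G ⊆ SGA3x.neutralSet H := by
  have hw : u.left ≫ H.hom = G.hom := Over.w u
  rintro _ ⟨x, hx, rfl⟩
  simp only [SGA3x.neutralSet, Set.mem_iUnion] at hx ⊢
  obtain ⟨p, hp⟩ := hx
  refine ⟨p, ?_⟩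
  set s : S := (𝟙_ (Over S)).hom.base p with hs
  set FG : Set G.left := G.hom.base ⁻¹' {s} with hFG
  set FH : Set H.left := H.hom.base ⁻¹' {s} with hFH
  set eG : G.left := η[G].left.base p with heG
  set eH : H.left := η[H].left.base p with heH
  have hie : u.left.base eG = eH := by
    have h1 : η[G] ≫ u = η[H] := IsMonHom.one_hom u
    exact congrArg (fun t => t.left.base p) h1
  have heGF : eG ∈ FG := by
    have h1 : η[G].left ≫ G.hom = (𝟙_ (Over S)).hom := Over.w η[G]
    exact congrArg (fun t => t.base p) h1
  have h1 := (u.left.continuous.continuousOn (s := FG)).image_connectedComponentIn_subset heGF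
  have h2 : u.left.base '' FG ⊆ FH := by
    rintro _ ⟨z, hz, rfl⟩
    have h3 : H.hom.base (u.left.base z) = G.hom.base z := congrArg (fun t => t.base z) hw
    simp only [hFH, Set.mem_preimage, Set.mem_singleton_iff, h3]
    exact hz
  have h4 := h1 ⟨x, hp, rfl⟩
  rw [hie] at h4
  exact connectedComponentIn_mono _ h2 h4

/-- Let `u : G ⟶ H` be a homomorphism of `S`-group schemes with `G` flat and locally of finite
presentation over `S`, `H` locally of finite type over `S` with reduced fibres, such that the
image of `u` contains the neutral components of the fibres of `H`. Then `u` is flat. -/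
theorem flat_of_neutralSet_subset_range_base [LocallyOfFinitePresentation G.hom]
    [LocallyOfFiniteType H.hom] [Flat G.hom] (hred : ∀ s : S, IsReduced (H.hom.fiber s))
    (u : G ⟶ H) [IsMonHom u] (himg : SGA3x.neutralSet H ⊆ Set.range u.left.base) :
    Flat u.left := by
  have hw : u.left ≫ H.hom = G.hom := Over.w u
  haveI : LocallyOfFinitePresentation (u.left ≫ H.hom) := by rw [hw]; infer_instance
  haveI : Flat (u.left ≫ H.hom) := by rw [hw]; infer_instance
  have key := (Groth.Agent.S1386.result u.left H.hom).1
  rw [Flat.iff_flat_stalkMap]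
  intro x
  refine ((key x).1 ⟨Flat.stalkMap _ x, ?_⟩).2
  haveI : Flat (MoreMor.fiberMap u.left H.hom (H.hom (u.left x))) := by
    apply flat_fiberMap_of_flat
    set s := H.hom (u.left x) with hs
    let φ := S.fromSpecResidueField s
    let Gs : Over (Spec (S.residueField s)) := Red.bc φ G
    let Hs : Over (Spec (S.residueField s)) := Red.bc φ H
    let us : Gs ⟶ Hs := (Over.pullback φ).map u
    haveI : IsMonHom us := inferInstance
    have sq := Groth.Agent.Lib.Helper23.FibreHomFlat.isPullback_bc_map φ u
    haveI : Flat Gs.hom := inferInstanceAs (Flat (pullback.snd G.hom φ))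
    haveI : IsReduced Hs.left := hred s
    show Flat us.left
    apply flat_of_neutralSet_subset_range (k := S.residueField s) us
    intro y' hy'
    rw [Groth.Agent.Lib.Helper79.NeutralBC.neutralSet_bc φ H] at hy'
    have hy'' : (pullback.fst H.hom φ) y' ∈ SGA3x.neutralSet H := hy'
    obtain ⟨x0, hx0⟩ := himg hy''
    obtain ⟨w, -, hw2⟩ := exists_preimage_of_isPullback sq x0 y' hx0
    exact ⟨w, hw2⟩
  exact Flat.stalkMap _ _

end Base2

end Groth.Agent.Lib.Helper23.NeutralFlat
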