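import Mathlib
import Groth.Agent.Lib.Helper23.NeutralFlat
import Groth.Agent.S5341

/-!
# Dimension of the neutral component (helper23)
-/

set_option autoImplicit false
set_option linter.unusedSectionVars false
set_option linter.style.haveILetI false
set_option linter.unusedSimpArgs false

namespace Groth.Agent.Lib.Helper23.NeutralDim

universe u
open CategoryTheory MonoidalCategory CartesianMonoidalCategory MonObj AlgebraicGeometry Limits
open TopologicalSpace Topology Order

/-- A proper closed subset of an irreducible set of finite dimension has smaller dimension. -/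
theorem dim_lt_of_ssubset {X : Type*} [TopologicalSpace X] {Z T : Set X} (hZc : IsClosed Z)
    (hT : IsIrreducible T) (hZT : Z ⊆ T) (hne : Z ≠ T) (n : ℕ)
    (hn : topologicalKrullDim ↥T = n) : topologicalKrullDim ↥Z < n := by
  by_contra h
  rw [not_lt] at h
  obtain ⟨p, hp⟩ := (Order.le_krullDim_iff (α := IrreducibleCloseds ↥Z)).mp h
  let f : ↥Z → ↥T := Set.inclusion hZT
  have hf : IsInducing f := (Topology.IsEmbedding.inclusion hZT).isInducing
  let q : LTSeries (IrreducibleCloseds ↥T) :=
    p.map (IrreducibleCloseds.map f hf.continuous) (IrreducibleCloseds.map_strictMono_of_isInducing hf)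
  have hTirr : IsIrreducible (Set.univ : Set ↥T) := by
    have := (Subtype.preirreducibleSpace hT.isPreirreducible)
    exact ⟨⟨⟨hT.nonempty.some, hT.nonempty.some_mem⟩, trivial⟩, this.isPreirreducible_univ⟩
  let top : IrreducibleCloseds ↥T := ⟨Set.univ, hTirr, isClosed_univ⟩
  have hrange : IsClosed (Set.range f) := by
    rw [Set.range_inclusion]
    exact hZc.preimage continuous_subtype_val
  have hlt : q.last < top := by
    refine lt_of_le_of_ne (fun x _ => trivial) ?_
    intro heq
    have h1 : (q.last : Set ↥T) = Set.univ := congrArg (fun c : IrreducibleCloseds ↥T => (c : Set ↥T)) heq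
    have h2 : (q.last : Set ↥T) ⊆ Set.range f := by
      show closure (f '' (p.last : Set ↥Z)) ⊆ Set.range f
      exact closure_minimal (Set.image_subset_range _ _) hrange
    rw [h1] at h2
    apply hne
    apply Set.Subset.antisymm hZT
    intro t ht
    obtain ⟨z, hz⟩ := h2 (Set.mem_univ (⟨t, ht⟩ : ↥T))
    have : (z : X) = t := congrArg Subtype.val hz
    exact this ▸ z.2
  let r : LTSeries (IrreducibleCloseds ↥T) := q.snoc top hlt
  have hlen := LTSeries.length_le_krullDim r
  have h3 : r.length = n + 1 := by
    simp [r, q, hp]
  rw [h3] at hlen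
  have h4 : topologicalKrullDim ↥T = krullDim (IrreducibleCloseds ↥T) := rfl
  rw [← h4, hn] at hlen
  have : ((n + 1 : ℕ) : WithBot ℕ∞) ≤ (n : WithBot ℕ∞) := hlen
  norm_cast at this
  omega

variable {k : Type u} [Field k] (G : Over (Spec (CommRingCat.of k))) [GrpObj G]

theorem isIrreducible_neutral : IsIrreducible (connectedComponent (AutSch.unitPt G)) :=
  (Groth.Agent.Lib.Helper62.GrpComp.main (k := k) G).1

/-- The neutral component is an irreducible component. -/
theorem neutral_mem_irreducibleComponents :
    connectedComponent (AutSch.unitPt G) ∈ irreducibleComponents ↥G.left := by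
  refine ⟨isIrreducible_neutral G, ?_⟩
  intro T hT hCT
  exact hT.isConnected.isPreconnected.subset_connectedComponent (hCT mem_connectedComponent)

theorem dim_neutral_eq [LocallyOfFiniteType G.hom] :
    topologicalKrullDim ↥(connectedComponent (AutSch.unitPt G)) = topologicalKrullDim ↥G.left :=
  (Groth.Agent.S5341.result k G).1 _ (neutral_mem_irreducibleComponents G)

theorem exists_dim_eq_nat [LocallyOfFiniteType G.hom] :
    ∃ n : ℕ, topologicalKrullDim ↥G.left = n := by
  obtain ⟨n, hn⟩ := Groth.Agent.Lib.Helper21.FieldDim.exists_localDim_eq_nat G.hom (AutSch.unitPt G)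
  refine ⟨n, ?_⟩
  rw [← (Groth.Agent.S5341.result k G).2 (AutSch.unitPt G)]
  exact hn

end Groth.Agent.Lib.Helper23.NeutralDim
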