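import Groth.Agent.Lib.Helper23.GradedInvB
import Groth.Agent.Lib.Helper23.PolyCover

/-!
# Covering a finitely generated comodule algebra over a comodule algebra `B` by a polynomial ring
over `B` with a graded coaction (helper23)
-/

set_option autoImplicit false
universe u v w w'

open TensorProduct Groth.Agent.Lib.Helper75 Groth.Agent.Lib.Helper23.Reynolds
  Groth.Agent.Lib.Helper23.GITAffine Groth.Agent.Lib.Helper23.GradedInv
  Groth.Agent.Lib.Helper23.GradedInvB Groth.Agent.Lib.Helper23.PolyCover

namespace Groth.Agent.Lib.Helper23.PolyCoverB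

section CoactAlgHom

variable {K : Type u} [Field K] {A : Type v} [CommRing A] [Bialgebra K A]
variable {B : Type w} [CommRing B] [Algebra K B] [HopfRep.Comod K A B]
variable (hmul : ∀ f g : B, HopfRep.Comod.coact (k := K) (A := A) (f * g) =
      HopfRep.Comod.coact (k := K) (A := A) f * HopfRep.Comod.coact (k := K) (A := A) g)
  (hone : HopfRep.Comod.coact (k := K) (A := A) (1 : B) = 1)

/-- the coaction as an algebra map -/
noncomputable def coactAlg : B →ₐ[K] B ⊗[K] A :=
  AlgHom.ofLinearMap (HopfRep.Comod.coact (k := K) (A := A)) hone hmul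

@[simp] theorem coactAlg_apply (b : B) :
    coactAlg hmul hone b = HopfRep.Comod.coact (k := K) (A := A) b := rfl

theorem coactAlg_toLinearMap :
    (coactAlg hmul hone).toLinearMap = HopfRep.Comod.coact (k := K) (A := A) := rfl

theorem coactAlg_coassoc :
    (Algebra.TensorProduct.assoc K K K B A A).toAlgHom.comp
      ((Algebra.TensorProduct.map (coactAlg hmul hone) (AlgHom.id K A)).comp
        (coactAlg hmul hone)) =
    (Algebra.TensorProduct.map (AlgHom.id K B) (Bialgebra.comulAlgHom K A)).comp
      (coactAlg hmul hone) := by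
  apply AlgHom.ext
  intro b
  have h := LinearMap.congr_fun (HopfRep.Comod.coassoc (k := K) (A := A) (V := B)) b
  simp only [LinearMap.comp_apply, LinearEquiv.coe_coe] at h
  simp only [AlgHom.coe_comp, Function.comp_apply]
  have e1 : (Algebra.TensorProduct.map (coactAlg hmul hone) (AlgHom.id K A))
      ((coactAlg hmul hone) b) = (LinearMap.rTensor A (HopfRep.Comod.coact (k := K) (A := A)))
        (HopfRep.Comod.coact (k := K) (A := A) b) :=
    (rTensor_eq_map (coactAlg hmul hone) _).symm
  have e2 := assoc_eq (P := B) (A := A) (K := K)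
    ((LinearMap.rTensor A (HopfRep.Comod.coact (k := K) (A := A)))
        (HopfRep.Comod.coact (k := K) (A := A) b))
  have e3 := lTensor_eq_map (P := B) (Bialgebra.comulAlgHom K A)
    (HopfRep.Comod.coact (k := K) (A := A) b)
  change Algebra.TensorProduct.assoc K K K B A A _ = _
  rw [e1, ← e2, h]
  exact e3

theorem coactAlg_counit :
    (Algebra.TensorProduct.map (AlgHom.id K B) (Bialgebra.counitAlgHom K A)).comp
      (coactAlg hmul hone) = Algebra.TensorProduct.includeLeft := by
  apply AlgHom.ext
  intro b
  have h := LinearMap.congr_fun (HopfRep.Comod.counit_comp (k := K) (A := A) (V := B)) b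
  simp only [LinearMap.comp_apply, LinearMap.flip_apply, TensorProduct.mk_apply] at h
  simp only [AlgHom.coe_comp, Function.comp_apply, Algebra.TensorProduct.includeLeft_apply]
  rw [← lTensor_eq_map]
  exact h

end CoactAlgHom

section PolyCoaction

variable {K : Type u} [Field K] {A : Type v} [CommRing A] [Bialgebra K A]
variable {B : Type w} [CommRing B] [Algebra K B]
variable {n : ℕ} (ρB : B →ₐ[K] B ⊗[K] A) (a : Fin n → Fin n → A)

/-- the inclusion of the coefficients, as a `K`-algebra map -/
noncomputable abbrev incl (K : Type u) [Field K] (B : Type w) [CommRing B] [Algebra K B] (n : ℕ) :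
    B →ₐ[K] MvPolynomial (Fin n) B := IsScalarTower.toAlgHom K B (MvPolynomial (Fin n) B)

theorem incl_apply (b : B) : incl K B n b = MvPolynomial.C b := rfl

/-- the algebra map `B[X] → B[X] ⊗ A`, `b ↦ ρ b`, `X i ↦ ∑ j, X j ⊗ a j i` -/
noncomputable def polyCoactB : MvPolynomial (Fin n) B →ₐ[K] MvPolynomial (Fin n) B ⊗[K] A :=
  MvPolynomial.aevalTower
    ((Algebra.TensorProduct.map (incl K B n) (AlgHom.id K A)).comp ρB)
    (fun i => ∑ j, (MvPolynomial.X j : MvPolynomial (Fin n) B) ⊗ₜ[K] a j i)

@[simp] theorem polyCoactB_X (i : Fin n) :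
    polyCoactB ρB a (MvPolynomial.X i) =
      ∑ j, (MvPolynomial.X j : MvPolynomial (Fin n) B) ⊗ₜ[K] a j i := by
  simp [polyCoactB]

@[simp] theorem polyCoactB_C (b : B) :
    polyCoactB ρB a (MvPolynomial.C b) =
      Algebra.TensorProduct.map (incl K B n) (AlgHom.id K A) (ρB b) := by
  simp [polyCoactB]

theorem polyCoactB_incl (b : B) :
    polyCoactB ρB a (incl K B n b) =
      Algebra.TensorProduct.map (incl K B n) (AlgHom.id K A) (ρB b) :=
  polyCoactB_C ρB a b

theorem L1 (y : B ⊗[K] A) :
    Algebra.TensorProduct.map (polyCoactB ρB a) (AlgHom.id K A)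
      (Algebra.TensorProduct.map (incl K B n) (AlgHom.id K A) y) =
    Algebra.TensorProduct.map (Algebra.TensorProduct.map (incl K B n) (AlgHom.id K A))
      (AlgHom.id K A) (Algebra.TensorProduct.map ρB (AlgHom.id K A) y) := by
  induction y using TensorProduct.induction_on with
  | zero => simp
  | tmul b c =>
    simp only [Algebra.TensorProduct.map_tmul, AlgHom.coe_id, id_eq, polyCoactB_incl]
  | add x y hx hy => rw [map_add, map_add, map_add, map_add, hx, hy]

theorem L2 (w : (B ⊗[K] A) ⊗[K] A) :
    (Algebra.TensorProduct.assoc K K K (MvPolynomial (Fin n) B) A A).toAlgHom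
      (Algebra.TensorProduct.map (Algebra.TensorProduct.map (incl K B n) (AlgHom.id K A))
        (AlgHom.id K A) w) =
    Algebra.TensorProduct.map (incl K B n) (AlgHom.id K (A ⊗[K] A))
      ((Algebra.TensorProduct.assoc K K K B A A).toAlgHom w) := by
  induction w using TensorProduct.induction_on with
  | zero => simp
  | tmul y c =>
    induction y using TensorProduct.induction_on with
    | zero => simp
    | tmul b d => simp
    | add y z hy hz => rw [TensorProduct.add_tmul, map_add, map_add, map_add, map_add, hy, hz]
  | add x y hx hy => rw [map_add, map_add, map_add, map_add, hx, hy]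

theorem L3 {D : Type*} [CommRing D] [Algebra K D] (φ : A →ₐ[K] D) (y : B ⊗[K] A) :
    Algebra.TensorProduct.map (AlgHom.id K (MvPolynomial (Fin n) B)) φ
      (Algebra.TensorProduct.map (incl K B n) (AlgHom.id K A) y) =
    Algebra.TensorProduct.map (incl K B n) (AlgHom.id K D)
      (Algebra.TensorProduct.map (AlgHom.id K B) φ y) := by
  induction y using TensorProduct.induction_on with
  | zero => simp
  | tmul b c => simp
  | add x y hx hy => rw [map_add, map_add, map_add, map_add, hx, hy]

variable (hρΔ : (Algebra.TensorProduct.assoc K K K B A A).toAlgHom.comp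
      ((Algebra.TensorProduct.map ρB (AlgHom.id K A)).comp ρB) =
    (Algebra.TensorProduct.map (AlgHom.id K B) (Bialgebra.comulAlgHom K A)).comp ρB)
  (hρε : (Algebra.TensorProduct.map (AlgHom.id K B) (Bialgebra.counitAlgHom K A)).comp ρB =
    Algebra.TensorProduct.includeLeft)
  (hΔ : ∀ j i, CoalgebraStruct.comul (R := K) (a j i) = ∑ l, a j l ⊗ₜ[K] a l i)
  (hε : ∀ j i, CoalgebraStruct.counit (R := K) (a j i) = if j = i then (1 : K) else 0)

include hρΔ hΔ in
theorem polyCoactB_coassoc :
    (Algebra.TensorProduct.assoc K K K (MvPolynomial (Fin n) B) A A).toAlgHom.comp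
      ((Algebra.TensorProduct.map (polyCoactB ρB a) (AlgHom.id K A)).comp (polyCoactB ρB a)) =
    (Algebra.TensorProduct.map (AlgHom.id K (MvPolynomial (Fin n) B))
      (Bialgebra.comulAlgHom K A)).comp (polyCoactB ρB a) := by
  apply MvPolynomial.algHom_ext'
  · apply AlgHom.ext
    intro b
    have h := congrArg (fun φ => φ b) hρΔ
    simp only [AlgHom.coe_comp, Function.comp_apply] at h
    simp only [AlgHom.coe_comp, Function.comp_apply, polyCoactB_incl]
    rw [L1, L2, h, L3]
  · intro i
    simp only [AlgHom.coe_comp, Function.comp_apply, polyCoactB_X, map_sum,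
      Algebra.TensorProduct.map_tmul, AlgHom.coe_id, id_eq,
      Bialgebra.comulAlgHom_apply, hΔ, TensorProduct.sum_tmul, TensorProduct.tmul_sum]
    rw [Finset.sum_comm]
    refine Finset.sum_congr rfl fun y _ => Finset.sum_congr rfl fun x _ => ?_
    rfl

include hρε hε in
theorem polyCoactB_counit :
    (Algebra.TensorProduct.map (AlgHom.id K (MvPolynomial (Fin n) B))
      (Bialgebra.counitAlgHom K A)).comp (polyCoactB ρB a) =
    Algebra.TensorProduct.includeLeft := by
  apply MvPolynomial.algHom_ext'
  · apply AlgHom.ext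
    intro b
    have h := congrArg (fun φ => φ b) hρε
    simp only [AlgHom.coe_comp, Function.comp_apply] at h
    simp only [AlgHom.coe_comp, Function.comp_apply, polyCoactB_incl]
    rw [L3, h]
    simp
  · intro i
    simp only [AlgHom.coe_comp, Function.comp_apply, polyCoactB_X, map_sum,
      Algebra.TensorProduct.map_tmul, AlgHom.coe_id, id_eq, Bialgebra.counitAlgHom_apply, hε,
      Algebra.TensorProduct.includeLeft_apply]
    rw [Finset.sum_eq_single i]
    · simp
    · intro j _ hj
      rw [if_neg hj, TensorProduct.tmul_zero]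
    · intro h; exact absurd (Finset.mem_univ i) h

/-- the comodule structure on the polynomial ring `B[X]` -/
@[reducible] noncomputable def polyComodB : HopfRep.Comod K A (MvPolynomial (Fin n) B) where
  coact := (polyCoactB ρB a).toLinearMap
  coassoc := by
    apply LinearMap.ext
    intro p
    have := congrArg (fun φ => φ p) (polyCoactB_coassoc ρB a hρΔ hΔ)
    simp only [LinearMap.comp_apply, LinearEquiv.coe_coe, AlgHom.toLinearMap_apply]
    rw [rTensor_eq_map, assoc_eq]
    have h2 := lTensor_eq_map (P := MvPolynomial (Fin n) B) (Bialgebra.comulAlgHom K A)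
      (polyCoactB ρB a p)
    rw [show (CoalgebraStruct.comul (R := K) (A := A)) =
      (Bialgebra.comulAlgHom K A).toLinearMap from rfl, h2]
    exact this
  counit_comp := by
    apply LinearMap.ext
    intro p
    have := congrArg (fun φ => φ p) (polyCoactB_counit ρB a hρε hε)
    simp only [LinearMap.comp_apply, AlgHom.toLinearMap_apply, LinearMap.flip_apply,
      TensorProduct.mk_apply]
    have h2 := lTensor_eq_map (P := MvPolynomial (Fin n) B) (Bialgebra.counitAlgHom K A)
      (polyCoactB ρB a p)
    rw [show (CoalgebraStruct.counit (R := K) (A := A)) =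
      (Bialgebra.counitAlgHom K A).toLinearMap from rfl, h2]
    exact this

end PolyCoaction

section Graded

variable {K : Type u} [Field K] {A : Type v} [CommRing A] [Bialgebra K A]
variable {B : Type w} [CommRing B] [Algebra K B]
variable {n : ℕ} (ρB : B →ₐ[K] B ⊗[K] A) (a : Fin n → Fin n → A)

theorem map_incl_mem_tens (y : B ⊗[K] A) :
    Algebra.TensorProduct.map (incl K B n) (AlgHom.id K A) y ∈ tens A (hsub K B (Fin n) 0) := by
  induction y using TensorProduct.induction_on with
  | zero => rw [map_zero]; exact Submodule.zero_mem _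
  | tmul b c =>
    rw [Algebra.TensorProduct.map_tmul]
    exact tmul_mem_tens (mem_hsub.mpr (MvPolynomial.isHomogeneous_C _ b)) _
  | add x y hx hy => rw [map_add]; exact Submodule.add_mem _ hx hy

theorem hsub_mul_le (d e : ℕ) :
    hsub K B (Fin n) d * hsub K B (Fin n) e ≤ hsub K B (Fin n) (d + e) :=
  Submodule.mul_le.mpr fun _ hp _ hq => mem_hsub.mpr ((mem_hsub.1 hp).mul (mem_hsub.1 hq))

theorem polyCoactB_hc_mem (p : MvPolynomial (Fin n) B) :
    ∀ d, polyCoactB ρB a (MvPolynomial.homogeneousComponent d p) ∈
      tens A (hsub K B (Fin n) d) := by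
  induction p using MvPolynomial.induction_on with
  | C b =>
    intro d
    rw [MvPolynomial.homogeneousComponent_of_mem (MvPolynomial.isHomogeneous_C _ b)]
    split_ifs with h
    · subst h
      rw [polyCoactB_C]
      exact map_incl_mem_tens _
    · rw [map_zero]; exact Submodule.zero_mem _
  | add p q hp hq =>
    intro d
    rw [map_add, map_add]
    exact Submodule.add_mem _ (hp d) (hq d)
  | mul_X p i hp =>
    intro d
    rw [GradedInvB.homogeneousComponent_mul_of_isHomogeneous p _
      (MvPolynomial.isHomogeneous_X B i) d]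
    split_ifs with h
    · rw [map_mul, polyCoactB_X]
      have h1 := hp (d - 1)
      have h2 : ∑ j, (MvPolynomial.X j : MvPolynomial (Fin n) B) ⊗ₜ[K] a j i ∈
          tens A (hsub K B (Fin n) 1) :=
        Submodule.sum_mem _ fun j _ =>
          tmul_mem_tens (mem_hsub.mpr (MvPolynomial.isHomogeneous_X B j)) _
      have h3 := mul_mem_tens h1 h2
      have h4 : hsub K B (Fin n) (d - 1) * hsub K B (Fin n) 1 ≤ hsub K B (Fin n) d := by
        have h5 := hsub_mul_le (K := K) (B := B) (n := n) (d - 1) 1
        have h6 : d - 1 + 1 = d := by omega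
        rwa [h6] at h5
      exact tens_mono h4 h3
    · rw [zero_mul, map_zero]; exact Submodule.zero_mem _

variable (hρΔ : (Algebra.TensorProduct.assoc K K K B A A).toAlgHom.comp
      ((Algebra.TensorProduct.map ρB (AlgHom.id K A)).comp ρB) =
    (Algebra.TensorProduct.map (AlgHom.id K B) (Bialgebra.comulAlgHom K A)).comp ρB)
  (hρε : (Algebra.TensorProduct.map (AlgHom.id K B) (Bialgebra.counitAlgHom K A)).comp ρB =
    Algebra.TensorProduct.includeLeft)
  (hΔ : ∀ j i, CoalgebraStruct.comul (R := K) (a j i) = ∑ l, a j l ⊗ₜ[K] a l i)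
  (hε : ∀ j i, CoalgebraStruct.counit (R := K) (a j i) = if j = i then (1 : K) else 0)

theorem polyComodB_isSubcomod (d : ℕ) :
    letI := polyComodB ρB a hρΔ hρε hΔ hε
    HopfRep.IsSubcomod (k := K) (A := A) (hsub K B (Fin n) d) := by
  intro p hp
  change polyCoactB ρB a p ∈ tens A (hsub K B (Fin n) d)
  have h := polyCoactB_hc_mem ρB a p d
  rwa [MvPolynomial.homogeneousComponent_eq_self (mem_hsub.1 hp)] at h

end Graded

section Main

attribute [local instance] comodModule

variable {k : Type u} [Field k] {H : Type u} [CommRing H] [Bialgebra k H]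
variable {A : Type u} [CommRing A] [Algebra k A] [IsNoetherianRing A] [HopfRep.Comod k H A]
variable {C : Type u} [CommRing C] [Algebra k C] [HopfRep.Comod k H C]
variable [Algebra A C] [IsScalarTower k A C] [Algebra.FiniteType A C]

/-- **Relative Hilbert finiteness**: `C` a finitely generated algebra over the Noetherian comodule
algebra `A`, compatibly coacted on by a linearly reductive bialgebra; then `C^G` is generated over
the image of `A^G` by finitely many invariants. -/
theorem exists_finset_generators_relative (hG : HopfRep.IsLinearlyReductive k H)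
    (hmulA : ∀ f g : A, HopfRep.Comod.coact (k := k) (A := H) (f * g) =
      HopfRep.Comod.coact (k := k) (A := H) f * HopfRep.Comod.coact (k := k) (A := H) g)
    (honeA : HopfRep.Comod.coact (k := k) (A := H) (1 : A) = 1)
    (hmulC : ∀ f g : C, HopfRep.Comod.coact (k := k) (A := H) (f * g) =
      HopfRep.Comod.coact (k := k) (A := H) f * HopfRep.Comod.coact (k := k) (A := H) g)
    (honeC : HopfRep.Comod.coact (k := k) (A := H) (1 : C) = 1)
    (hAC : Hoch.IsComodHom H (IsScalarTower.toAlgHom k A C).toLinearMap) :
    ∃ s : Finset C, (∀ f ∈ s, f ∈ HopfRep.fixedPts k H C) ∧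
      ∀ f ∈ HopfRep.fixedPts k H C, f ∈ Algebra.adjoin k
        ((algebraMap A C) '' (HopfRep.fixedPts k H A : Set A) ∪ (s : Set C)) := by
  classical
  obtain ⟨t, ht⟩ := (Algebra.FiniteType.out : (⊤ : Subalgebra A C).FG)
  obtain ⟨V, hV, hVfin, htV⟩ := exists_finite_subcomod_subset (K := k) (A := H) t
  let _ : HopfRep.Comod k H V := restrComod V hV
  let b : Module.Basis (Fin (Module.finrank k V)) k V := Module.finBasis k V
  let a : Fin (Module.finrank k V) → Fin (Module.finrank k V) → H := mc (A := H) b
  have hcoactC : ∀ i, HopfRep.Comod.coact (k := k) (A := H) ((b i : V) : C) =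
      ∑ j, ((b j : V) : C) ⊗ₜ[k] a j i := by
    intro i
    have h1 := LinearMap.congr_fun (isComodHom_subtype_restr V hV) (b i)
    simp only [LinearMap.comp_apply, Submodule.subtype_apply] at h1
    rw [h1]
    have h2 : HopfRep.Comod.coact (k := k) (A := H) (b i) = ∑ j, b j ⊗ₜ[k] a j i :=
      coact_basis (A := H) b i
    rw [h2, map_sum]
    rfl
  let ρA : A →ₐ[k] A ⊗[k] H := coactAlg hmulA honeA
  let _ : HopfRep.Comod k H (MvPolynomial (Fin (Module.finrank k V)) A) :=
    polyComodB ρA a (coactAlg_coassoc hmulA honeA) (coactAlg_counit hmulA honeA)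
      (comul_mc b) (counit_mc b)
  have hmulP : ∀ f g : MvPolynomial (Fin (Module.finrank k V)) A,
      HopfRep.Comod.coact (k := k) (A := H) (f * g) =
      HopfRep.Comod.coact (k := k) (A := H) f * HopfRep.Comod.coact (k := k) (A := H) g :=
    fun f g => map_mul (polyCoactB ρA a) f g
  have hgr := polyComodB_isSubcomod ρA a (coactAlg_coassoc hmulA honeA)
    (coactAlg_counit hmulA honeA) (comul_mc b) (counit_mc b)
  -- the covering map
  let π : MvPolynomial (Fin (Module.finrank k V)) A →ₐ[A] C :=
    MvPolynomial.aeval (fun i => ((b i : V) : C))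
  have hπsurj : Function.Surjective π := by
    rw [← AlgHom.range_eq_top, eq_top_iff, ← ht]
    apply Algebra.adjoin_le
    intro r hr
    have hrV : r ∈ V := htV hr
    have hsum : (⟨r, hrV⟩ : V) = ∑ i, b.repr ⟨r, hrV⟩ i • b i := (b.sum_repr ⟨r, hrV⟩).symm
    have hr' : r = ∑ i, b.repr ⟨r, hrV⟩ i • ((b i : V) : C) := by
      have h3 := congrArg (V.subtype) hsum
      rw [map_sum] at h3
      simpa only [map_smul, Submodule.subtype_apply] using h3
    refine ⟨∑ i, MvPolynomial.C (algebraMap k A (b.repr ⟨r, hrV⟩ i)) * MvPolynomial.X i, ?_⟩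
    refine Eq.trans ?_ hr'.symm
    change π _ = _
    rw [map_sum]
    refine Finset.sum_congr rfl fun i _ => ?_
    simp [π, Algebra.smul_def, IsScalarTower.algebraMap_apply k A C]
  let πk : MvPolynomial (Fin (Module.finrank k V)) A →ₐ[k] C := π.restrictScalars k
  have hπk : ∀ p, πk p = π p := fun _ => rfl
  have hπcomod : Hoch.IsComodHom H πk.toLinearMap := by
    let ρC : C →ₐ[k] C ⊗[k] H := coactAlg hmulC honeC
    have key : ρC.comp πk =
        (Algebra.TensorProduct.map πk (AlgHom.id k H)).comp (polyCoactB ρA a) := by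
      apply MvPolynomial.algHom_ext'
      · apply AlgHom.ext
        intro x
        simp only [AlgHom.coe_comp, Function.comp_apply, polyCoactB_incl]
        have h1 := LinearMap.congr_fun hAC x
        simp only [LinearMap.comp_apply, AlgHom.toLinearMap_apply] at h1
        rw [rTensor_eq_map] at h1
        have h2 : ∀ y : A ⊗[k] H, Algebra.TensorProduct.map πk (AlgHom.id k H)
            (Algebra.TensorProduct.map (incl k A (Module.finrank k V)) (AlgHom.id k H) y) =
            Algebra.TensorProduct.map (IsScalarTower.toAlgHom k A C) (AlgHom.id k H) y := by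
          intro y
          induction y using TensorProduct.induction_on with
          | zero => simp
          | tmul x c => simp [hπk, π, incl_apply]
          | add y z hy hz => rw [map_add, map_add, map_add, hy, hz]
        rw [h2]
        refine Eq.trans ?_ h1
        change HopfRep.Comod.coact (k := k) (A := H) (π (MvPolynomial.C x)) = _
        simp [π]
      · intro i
        simp only [AlgHom.coe_comp, Function.comp_apply, polyCoactB_X, map_sum,
          Algebra.TensorProduct.map_tmul, AlgHom.coe_id, id_eq, hπk, π, MvPolynomial.aeval_X]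
        exact hcoactC i
    apply LinearMap.ext
    intro p
    have := congrArg (fun φ => φ p) key
    simp only [LinearMap.comp_apply, AlgHom.toLinearMap_apply]
    change _ = (πk.toLinearMap.rTensor H) (polyCoactB ρA a p)
    rw [rTensor_eq_map]
    exact this
  have hssP := isSemisimpleModule_of_isLinearlyReductive hG
    (MvPolynomial (Fin (Module.finrank k V)) A)
  have hssC := isSemisimpleModule_of_isLinearlyReductive hG C
  obtain ⟨sP, hsP, hgen⟩ := GradedInvB.exists_finset_generators hmulP hgr
  refine ⟨sP.image π, ?_, ?_⟩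
  · intro f hf
    obtain ⟨p, hp, rfl⟩ := Finset.mem_image.mp hf
    exact map_mem_fixedPts (toDualLinearMap πk.toLinearMap hπcomod) (hsP p hp)
  · intro f hf
    obtain ⟨p, hp, rfl⟩ := exists_fixedPts_preimage πk.toLinearMap hπcomod hπsurj f hf
    have h1 := hgen p hp
    have h2 : πk p ∈ (Algebra.adjoin k
        ({F | F ∈ HopfRep.fixedPts k H (MvPolynomial (Fin (Module.finrank k V)) A) ∧
          F.IsHomogeneous 0} ∪
          (sP : Set (MvPolynomial (Fin (Module.finrank k V)) A)))).map πk :=
      ⟨p, h1, rfl⟩
    rw [AlgHom.map_adjoin] at h2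
    refine Algebra.adjoin_mono ?_ h2
    rintro _ ⟨F, hF | hF, rfl⟩
    · left
      obtain ⟨hFinv, hF0⟩ := hF
      have hFC : F = MvPolynomial.C (MvPolynomial.coeff 0 F) := by
        have := (MvPolynomial.totalDegree_zero_iff_isHomogeneous _).mpr hF0
        exact (MvPolynomial.totalDegree_eq_zero_iff_eq_C).mp this
      refine ⟨MvPolynomial.coeff 0 F, ?_, ?_⟩
      · -- the coefficient is invariant
        have h3 : HopfRep.Comod.coact (k := k) (A := H) F = F ⊗ₜ[k] (1 : H) := hFinv
        rw [hFC] at h3
        change polyCoactB ρA a (MvPolynomial.C (MvPolynomial.coeff 0 F)) = _ at h3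
        rw [polyCoactB_C] at h3
        have h4 : (MvPolynomial.C (MvPolynomial.coeff 0 F) :
            MvPolynomial (Fin (Module.finrank k V)) A) ⊗ₜ[k] (1 : H) =
            Algebra.TensorProduct.map (incl k A (Module.finrank k V)) (AlgHom.id k H)
              (MvPolynomial.coeff 0 F ⊗ₜ[k] (1 : H)) := by
          simp [incl_apply]
        rw [h4, ← rTensor_eq_map, ← rTensor_eq_map] at h3
        have hinj : Function.Injective
            ((incl k A (Module.finrank k V)).toLinearMap.rTensor H) :=
          Module.Flat.rTensor_preserves_injective_linearMap _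
            (MvPolynomial.C_injective _ _)
        exact hinj h3
      · rw [hFC]
        simp [hπk, π]
    · right
      exact Finset.mem_coe.mpr (Finset.mem_image.mpr ⟨F, hF, rfl⟩)

end Main

end Groth.Agent.Lib.Helper23.PolyCoverB
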