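import Groth.Agent.Lib.Helper75.ComodRestr

/-!
# Reynolds operator for linearly reductive bialgebras (helper23)

Over a field `K`, for a bialgebra `A` all of whose finite-dimensional comodules (in the universe of `A`)
are semisimple, every comodule `V` (in that universe) is a semisimple module over the dual algebra
`DualAlg K A`; the invariants `V^G` have a unique complementary subcomodule and the projection is the
Reynolds operator.
-/

set_option autoImplicit false
universe u v w w'

open TensorProduct Groth.Agent.Lib.Helper75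

namespace Groth.Agent.Lib.Helper23.Reynolds

attribute [local instance] comodModule

section Invariants

variable {K : Type u} [Field K] {A : Type v} [Ring A] [Bialgebra K A]
variable {V : Type w} [AddCommGroup V] [Module K V] [HopfRep.Comod K A V]
variable {W : Type w'} [AddCommGroup W] [Module K W] [HopfRep.Comod K A W]

/-- invariants are the vectors on which every functional `f` acts by the scalar `f 1` -/
theorem mem_fixedPts_iff (v : V) :
    v ∈ HopfRep.fixedPts K A V ↔ ∀ f : A →ₗ[K] K, act f v = f 1 • v := by
  constructor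
  · intro hv f
    have hv' : coactMap K A V v = v ⊗ₜ[K] (1 : A) := hv
    rw [act_apply, hv', contractR_tmul]
  · intro h
    change coactMap K A V v = v ⊗ₜ[K] (1 : A)
    apply eq_of_contractR_eq
    intro f
    rw [contractR_tmul, ← h f, act_apply]

/-- the invariants as a submodule over the dual algebra -/
def fixedSub (K : Type u) [Field K] (A : Type v) [Ring A] [Bialgebra K A]
    (V : Type w) [AddCommGroup V] [Module K V] [HopfRep.Comod K A V] :
    Submodule (DualAlg K A) V where
  carrier := HopfRep.fixedPts K A V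
  add_mem' := (HopfRep.fixedPts K A V).add_mem
  zero_mem' := (HopfRep.fixedPts K A V).zero_mem
  smul_mem' f v hv := by
    have h1 : f • v = f.ofConv 1 • v := by
      rw [smul_def]
      exact (mem_fixedPts_iff v).1 hv f.ofConv
    rw [h1]
    exact (HopfRep.fixedPts K A V).smul_mem _ hv

@[simp] theorem mem_fixedSub (v : V) : v ∈ fixedSub K A V ↔ v ∈ HopfRep.fixedPts K A V := Iff.rfl

theorem smul_eq_of_mem_fixedPts {v : V} (hv : v ∈ HopfRep.fixedPts K A V) (f : DualAlg K A) :
    f • v = f.ofConv 1 • v := by
  rw [smul_def]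
  exact (mem_fixedPts_iff v).1 hv f.ofConv

theorem mem_fixedPts_of_smul_eq {v : V} (h : ∀ f : DualAlg K A, f • v = f.ofConv 1 • v) :
    v ∈ HopfRep.fixedPts K A V := by
  rw [mem_fixedPts_iff]
  intro f
  exact h (WithConv.toConv f)

/-- a comodule map sends invariants to invariants -/
theorem map_mem_fixedPts (φ : V →ₗ[DualAlg K A] W) {v : V} (hv : v ∈ HopfRep.fixedPts K A V) :
    φ v ∈ HopfRep.fixedPts K A W := by
  apply mem_fixedPts_of_smul_eq
  intro f
  rw [← map_smul, smul_eq_of_mem_fixedPts hv, ← IsScalarTower.algebraMap_smul (DualAlg K A) (f.ofConv 1) v,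
    map_smul, IsScalarTower.algebraMap_smul]

end Invariants

section Key

variable {K : Type u} [Field K] {A : Type v} [Ring A] [Bialgebra K A]
variable {V : Type w} [AddCommGroup V] [Module K V] [HopfRep.Comod K A V]
variable {W : Type w'} [AddCommGroup W] [Module K W] [HopfRep.Comod K A W]

/-- Key lemma: a comodule map from a semisimple comodule without nonzero invariants, all of whose
values are invariant, is zero. -/
theorem eq_zero_of_forall_mem_fixedPts [IsSemisimpleModule (DualAlg K A) V]
    (h0 : ∀ v ∈ HopfRep.fixedPts K A V, v = 0)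
    (φ : V →ₗ[DualAlg K A] W) (hφ : ∀ v, φ v ∈ HopfRep.fixedPts K A W) (v : V) : φ v = 0 := by
  obtain ⟨L, hL⟩ := exists_isCompl (LinearMap.ker φ)
  have hL0 : ∀ x ∈ L, x = 0 := by
    intro x hx
    apply h0
    apply mem_fixedPts_of_smul_eq
    intro f
    have hmemL : f • x - f.ofConv 1 • x ∈ L := by
      refine L.sub_mem (L.smul_mem f hx) ?_
      rw [← IsScalarTower.algebraMap_smul (DualAlg K A) (f.ofConv 1) x]
      exact L.smul_mem _ hx
    have hmemK : f • x - f.ofConv 1 • x ∈ LinearMap.ker φ := by
      rw [LinearMap.mem_ker, map_sub, map_smul, smul_eq_of_mem_fixedPts (hφ x),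
        ← IsScalarTower.algebraMap_smul (DualAlg K A) (f.ofConv 1) x, map_smul,
        IsScalarTower.algebraMap_smul, sub_self]
    have : f • x - f.ofConv 1 • x ∈ LinearMap.ker φ ⊓ L := ⟨hmemK, hmemL⟩
    rw [hL.inf_eq_bot, Submodule.mem_bot, sub_eq_zero] at this
    exact this
  have hLbot : L = ⊥ := by
    rw [eq_bot_iff]
    intro x hx
    rw [Submodule.mem_bot]
    exact hL0 x hx
  have hker : LinearMap.ker φ = ⊤ := by
    have := hL.sup_eq_top
    rwa [hLbot, sup_bot_eq] at this
  have : v ∈ LinearMap.ker φ := by rw [hker]; trivial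
  exact this

/-- Key lemma, submodule form: if `P` is a sub-comodule of a semisimple comodule `V` without nonzero
invariants, and `φ` maps `P` into the invariants, then `φ` vanishes on `P`. -/
theorem eq_zero_of_forall_mem_fixedPts_of_mem [IsSemisimpleModule (DualAlg K A) V]
    (P : Submodule (DualAlg K A) V)
    (h0 : ∀ v ∈ P, v ∈ HopfRep.fixedPts K A V → v = 0)
    (φ : V →ₗ[DualAlg K A] W) (hφ : ∀ v ∈ P, φ v ∈ HopfRep.fixedPts K A W) :
    ∀ v ∈ P, φ v = 0 := by
  intro x hxP
  obtain ⟨L', hL'⟩ := exists_isCompl (LinearMap.ker φ ⊓ P)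
  have hx : x ∈ (LinearMap.ker φ ⊓ P) ⊔ L' := by rw [hL'.sup_eq_top]; trivial
  obtain ⟨q, hq, l, hl, rfl⟩ := Submodule.mem_sup.mp hx
  have hlP : l ∈ P := by
    have : l = (q + l) - q := by abel
    rw [this]
    exact P.sub_mem hxP hq.2
  have hl0 : l = 0 := by
    apply h0 l hlP
    apply mem_fixedPts_of_smul_eq
    intro f
    have hmemL : f • l - f.ofConv 1 • l ∈ L' := by
      refine L'.sub_mem (L'.smul_mem f hl) ?_
      rw [← IsScalarTower.algebraMap_smul (DualAlg K A) (f.ofConv 1) l]
      exact L'.smul_mem _ hl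
    have hmemP : f • l - f.ofConv 1 • l ∈ P := by
      refine P.sub_mem (P.smul_mem f hlP) ?_
      rw [← IsScalarTower.algebraMap_smul (DualAlg K A) (f.ofConv 1) l]
      exact P.smul_mem _ hlP
    have hmemK : f • l - f.ofConv 1 • l ∈ LinearMap.ker φ := by
      rw [LinearMap.mem_ker, map_sub, map_smul, smul_eq_of_mem_fixedPts (hφ l hlP),
        ← IsScalarTower.algebraMap_smul (DualAlg K A) (f.ofConv 1) l, map_smul,
        IsScalarTower.algebraMap_smul, sub_self]
    have : f • l - f.ofConv 1 • l ∈ (LinearMap.ker φ ⊓ P) ⊓ L' := ⟨⟨hmemK, hmemP⟩, hmemL⟩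
    rw [hL'.inf_eq_bot, Submodule.mem_bot, sub_eq_zero] at this
    exact this
  rw [hl0, add_zero]
  exact hq.1

/-- variant: only the values in the invariants are controlled. -/
theorem eq_zero_of_mem_fixedPts [IsSemisimpleModule (DualAlg K A) V]
    (h0 : ∀ v ∈ HopfRep.fixedPts K A V, v = 0)
    (φ : V →ₗ[DualAlg K A] W) (v : V) (hv : φ v ∈ HopfRep.fixedPts K A W) : φ v = 0 :=
  eq_zero_of_forall_mem_fixedPts_of_mem ((fixedSub K A W).comap φ) (fun v _ hv => h0 v hv) φ
    (fun _ hx => hx) v hv

end Key

section Operator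

variable {K : Type u} [Field K] {A : Type v} [Ring A] [Bialgebra K A]
variable {V : Type w} [AddCommGroup V] [Module K V] [HopfRep.Comod K A V]
variable {W : Type w'} [AddCommGroup W] [Module K W] [HopfRep.Comod K A W]

/-- `E` is a Reynolds operator on the comodule `V`: an idempotent comodule endomorphism whose fixed
vectors are exactly the invariants. -/
structure IsReynolds (E : V →ₗ[DualAlg K A] V) : Prop where
  idem : ∀ x, E (E x) = E x
  fix_iff : ∀ x, E x = x ↔ x ∈ HopfRep.fixedPts K A V

theorem IsReynolds.apply_mem {E : V →ₗ[DualAlg K A] V} (hE : IsReynolds E) (x : V) :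
    E x ∈ HopfRep.fixedPts K A V := (hE.fix_iff _).1 (hE.idem x)

theorem IsReynolds.apply_of_mem {E : V →ₗ[DualAlg K A] V} (hE : IsReynolds E) {x : V}
    (hx : x ∈ HopfRep.fixedPts K A V) : E x = x := (hE.fix_iff _).2 hx

/-- existence of a Reynolds operator on a semisimple comodule -/
theorem exists_isReynolds [IsSemisimpleModule (DualAlg K A) V] :
    ∃ E : V →ₗ[DualAlg K A] V, IsReynolds E := by
  obtain ⟨C, hC⟩ := exists_isCompl (fixedSub K A V)
  refine ⟨(fixedSub K A V).projection C hC, ?_, ?_⟩
  · intro x
    exact Submodule.projection_apply_of_mem_left hC (Submodule.projection_apply_mem hC x)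
  · intro x
    exact Submodule.projection_eq_self_iff hC x

/-- naturality of Reynolds operators: they commute with every comodule map (the source being
semisimple). -/
theorem IsReynolds.natural [IsSemisimpleModule (DualAlg K A) V]
    {E : V →ₗ[DualAlg K A] V} (hE : IsReynolds E)
    {E' : W →ₗ[DualAlg K A] W} (hE' : IsReynolds E')
    (φ : V →ₗ[DualAlg K A] W) (v : V) : E' (φ v) = φ (E v) := by
  -- decompose v = E v + (v - E v)
  have h1 : E' (φ (E v)) = φ (E v) := hE'.apply_of_mem (map_mem_fixedPts φ (hE.apply_mem v))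
  have h2 : E' (φ (v - E v)) = 0 := by
    have := eq_zero_of_forall_mem_fixedPts_of_mem (LinearMap.ker E)
      (fun x hx hx' => by
        rw [← hE.apply_of_mem hx']
        exact hx)
      (E'.comp φ) (fun x _ => hE'.apply_mem _) (v - E v)
      (by rw [LinearMap.mem_ker, map_sub, hE.idem, sub_self])
    exact this
  have : φ v = φ (E v) + φ (v - E v) := by rw [← map_add]; congr 1; abel
  rw [this, map_add, h1, h2, add_zero]

/-- uniqueness of the Reynolds operator -/
theorem IsReynolds.unique [IsSemisimpleModule (DualAlg K A) V]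
    {E E' : V →ₗ[DualAlg K A] V} (hE : IsReynolds E) (hE' : IsReynolds E') : E = E' := by
  apply LinearMap.ext
  intro v
  have h1 := hE.natural hE' LinearMap.id v
  have h2 : E (E' v) = E' v := hE.apply_of_mem (hE'.apply_mem v)
  have h3 := hE'.natural hE LinearMap.id v
  simp only [LinearMap.id_apply] at h1 h3
  -- E' v = E v
  have h4 : E' (E v) = E v := hE'.apply_of_mem (hE.apply_mem v)
  -- from naturality of (E, E) along E' ...
  have h5 := hE.natural hE E' v
  -- E (E' v) = E' (E v)
  rw [h2, h4] at h5
  exact h5.symm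

/-- a Reynolds operator preserves every subcomodule -/
theorem IsReynolds.apply_mem_of_mem [IsSemisimpleModule (DualAlg K A) V]
    {E : V →ₗ[DualAlg K A] V} (hE : IsReynolds E) (P : Submodule (DualAlg K A) V) {x : V}
    (hx : x ∈ P) : E x ∈ P := by
  -- complement of P
  obtain ⟨Q, hQ⟩ := exists_isCompl P
  have hπx : P.projection Q hQ x = x := Submodule.projection_apply_of_mem_left hQ hx
  have := hE.natural hE (P.projection Q hQ) x
  rw [hπx] at this
  rw [this]
  exact Submodule.projection_apply_mem hQ _

end Operator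

section Semisimple

variable {K : Type u} [Field K] {A : Type v} [CommRing A] [Bialgebra K A]

/-- the identity map from a subcomodule (with the restricted comodule structure, seen as a module over
the dual algebra) to the corresponding submodule over the dual algebra -/
noncomputable def restrEquiv {V : Type w} [AddCommGroup V] [Module K V] [HopfRep.Comod K A V]
    (W : Submodule K V) (hW : HopfRep.IsSubcomod (k := K) (A := A) W) :
    letI := restrComod W hW
    W ≃ₗ[DualAlg K A] toDualSubmodule W hW :=
  letI := restrComod W hW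
  { toFun := fun x => ⟨x.1, x.2⟩
    invFun := fun x => ⟨x.1, x.2⟩
    left_inv := fun _ => rfl
    right_inv := fun _ => rfl
    map_add' := fun _ _ => rfl
    map_smul' := fun f x => by
      apply Subtype.ext
      exact act_restr W hW f.ofConv x }

/-- **Linear reductivity implies that every comodule is semisimple** (over the dual algebra), for
comodules in the universe of `A`. -/
theorem isSemisimpleModule_of_isLinearlyReductive (hG : HopfRep.IsLinearlyReductive K A)
    (V : Type v) [AddCommGroup V] [Module K V] [HopfRep.Comod K A V] :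
    IsSemisimpleModule (DualAlg K A) V := by
  apply isSemisimpleModule_of_isSemisimpleModule_submodule'
    (p := fun v : V => toDualSubmodule (orbit K A v) (isSubcomod_orbit v))
  · intro v
    let _ := restrComod (orbit K A v) (isSubcomod_orbit v)
    have h1 : HopfRep.IsSemisimpleComod K A (orbit K A v) := hG (orbit K A v) inferInstance
    have h2 : IsSemisimpleModule (DualAlg K A) (orbit K A v) := isSemisimpleComod_iff.mp h1
    exact IsSemisimpleModule.congr (restrEquiv (orbit K A v) (isSubcomod_orbit v)).symm
  · rw [eq_top_iff]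
    intro v _
    exact Submodule.mem_iSup_of_mem v (self_mem_orbit v)

end Semisimple

section KLinear

variable {K : Type u} [Field K] {A : Type v} [Ring A] [Bialgebra K A]
variable {V : Type w} [AddCommGroup V] [Module K V] [HopfRep.Comod K A V]
variable {W : Type w'} [AddCommGroup W] [Module K W] [HopfRep.Comod K A W]

/-- Reynolds operators, in `K`-linear language -/
structure IsReynoldsK (E : V →ₗ[K] V) : Prop where
  comodHom : Hoch.IsComodHom A E
  idem : E ∘ₗ E = E
  fix_iff : ∀ x, E x = x ↔ x ∈ HopfRep.fixedPts K A V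

theorem IsReynoldsK.toDual {E : V →ₗ[K] V} (hE : IsReynoldsK (A := A) E) :
    IsReynolds (toDualLinearMap E hE.comodHom) where
  idem x := by
    simp only [toDualLinearMap_apply]
    exact congrArg (fun f : V →ₗ[K] V => f x) hE.idem
  fix_iff x := by
    simp only [toDualLinearMap_apply]
    exact hE.fix_iff x

theorem IsReynolds.toK {E : V →ₗ[DualAlg K A] V} (hE : IsReynolds E) :
    IsReynoldsK (A := A) (E.restrictScalars K) where
  comodHom := isComodHom_restrictScalars E
  idem := by
    apply LinearMap.ext
    intro x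
    exact hE.idem x
  fix_iff x := hE.fix_iff x

theorem IsReynoldsK.apply_mem {E : V →ₗ[K] V} (hE : IsReynoldsK (A := A) E) (x : V) :
    E x ∈ HopfRep.fixedPts K A V := hE.toDual.apply_mem x

theorem IsReynoldsK.apply_of_mem {E : V →ₗ[K] V} (hE : IsReynoldsK (A := A) E) {x : V}
    (hx : x ∈ HopfRep.fixedPts K A V) : E x = x := (hE.fix_iff x).2 hx

theorem exists_isReynoldsK [IsSemisimpleModule (DualAlg K A) V] :
    ∃ E : V →ₗ[K] V, IsReynoldsK (A := A) E := by
  obtain ⟨E, hE⟩ := exists_isReynolds (K := K) (A := A) (V := V)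
  exact ⟨_, hE.toK⟩

theorem IsReynoldsK.natural [IsSemisimpleModule (DualAlg K A) V]
    {E : V →ₗ[K] V} (hE : IsReynoldsK (A := A) E)
    {E' : W →ₗ[K] W} (hE' : IsReynoldsK (A := A) E')
    (φ : V →ₗ[K] W) (hφ : Hoch.IsComodHom A φ) (v : V) : E' (φ v) = φ (E v) :=
  hE.toDual.natural hE'.toDual (toDualLinearMap φ hφ) v

theorem IsReynoldsK.unique [IsSemisimpleModule (DualAlg K A) V]
    {E E' : V →ₗ[K] V} (hE : IsReynoldsK (A := A) E) (hE' : IsReynoldsK (A := A) E') : E = E' := by
  have := hE.toDual.unique hE'.toDual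
  apply LinearMap.ext
  intro v
  exact congrArg (fun f : V →ₗ[DualAlg K A] V => f v) this

/-- a Reynolds operator preserves every subcomodule -/
theorem IsReynoldsK.apply_mem_of_mem [IsSemisimpleModule (DualAlg K A) V]
    {E : V →ₗ[K] V} (hE : IsReynoldsK (A := A) E) (P : Submodule K V)
    (hP : HopfRep.IsSubcomod (k := K) (A := A) P) {x : V} (hx : x ∈ P) : E x ∈ P :=
  hE.toDual.apply_mem_of_mem (toDualSubmodule P hP) hx

/-- surjective comodule maps are surjective on invariants (source semisimple) -/
theorem exists_fixedPts_preimage [IsSemisimpleModule (DualAlg K A) V]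
    [IsSemisimpleModule (DualAlg K A) W]
    (φ : V →ₗ[K] W) (hφ : Hoch.IsComodHom A φ) (hsurj : Function.Surjective φ)
    (w : W) (hw : w ∈ HopfRep.fixedPts K A W) : ∃ v ∈ HopfRep.fixedPts K A V, φ v = w := by
  obtain ⟨E, hE⟩ := exists_isReynoldsK (K := K) (A := A) (V := V)
  obtain ⟨E', hE'⟩ := exists_isReynoldsK (K := K) (A := A) (V := W)
  obtain ⟨v, rfl⟩ := hsurj w
  refine ⟨E v, hE.apply_mem v, ?_⟩
  rw [← hE.natural hE' φ hφ v]
  exact hE'.apply_of_mem hw

end KLinear

end Groth.Agent.Lib.Helper23.Reynolds
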