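import Groth.Agent.Lib.Helper23.OrbitDim
import Groth.Agent.Lib.Helper73.DimField

/-!
# Finite stabilisers and the dimension of orbits, coaction form (helper23)

* `exists_infinite_fibre_of_transcendental`: a transcendental element produces an infinite fibre over
  a rational point.
* `ringKrullDim_le_of_finite_fibres`: a map of finitely generated algebras with finite fibres over
  all rational points does not raise the dimension.
* `ringKrullDim_quotient_ker_le`: `dim R/ker φ ≤ dim A` for `φ : R → A`.
* `exists_actPt_of_finite_stabilizer`: a point with finite stabiliser lying in the closure of an orbit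
  lies in that orbit.
-/

set_option autoImplicit false
universe u v w w'

open TensorProduct Groth.Agent.Lib.Helper75 Groth.Agent.Lib.Helper23.Reynolds
open Groth.Agent.Lib.Helper23.GITAffine Groth.Agent.Lib.Helper23.ClosedOrbit
open Groth.Agent.Lib.Helper23.OrbitDim Groth.Agent.Lib.Helper73.DimFormula Polynomial

namespace Groth.Agent.Lib.Helper23.StabDim

attribute [local instance] comodModule

section Transcendental

variable {K : Type u} [Field K] [IsAlgClosed K]

/-- a transcendental element produces an infinite fibre over some rational point -/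
theorem exists_infinite_fibre_of_transcendental {D E : Type u} [CommRing D] [IsDomain D]
    [CommRing E] [Algebra K D] [Algebra K E] [Algebra.FiniteType K D] [Algebra.FiniteType K E]
    [Algebra D E] [IsScalarTower K D E] (t : E) (ht : Transcendental D t) :
    ∃ w : D →ₐ[K] K, {e : E →ₐ[K] K | e.comp (IsScalarTower.toAlgHom K D E) = w}.Infinite := by
  classical
  have hND : IsNoetherianRing D := Algebra.FiniteType.isNoetherianRing K D
  let ψ : D[X] →+* E := (Polynomial.aeval t : D[X] →ₐ[D] E).toRingHom
  have hψC : ∀ d : D, ψ (C d) = algebraMap D E d := fun d => by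
    change Polynomial.aeval t (C d) = _
    rw [Polynomial.aeval_C]
  have hψX : ψ X = t := by
    change Polynomial.aeval t X = _
    rw [Polynomial.aeval_X]
  have hψinj : Function.Injective ψ := transcendental_iff_injective.mp ht
  have hψfp : ψ.FinitePresentation := by
    rw [← RingHom.FinitePresentation.of_finiteType]
    apply RingHom.FiniteType.of_comp_finiteType (f := algebraMap K D[X])
    have : ψ.comp (algebraMap K D[X]) = algebraMap K E := by
      ext c
      rw [RingHom.comp_apply, Polynomial.algebraMap_apply, hψC,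
        ← IsScalarTower.algebraMap_apply]
    rw [this]
    exact RingHom.finiteType_algebraMap.mpr inferInstance
  have hker : RingHom.ker ψ = ⊥ := (RingHom.injective_iff_ker_eq_bot ψ).mp hψinj
  have hmin : (⊥ : Ideal D[X]) ∈ (RingHom.ker ψ).minimalPrimes := by
    rw [hker, Ideal.minimalPrimes_eq_subsingleton_self]
    rfl
  obtain ⟨f, hf0, Hf⟩ := exists_notMem_forall_mem_range ψ hψfp ⊥ hmin
  have hf : f ≠ 0 := fun h => hf0 (by rw [h]; exact zero_mem _)
  have hb : f.leadingCoeff ≠ 0 := Polynomial.leadingCoeff_ne_zero.mpr hf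
  obtain ⟨w, hw⟩ : ∃ w : D →ₐ[K] K, w f.leadingCoeff ≠ 0 := by
    by_contra hall
    push Not at hall
    have := isNilpotent_of_forall_point_eq_zero (K := K) f.leadingCoeff hall
    exact hb this.eq_zero
  refine ⟨w, ?_⟩
  let fw : K[X] := f.map (w : D →+* K)
  have hfw : fw ≠ 0 := by
    intro h
    have := congrArg (fun p => p.coeff f.natDegree) h
    simp only [fw, Polynomial.coeff_map, Polynomial.coeff_zero] at this
    exact hw this
  let Cset : Set K := {c | fw.eval c ≠ 0}
  have hCinf : Cset.Infinite := by
    have hfin : {c : K | fw.eval c = 0}.Finite := by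
      have : {c : K | fw.eval c = 0} ⊆ (fw.roots.toFinset : Set K) := by
        intro c hc
        simp only [Finset.mem_coe, Multiset.mem_toFinset]
        exact (Polynomial.mem_roots hfw).mpr hc
      exact (Finset.finite_toSet _).subset this
    exact hfin.infinite_compl
  -- for each `c` with `fw(c) ≠ 0`, a point of `E` over `w` with `t ↦ c`
  have key : ∀ c ∈ Cset, ∃ e : E →ₐ[K] K,
      e.comp (IsScalarTower.toAlgHom K D E) = w ∧ e t = c := by
    intro c hc
    let ev : D[X] →+* K := Polynomial.eval₂RingHom (w : D →+* K) c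
    have hev : ∀ p : D[X], ev p = (p.map (w : D →+* K)).eval c := fun p => by
      change Polynomial.eval₂ _ _ _ = _
      rw [Polynomial.eval_map]
    have hq : (RingHom.ker ev).IsPrime := RingHom.ker_isPrime ev
    have hfq : f ∉ RingHom.ker ev := by
      rw [RingHom.mem_ker, hev]
      exact hc
    obtain ⟨P, hP, hPq⟩ := Hf (RingHom.ker ev) hq bot_le hfq
    obtain ⟨e, he⟩ := exists_point_of_ne_top (K := K) P hP.ne_top
    have hmem : ∀ p : D[X], ev p = 0 → e (ψ p) = 0 := by
      intro p hp
      have : p ∈ P.comap ψ := by rw [hPq, RingHom.mem_ker]; exact hp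
      exact he this
    refine ⟨e, ?_, ?_⟩
    · apply algHom_eq_of_ker_le
      intro d hd
      rw [RingHom.mem_ker] at hd ⊢
      change e (algebraMap D E d) = 0
      rw [← hψC]
      apply hmem
      change Polynomial.eval₂ _ _ (C d) = 0
      rw [Polynomial.eval₂_C]
      exact hd
    · have h0 := hmem (X - C (algebraMap K D c)) (by
        change Polynomial.eval₂ _ _ (X - C (algebraMap K D c)) = 0
        rw [Polynomial.eval₂_sub, Polynomial.eval₂_X, Polynomial.eval₂_C]
        change c - w (algebraMap K D c) = 0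
        rw [AlgHom.commutes]
        exact sub_self c)
      rw [map_sub, hψX, hψC, ← IsScalarTower.algebraMap_apply, map_sub, AlgHom.commutes,
        sub_eq_zero] at h0
      exact h0
  obtain ⟨c0, hc0⟩ := hCinf.nonempty
  have hne : Nonempty (E →ₐ[K] K) := ⟨(key c0 hc0).choose⟩
  choose! e he1 he2 using key
  have hinj : Set.InjOn e Cset := by
    intro c hc c' hc' hcc'
    rw [← he2 c hc, ← he2 c' hc', hcc']
  exact Set.infinite_of_injOn_mapsTo hinj (fun c hc => he1 c hc) hCinf

end Transcendental

section Domains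

variable {K : Type u} [Field K]

/-- an injective map of finitely generated domains over a field does not lower the dimension -/
theorem ringKrullDim_le_of_injective_domain {D E : Type u} [CommRing D] [IsDomain D]
    [CommRing E] [IsDomain E] [Algebra K D] [Algebra K E] [Algebra.FiniteType K D]
    [Algebra.FiniteType K E] (f : D →ₐ[K] E) (hf : Function.Injective f) :
    ringKrullDim D ≤ ringKrullDim E := by
  obtain ⟨n, hn1, hn2, -, -⟩ := exists_trdeg_eq_ringKrullDim K D
  obtain ⟨m, hm1, hm2, -, -⟩ := exists_trdeg_eq_ringKrullDim K E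
  have h := trdeg_le_of_injective f hf
  rw [hn1, hm1] at h
  rw [hn2, hm2]
  have : n ≤ m := by exact_mod_cast h
  exact_mod_cast this

/-- a map of finitely generated domains with finite fibres over all rational points does not
raise the dimension -/
theorem ringKrullDim_le_of_finite_fibres_domain [IsAlgClosed K] {D E : Type u} [CommRing D]
    [IsDomain D] [CommRing E] [IsDomain E] [Algebra K D] [Algebra K E] [Algebra.FiniteType K D]
    [Algebra.FiniteType K E] [Algebra D E] [IsScalarTower K D E]
    (hinj : Function.Injective (algebraMap D E))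
    (h : ∀ w : D →ₐ[K] K, {e : E →ₐ[K] K | e.comp (IsScalarTower.toAlgHom K D E) = w}.Finite) :
    ringKrullDim E ≤ ringKrullDim D := by
  have halg : Algebra.IsAlgebraic D E := by
    by_contra hna
    rw [← Algebra.transcendental_iff_not_isAlgebraic] at hna
    obtain ⟨t, ht⟩ := hna
    obtain ⟨w, hw⟩ := exists_infinite_fibre_of_transcendental (K := K) t ht
    exact hw (h w)
  have hfs : FaithfulSMul D E := (faithfulSMul_iff_algebraMap_injective D E).mpr hinj
  have h1 := trdeg_eq_of_isAlgebraic_top K (A := D) (B := E)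
  obtain ⟨n, hn1, hn2, -, -⟩ := exists_trdeg_eq_ringKrullDim K D
  obtain ⟨m, hm1, hm2, -, -⟩ := exists_trdeg_eq_ringKrullDim K E
  rw [hn1, hm1] at h1
  rw [hn2, hm2]
  have : m = n := by exact_mod_cast h1
  rw [this]

end Domains

section Chains

/-- the dimension of `R/I` is bounded by the dimensions of `R/η`, `η` minimal over `I` -/
theorem ringKrullDim_quotient_le_of_forall_minimalPrimes {R : Type*} [CommRing R] (I : Ideal R)
    (d : WithBot ℕ∞) (h : ∀ η ∈ I.minimalPrimes, ringKrullDim (R ⧸ η) ≤ d) :
    ringKrullDim (R ⧸ I) ≤ d := by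
  rw [ringKrullDim_quotient]
  unfold Order.krullDim
  refine iSup_le fun l => ?_
  obtain ⟨η, hη, hle⟩ := Ideal.exists_minimalPrimes_le (J := l.head.1.asIdeal) l.head.2
  refine le_trans ?_ (h η hη)
  rw [ringKrullDim_quotient]
  let l' : LTSeries (PrimeSpectrum.zeroLocus (R := R) η) :=
    { length := l.length
      toFun := fun i => ⟨(l i).1, fun a ha => (l.head_le i) (hle ha)⟩
      step := fun i => l.step i }
  exact Order.LTSeries.length_le_krullDim l'

theorem ringKrullDim_le_of_forall_minimalPrimes {R : Type*} [CommRing R]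
    (d : WithBot ℕ∞) (h : ∀ η ∈ minimalPrimes R, ringKrullDim (R ⧸ η) ≤ d) :
    ringKrullDim R ≤ d := by
  rw [← ringKrullDim_eq_of_ringEquiv (RingEquiv.quotientBot R)]
  exact ringKrullDim_quotient_le_of_forall_minimalPrimes ⊥ d h

end Chains

section General

variable {K : Type u} [Field K] {R A : Type u} [CommRing R] [CommRing A] [Algebra K R]
  [Algebra K A] [Algebra.FiniteType K R] [Algebra.FiniteType K A]

/-- the closure of the image of `Spec A → Spec R` has dimension at most `dim A` -/
theorem ringKrullDim_quotient_ker_le (φ : R →ₐ[K] A) :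
    ringKrullDim (R ⧸ RingHom.ker (φ : R →+* A)) ≤ ringKrullDim A := by
  apply ringKrullDim_quotient_le_of_forall_minimalPrimes
  intro η hη
  obtain ⟨p, hp, -, hpη⟩ := Ideal.exists_comap_eq_of_mem_minimalPrimes (I := ⊥) (φ : R →+* A) η
    (by rwa [← RingHom.ker_eq_comap_bot])
  subst hpη
  have hηprime : (p.comap (φ : R →+* A)).IsPrime := hη.1.1
  let f : R ⧸ p.comap (φ : R →+* A) →ₐ[K] A ⧸ p := Ideal.quotientMapₐ p φ le_rfl
  have hf : Function.Injective f := Ideal.quotientMap_injective
  have hD : IsDomain (R ⧸ p.comap (φ : R →+* A)) := Ideal.Quotient.isDomain _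
  have hE : IsDomain (A ⧸ p) := Ideal.Quotient.isDomain _
  have hftD : Algebra.FiniteType K (R ⧸ p.comap (φ : R →+* A)) :=
    Algebra.FiniteType.of_surjective (Ideal.Quotient.mkₐ K _) (Ideal.Quotient.mkₐ_surjective K _)
  have hftE : Algebra.FiniteType K (A ⧸ p) :=
    Algebra.FiniteType.of_surjective (Ideal.Quotient.mkₐ K _) (Ideal.Quotient.mkₐ_surjective K _)
  exact (ringKrullDim_le_of_injective_domain f hf).trans (ringKrullDim_quotient_le p)

/-- a map of finitely generated algebras with finite fibres over all rational points does not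
raise the dimension -/
theorem ringKrullDim_le_of_finite_fibres [IsAlgClosed K] (φ : R →ₐ[K] A)
    (h : ∀ w : R →ₐ[K] K, {g : A →ₐ[K] K | g.comp φ = w}.Finite) :
    ringKrullDim A ≤ ringKrullDim (R ⧸ RingHom.ker (φ : R →+* A)) := by
  apply ringKrullDim_le_of_forall_minimalPrimes
  intro p hp
  have hpprime : p.IsPrime := hp.1.1
  have hηprime : (p.comap (φ : R →+* A)).IsPrime := Ideal.comap_isPrime _ _
  let f : R ⧸ p.comap (φ : R →+* A) →ₐ[K] A ⧸ p := Ideal.quotientMapₐ p φ le_rfl
  have hf : Function.Injective f := Ideal.quotientMap_injective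
  have hD : IsDomain (R ⧸ p.comap (φ : R →+* A)) := Ideal.Quotient.isDomain _
  have hE : IsDomain (A ⧸ p) := Ideal.Quotient.isDomain _
  have hftD : Algebra.FiniteType K (R ⧸ p.comap (φ : R →+* A)) :=
    Algebra.FiniteType.of_surjective (Ideal.Quotient.mkₐ K _) (Ideal.Quotient.mkₐ_surjective K _)
  have hftE : Algebra.FiniteType K (A ⧸ p) :=
    Algebra.FiniteType.of_surjective (Ideal.Quotient.mkₐ K _) (Ideal.Quotient.mkₐ_surjective K _)
  let _ : Algebra (R ⧸ p.comap (φ : R →+* A)) (A ⧸ p) := f.toRingHom.toAlgebra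
  have hst : IsScalarTower K (R ⧸ p.comap (φ : R →+* A)) (A ⧸ p) :=
    IsScalarTower.of_algebraMap_eq' f.comp_algebraMap.symm
  have h1 : ringKrullDim (A ⧸ p) ≤ ringKrullDim (R ⧸ p.comap (φ : R →+* A)) := by
    apply ringKrullDim_le_of_finite_fibres_domain (K := K) hf
    intro w
    refine Set.Finite.of_injOn (f := fun e : A ⧸ p →ₐ[K] K => e.comp (Ideal.Quotient.mkₐ K p))
      ?_ ?_ (h (w.comp (Ideal.Quotient.mkₐ K _)))
    · intro e he
      change e.comp (IsScalarTower.toAlgHom K _ _) = w at he
      change (e.comp (Ideal.Quotient.mkₐ K p)).comp φ = w.comp (Ideal.Quotient.mkₐ K _)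
      apply AlgHom.ext
      intro r
      rw [← he]
      rfl
    · intro e _ e' _ hee'
      apply AlgHom.ext
      intro a
      obtain ⟨a, rfl⟩ := Ideal.Quotient.mk_surjective a
      exact congrArg (fun g : A →ₐ[K] K => g a) hee'
  have hle : RingHom.ker (φ : R →+* A) ≤ p.comap (φ : R →+* A) := by
    rw [RingHom.ker_eq_comap_bot]
    exact Ideal.comap_mono bot_le
  have h2 : ringKrullDim (R ⧸ p.comap (φ : R →+* A)) ≤
      ringKrullDim (R ⧸ RingHom.ker (φ : R →+* A)) :=
    ringKrullDim_le_of_surjective (Ideal.Quotient.factor hle) (Ideal.Quotient.factor_surjective hle)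
  exact h1.trans h2

end General

section FiniteStab

variable {K : Type u} [Field K] [IsAlgClosed K] {A : Type u} [CommRing A] [HopfAlgebra K A]
  [Algebra.FiniteType K A]
variable {R : Type u} [CommRing R] [Algebra K R] [Algebra.FiniteType K R] [HopfRep.Comod K A R]
  [GLin.IsCoactAlg K A R]

omit [IsAlgClosed K] [Algebra.FiniteType K A] [Algebra.FiniteType K R] in
/-- the fibres of the orbit map are cosets of the stabiliser -/
theorem finite_fibre_of_finite_stabilizer (x : R →ₐ[K] K)
    (hfin : {g : A →ₐ[K] K | GLin.actPt K g x = x}.Finite) (w : R →ₐ[K] K) :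
    {g : A →ₐ[K] K | g.comp (GLin.orbitHom K A x) = w}.Finite := by
  by_cases hne : {g : A →ₐ[K] K | g.comp (GLin.orbitHom K A x) = w}.Nonempty
  · obtain ⟨g₀, hg₀⟩ := hne
    have hg₀' : GLin.actPt K g₀ x = w := hg₀
    refine Set.Finite.of_injOn
      (f := fun g : A →ₐ[K] K => (WithConv.toConv g * (WithConv.toConv g₀)⁻¹).ofConv) ?_ ?_ hfin
    · intro g hg
      have hg' : GLin.actPt K g x = w := hg
      change GLin.actPt K (WithConv.toConv g * (WithConv.toConv g₀)⁻¹).ofConv x = x
      have h1 := actPt_actPt g ((WithConv.toConv g₀)⁻¹).ofConv x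
      rw [WithConv.toConv_ofConv] at h1
      rw [← h1, hg', ← hg₀', actPt_inv_actPt]
    · intro g _ g' _ hgg'
      have h2 : WithConv.toConv g * (WithConv.toConv g₀)⁻¹ =
          WithConv.toConv g' * (WithConv.toConv g₀)⁻¹ := by
        have := congrArg WithConv.toConv hgg'
        simpa using this
      have h3 := mul_right_cancel h2
      exact WithConv.toConv_injective h3
  · rw [Set.not_nonempty_iff_eq_empty] at hne
    rw [hne]
    exact Set.finite_empty

/-- **A point with finite stabiliser lying in the closure of an orbit lies in that orbit.** -/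
theorem exists_actPt_of_finite_stabilizer (x y : R →ₐ[K] K)
    (hfin : {g : A →ₐ[K] K | GLin.actPt K g x = x}.Finite)
    (hxy : RingHom.ker (GLin.orbitHom K A y : R →+* A) ≤ RingHom.ker (x : R →+* K)) :
    ∃ g : A →ₐ[K] K, x = GLin.actPt K g y := by
  by_contra hnot
  push Not at hnot
  have hBL := ringKrullDim_succ_le_of_not_mem_orbit y x hxy hnot
  have ha := ringKrullDim_quotient_ker_le (GLin.orbitHom K A y)
  have hb := ringKrullDim_le_of_finite_fibres (GLin.orbitHom K A x)
    (finite_fibre_of_finite_stabilizer x hfin)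
  refine not_add_one_le_self ?_ ?_ (hBL.trans (ha.trans hb))
  · have hnt : Nontrivial (R ⧸ RingHom.ker (GLin.orbitHom K A x : R →+* A)) :=
      Ideal.Quotient.nontrivial_iff.mpr (ker_orbitHom_ne_top (A := A) x)
    exact (ringKrullDim_nonneg_of_nontrivial.trans_lt' (WithBot.bot_lt_coe 0)).ne'
  · have : Algebra.FiniteType K (R ⧸ RingHom.ker (GLin.orbitHom K A x : R →+* A)) :=
      Algebra.FiniteType.of_surjective (Ideal.Quotient.mkₐ K _)
        (Ideal.Quotient.mkₐ_surjective K _)
    exact ringKrullDim_lt_top_of_finiteType K _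

omit [IsAlgClosed K] [Algebra.FiniteType K A] [Algebra.FiniteType K R] in
/-- stabilisers of points of one orbit are conjugate -/
theorem finite_stabilizer_actPt (x : R →ₐ[K] K) (g : A →ₐ[K] K)
    (hfin : {h : A →ₐ[K] K | GLin.actPt K h x = x}.Finite) :
    {h : A →ₐ[K] K | GLin.actPt K h (GLin.actPt K g x) = GLin.actPt K g x}.Finite := by
  refine Set.Finite.of_injOn
    (f := fun h : A →ₐ[K] K =>
      (WithConv.toConv g * WithConv.toConv h * (WithConv.toConv g)⁻¹).ofConv) ?_ ?_ hfin
  · intro h hh
    have hh' : GLin.actPt K h (GLin.actPt K g x) = GLin.actPt K g x := hh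
    change GLin.actPt K (WithConv.toConv g * WithConv.toConv h * (WithConv.toConv g)⁻¹).ofConv x = x
    have h1 := actPt_actPt g h x
    have h2 := actPt_actPt (WithConv.toConv g * WithConv.toConv h).ofConv
      ((WithConv.toConv g)⁻¹).ofConv x
    rw [WithConv.toConv_ofConv, WithConv.toConv_ofConv] at h2
    rw [← h2, ← h1, hh', actPt_inv_actPt]
  · intro h _ h' _ hhh'
    have h2 : WithConv.toConv g * WithConv.toConv h * (WithConv.toConv g)⁻¹ =
        WithConv.toConv g * WithConv.toConv h' * (WithConv.toConv g)⁻¹ := by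
      have := congrArg WithConv.toConv hhh'
      simpa using this
    have h3 := mul_left_cancel (mul_right_cancel h2)
    exact WithConv.toConv_injective h3

end FiniteStab

section Stable

variable {K : Type u} [Field K] [IsAlgClosed K] {A : Type u} [CommRing A] [HopfAlgebra K A]
  [Algebra.FiniteType K A]
variable {R : Type u} [CommRing R] [Algebra K R] [Algebra.FiniteType K R] [HopfRep.Comod K A R]
  [GLin.IsCoactAlg K A R]

omit [IsAlgClosed K] [Algebra.FiniteType K A] [Algebra.FiniteType K R] in
theorem setOf_forall_act_eq (x : R →ₐ[K] K) :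
    {g : A →ₐ[K] K | ∀ f : R, x (HopfRep.Comod.act K A R g f) = x f} =
      {g : A →ₐ[K] K | GLin.actPt K g x = x} := by
  ext g
  simp only [Set.mem_ofPred_eq]
  constructor
  · intro h
    apply AlgHom.ext
    intro f
    rw [actPt_apply]
    exact h f
  · intro h f
    rw [← actPt_apply, h]

omit [IsAlgClosed K] [Algebra.FiniteType K A] [Algebra.FiniteType K R] in
/-- rational-point form of "`z` is in the closure of the orbit of `x`" implies the ideal form -/
theorem ker_orbitHom_le_ker_of_forall (x z : R →ₐ[K] K)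
    (hz : ∀ f : R, (∀ g : A →ₐ[K] K, x (HopfRep.Comod.act K A R g f) = 0) → z f = 0) :
    RingHom.ker (GLin.orbitHom K A x : R →+* A) ≤ RingHom.ker (z : R →+* K) := by
  intro f hf
  rw [RingHom.mem_ker] at hf ⊢
  apply hz
  intro g
  rw [apply_act_eq]
  change g ((GLin.orbitHom K A x : R →+* A) f) = 0
  rw [hf, map_zero]

/-- **A stable orbit is a full fibre of the quotient map**: if `x` has closed orbit and finite
stabiliser and the invariants agree at `x` and `y`, then `y` is in the orbit of `x`. -/
theorem exists_actPt_of_stable [IsSemisimpleModule (DualAlg K A) R] (x y : R →ₐ[K] K)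
    (hclosed : ∀ z : R →ₐ[K] K,
      RingHom.ker (GLin.orbitHom K A x : R →+* A) ≤ RingHom.ker (z : R →+* K) →
        ∃ g : A →ₐ[K] K, z = GLin.actPt K g x)
    (hfin : {g : A →ₐ[K] K | GLin.actPt K g x = x}.Finite)
    (hinv : ∀ f ∈ HopfRep.fixedPts K A R, x f = y f) :
    ∃ g : A →ₐ[K] K, y = GLin.actPt K g x := by
  obtain ⟨z, hz1, hz2⟩ := exists_common_point (A := A) x y hinv
  obtain ⟨g, hg⟩ := hclosed z hz1
  have h1 : RingHom.ker (GLin.orbitHom K A y : R →+* A) ≤
      RingHom.ker (GLin.actPt K ((WithConv.toConv g)⁻¹).ofConv z : R →+* K) :=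
    le_ker_actPt_of_le_ker z _ (isSubcomod_ker_orbitHom y) hz2 _
  rw [hg, actPt_inv_actPt] at h1
  obtain ⟨a, ha⟩ := exists_actPt_of_finite_stabilizer x y hfin h1
  refine ⟨((WithConv.toConv a)⁻¹).ofConv, ?_⟩
  rw [ha, actPt_inv_actPt]

end Stable

end Groth.Agent.Lib.Helper23.StabDim
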