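import Mathlib

/-!
# A noetherian augmented algebra with only trivial geometric points and tangent vectors (helper23)
-/

set_option autoImplicit false

namespace Groth.Agent.Lib.Helper23.TangentTrivial

universe u

open TrivSqZeroExt

variable {k : Type u} [Field k] {R : Type u} [CommRing R]

/-- The ring homomorphism `R → k[ε]`, `r ↦ ε(r) + λ(r - φ(ε r)) ε`, attached to a functional `λ`
vanishing on `m²`, `m = ker ε`. -/
noncomputable def tangentHom (φ : k →+* R) (ε : R →+* k) (hεφ : ∀ c, ε (φ c) = c)
    (l : R → k) (hl_add : ∀ a b, l (a + b) = l a + l b) (hl_smul : ∀ c a, l (φ c * a) = c * l a)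
    (hl_sq : ∀ a b, ε a = 0 → ε b = 0 → l (a * b) = 0) : R →+* DualNumber k where
  toFun r := inl (ε r) + inr (l (r - φ (ε r)))
  map_one' := by
    have h0 : l 0 = 0 := by
      have := hl_add 0 0
      simp only [add_zero] at this
      have h2 : l 0 + 0 = l 0 + l 0 := by rw [add_zero]; exact this
      exact (add_left_cancel h2).symm
    simp only [map_one, sub_self, h0, inr_zero, add_zero]
    rfl
  map_zero' := by
    have h0 : l 0 = 0 := by
      have := hl_add 0 0
      simp only [add_zero] at this
      have h2 : l 0 + 0 = l 0 + l 0 := by rw [add_zero]; exact this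
      exact (add_left_cancel h2).symm
    simp only [map_zero, sub_self, h0, inr_zero, add_zero, inl_zero]
  map_add' a b := by
    have e : a + b - φ (ε (a + b)) = (a - φ (ε a)) + (b - φ (ε b)) := by
      simp only [map_add]; ring
    rw [e, hl_add, map_add, inl_add, inr_add]
    abel
  map_mul' a b := by
    have ha : ε (a - φ (ε a)) = 0 := by rw [map_sub, hεφ, sub_self]
    have hb : ε (b - φ (ε b)) = 0 := by rw [map_sub, hεφ, sub_self]
    have e : a * b - φ (ε (a * b)) =
        (a - φ (ε a)) * (b - φ (ε b)) + (φ (ε a) * (b - φ (ε b)) + φ (ε b) * (a - φ (ε a))) := by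
      simp only [map_mul]; ring
    rw [e, hl_add, hl_add, hl_sq _ _ ha hb, hl_smul, hl_smul, zero_add, map_mul]
    apply TrivSqZeroExt.ext
    · simp
    · simp [mul_comm]

theorem tangentHom_apply (φ : k →+* R) (ε : R →+* k) (hεφ : ∀ c, ε (φ c) = c)
    (l : R → k) (hl_add : ∀ a b, l (a + b) = l a + l b) (hl_smul : ∀ c a, l (φ c * a) = c * l a)
    (hl_sq : ∀ a b, ε a = 0 → ε b = 0 → l (a * b) = 0) (r : R) :
    tangentHom φ ε hεφ l hl_add hl_smul hl_sq r = inl (ε r) + inr (l (r - φ (ε r))) := rfl

/-- Main algebraic lemma. -/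
theorem injective_of_trivial_points [IsNoetherianRing R]
    (φ : k →+* R) (ε : R →+* k) (hεφ : ∀ c, ε (φ c) = c)
    (h1 : ∀ (K : Type u) [Field K] [IsAlgClosed K] (χ : R →+* K) (r : R), χ r = χ (φ (ε r)))
    (h2 : ∀ ψ : R →+* DualNumber k, (∀ c, ψ (φ c) = algebraMap k (DualNumber k) c) →
      ∀ r, ψ r = algebraMap k (DualNumber k) (ε r)) :
    Function.Injective ε := by
  set m := RingHom.ker ε with hm
  -- m is contained in every prime
  have hprime : ∀ p : Ideal R, p.IsPrime → m ≤ p := by
    intro p hp r hr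
    let K := AlgebraicClosure (FractionRing (R ⧸ p))
    let χ : R →+* K := (algebraMap (FractionRing (R ⧸ p)) K).comp
      ((algebraMap (R ⧸ p) (FractionRing (R ⧸ p))).comp (Ideal.Quotient.mk p))
    have h := h1 K χ r
    have hr0 : ε r = 0 := hr
    rw [hr0, map_zero, map_zero] at h
    have h3 : (algebraMap (R ⧸ p) (FractionRing (R ⧸ p))) (Ideal.Quotient.mk p r) = 0 := by
      have : (algebraMap (FractionRing (R ⧸ p)) K)
          ((algebraMap (R ⧸ p) (FractionRing (R ⧸ p))) (Ideal.Quotient.mk p r)) = 0 := h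
      exact (map_eq_zero_iff _ (algebraMap (FractionRing (R ⧸ p)) K).injective).mp this
    have h4 : Ideal.Quotient.mk p r = 0 :=
      (map_eq_zero_iff _ (IsFractionRing.injective (R ⧸ p) (FractionRing (R ⧸ p)))).mp h3
    exact Ideal.Quotient.eq_zero_iff_mem.mp h4
  have hnil : m ≤ nilradical R := by
    rw [nilradical_eq_sInf]
    exact le_sInf fun p hp => hprime p hp
  obtain ⟨n, hn⟩ := IsNoetherianRing.isNilpotent_nilradical R
  have hmn : m ^ n = ⊥ := by
    rw [eq_bot_iff]
    calc m ^ n ≤ nilradical R ^ n := Ideal.pow_right_mono hnil n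
      _ = ⊥ := hn
  -- m ≤ m²
  have hsq : m ≤ m ^ 2 := by
    intro x hx
    by_contra hx2
    letI : Algebra k R := φ.toAlgebra
    let P : Submodule k R := (m ^ 2).restrictScalars k
    have hxP : x ∉ P := hx2
    obtain ⟨l, hlx, hlP⟩ := Submodule.exists_le_ker_of_notMem hxP
    have hsm : ∀ c a, l (φ c * a) = c * l a := by
      intro c a
      have : φ c * a = c • a := (Algebra.smul_def c a).symm
      rw [this, map_smul, smul_eq_mul]
    have hsq' : ∀ a b, ε a = 0 → ε b = 0 → l (a * b) = 0 := by
      intro a b ha hb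
      have hab : a * b ∈ m ^ 2 := by
        rw [pow_two]
        exact Ideal.mul_mem_mul ha hb
      exact hlP hab
    let ψ := tangentHom φ ε hεφ l (fun a b => map_add l a b) hsm hsq'
    have hψφ : ∀ c, ψ (φ c) = algebraMap k (DualNumber k) c := by
      intro c
      show tangentHom φ ε hεφ l _ hsm hsq' (φ c) = _
      rw [tangentHom_apply, hεφ, sub_self, map_zero, inr_zero, add_zero]
      rfl
    have h := h2 ψ hψφ x
    have hx0 : ε x = 0 := hx
    have h' : tangentHom φ ε hεφ l (fun a b => map_add l a b) hsm hsq' x =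
        algebraMap k (DualNumber k) (ε x) := h
    rw [tangentHom_apply, hx0, map_zero, sub_zero, map_zero, inl_zero, zero_add] at h'
    have h5 := congrArg TrivSqZeroExt.snd h'
    rw [snd_inr, snd_zero] at h5
    exact hlx h5
  have hpow : ∀ j : ℕ, 1 ≤ j → m ≤ m ^ j := by
    intro j hj
    induction j with
    | zero => omega
    | succ j ih =>
      rcases Nat.eq_zero_or_pos j with h0 | hpos
      · subst h0; simp
      · calc m ≤ m ^ 2 := hsq
          _ = m * m := pow_two m
          _ ≤ m ^ j * m := Ideal.mul_mono_left (ih hpos)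
          _ = m ^ (j + 1) := (pow_succ m j).symm
  have hm0 : m = ⊥ := by
    rcases Nat.eq_zero_or_pos n with h0 | hpos
    · subst h0
      rw [pow_zero, Ideal.one_eq_top] at hmn
      rw [eq_bot_iff]
      intro x _
      have : x ∈ (⊤ : Ideal R) := trivial
      rw [hmn] at this
      exact this
    · rw [eq_bot_iff]
      exact (hpow n hpos).trans hmn.le
  exact (RingHom.injective_iff_ker_eq_bot ε).mpr hm0

end Groth.Agent.Lib.Helper23.TangentTrivial
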