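import Mathlib
import Groth.Agent.Lib.Helper23.SepClosedDense
import Groth.Agent.Lib.Helper23.GrpSeparated

/-!
# Commutator laws on a smooth group scheme, checked on geometric points (helper23)

Group theory: for conjugation invariant sets `S`, `S'` one has
`⁅closure S, closure S'⁆ ≤ closure {⁅s, s'⁆}`.  Geometry: "word schemes" `(U, w : U ⟶ G)` with `U`
smooth; a word which is trivial on `K`-points (`K` separably closed) is trivial.
-/

set_option autoImplicit false
set_option linter.unusedSectionVars false

namespace Groth.Agent.Lib.Helper23.WordLaws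

universe u
open CategoryTheory MonoidalCategory CartesianMonoidalCategory MonObj AlgebraicGeometry Limits
open scoped commutatorElement

section GroupTheory

variable {Γ : Type*} [Group Γ]

/-- The set of commutators of elements of `S` and `S'`. -/
def commSet (S S' : Set Γ) : Set Γ := {g | ∃ a ∈ S, ∃ b ∈ S', ⁅a, b⁆ = g}

/-- Conjugation invariant sets. -/
def ConjInv (S : Set Γ) : Prop := ∀ g : Γ, ∀ s ∈ S, g * s * g⁻¹ ∈ S

theorem conjInv_univ : ConjInv (Set.univ : Set Γ) := fun _ _ _ => Set.mem_univ _

theorem conjInv_commSet {S S' : Set Γ} (h : ConjInv S) (h' : ConjInv S') :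
    ConjInv (commSet S S') := by
  rintro g _ ⟨a, ha, b, hb, rfl⟩
  exact ⟨_, h g a ha, _, h' g b hb, (conjugate_commutatorElement a b g).symm⟩

theorem normal_closure_of_conjInv {S : Set Γ} (h : ConjInv S) : (Subgroup.closure S).Normal := by
  constructor
  intro n hn g
  induction hn using Subgroup.closure_induction with
  | mem x hx => exact Subgroup.subset_closure (h g x hx)
  | one => simp
  | mul x y _ _ hx hy =>
    have e : g * (x * y) * g⁻¹ = (g * x * g⁻¹) * (g * y * g⁻¹) := by group
    rw [e]
    exact mul_mem hx hy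
  | inv x _ hx =>
    have e : g * x⁻¹ * g⁻¹ = (g * x * g⁻¹)⁻¹ := by group
    rw [e]
    exact inv_mem hx

theorem commutator_closure_le {S S' : Set Γ} (h : ConjInv S) (h' : ConjInv S') :
    ⁅Subgroup.closure S, Subgroup.closure S'⁆ ≤ Subgroup.closure (commSet S S') := by
  have hN := normal_closure_of_conjInv (conjInv_commSet h h')
  set N := Subgroup.closure (commSet S S') with hNdef
  have step1 : ∀ s ∈ S, ∀ b ∈ Subgroup.closure S', ⁅s, b⁆ ∈ N := by
    intro s hs b hb
    induction hb using Subgroup.closure_induction with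
    | mem x hx => exact Subgroup.subset_closure ⟨s, hs, x, hx, rfl⟩
    | one => rw [commutatorElement_one_right]; exact one_mem _
    | mul x y _ _ hx hy =>
      rw [commutatorElement_mul_right_eq_mul_conj]
      have e : ⁅s, x⁆ * x * ⁅s, y⁆ * x⁻¹ = ⁅s, x⁆ * (x * ⁅s, y⁆ * x⁻¹) := by group
      rw [e]
      exact mul_mem hx (hN.conj_mem _ hy x)
    | inv x _ hx =>
      rw [commutatorElement_inv_right, ← commutatorElement_inv]
      have := hN.conj_mem _ (inv_mem hx) x⁻¹
      simpa using this
  rw [Subgroup.commutator_le]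
  intro a ha b hb
  induction ha using Subgroup.closure_induction with
  | mem x hx => exact step1 x hx b hb
  | one => rw [commutatorElement_one_left]; exact one_mem _
  | mul x y _ _ hx hy =>
    rw [commutatorElement_mul_left_eq_conj_mul]
    exact mul_mem (hN.conj_mem _ hy x) hx
  | inv x _ hx =>
    rw [commutatorElement_inv_left, ← commutatorElement_inv]
    have := hN.conj_mem _ (inv_mem hx) x⁻¹
    simpa using this

end GroupTheory

section Geometry

variable {k : Type u} [Field k]

/-- A word scheme: a smooth `k`-scheme `U` with a morphism to `G`. -/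
structure Word (G : Over (Spec (CommRingCat.of k))) where
  /-- the parameter scheme -/
  U : Over (Spec (CommRingCat.of k))
  /-- the word -/
  w : U ⟶ G
  smooth : Smooth U.hom

variable {G : Over (Spec (CommRingCat.of k))} [GrpObj G]

/-- The word `x`. -/
noncomputable def Word.base [Smooth G.hom] : Word G := ⟨G, 𝟙 G, inferInstance⟩

/-- The commutator of two words in disjoint sets of variables. -/
noncomputable def Word.comm (A B : Word G) : Word G where
  U := A.U ⊗ B.U
  w := ⁅fst A.U B.U ≫ A.w, snd A.U B.U ≫ B.w⁆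
  smooth := by
    have := A.smooth
    have := B.smooth
    exact inferInstanceAs (Smooth (pullback.fst A.U.hom B.U.hom ≫ A.U.hom))

/-- The values of a word on `T`-points. -/
def Word.val (A : Word G) (T : Over (Spec (CommRingCat.of k))) : Set (T ⟶ G) :=
  Set.range fun t : T ⟶ A.U => t ≫ A.w

theorem comp_commutator {T T' : Over (Spec (CommRingCat.of k))} (t : T' ⟶ T) (a b : T ⟶ G) :
    t ≫ ⁅a, b⁆ = ⁅t ≫ a, t ≫ b⁆ := by
  simp only [commutatorElement_def, MonObj.comp_mul, GrpObj.comp_inv]

theorem Word.val_base [Smooth G.hom] (T : Over (Spec (CommRingCat.of k))) :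
    (Word.base (G := G)).val T = Set.univ := by
  ext g
  simp only [Set.mem_univ, iff_true]
  exact ⟨g, Category.comp_id g⟩

theorem Word.val_comm (A B : Word G) (T : Over (Spec (CommRingCat.of k))) :
    (A.comm B).val T = commSet (A.val T) (B.val T) := by
  ext g
  constructor
  · rintro ⟨t, rfl⟩
    refine ⟨t ≫ fst A.U B.U ≫ A.w, ⟨t ≫ fst A.U B.U, Category.assoc _ _ _⟩,
      t ≫ snd A.U B.U ≫ B.w, ⟨t ≫ snd A.U B.U, Category.assoc _ _ _⟩, ?_⟩
    exact (comp_commutator t _ _).symm
  · rintro ⟨_, ⟨t₁, rfl⟩, _, ⟨t₂, rfl⟩, rfl⟩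
    refine ⟨lift t₁ t₂, ?_⟩
    show lift t₁ t₂ ≫ ⁅fst A.U B.U ≫ A.w, snd A.U B.U ≫ B.w⁆ = _
    rw [comp_commutator, lift_fst_assoc, lift_snd_assoc]

/-- A word vanishing on `K`-points (`K` separably closed) vanishes on all points. -/
theorem Word.val_subset_one (K : Type u) [Field K] [Algebra k K] [IsSepClosed K] (A : Word G)
    (hK : A.val (Over.mk (Spec.map (CommRingCat.ofHom (algebraMap k K)))) ⊆ {1})
    (T : Over (Spec (CommRingCat.of k))) : A.val T ⊆ {1} := by
  have hsep : IsSeparated G.hom := Groth.Agent.Lib.Helper23.GrpSeparated.isSeparated_of_field G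
  have := A.smooth
  have key : A.w = 1 := by
    apply Groth.Agent.Lib.Helper23.SepClosedDense.hom_ext_of_points_of_smooth K A.U G
    intro x
    have h1 : x ≫ A.w = 1 := hK ⟨x, rfl⟩
    rw [h1, MonObj.comp_one]
  rintro _ ⟨t, rfl⟩
  show t ≫ A.w = 1
  rw [key, MonObj.comp_one]

end Geometry

end Groth.Agent.Lib.Helper23.WordLaws
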